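import Cfsg.Agent.Lib.Classical.MaxTransvection
import Cfsg.Agent.Lib.Classical.MaxLinWreath
import Cfsg.Agent.Lib.Classical.MaxQuadratic

/-!
An irreducible subgroup of `GL` in dimension three with one full root group contains `SL`.
-/

set_option autoImplicit false
set_option linter.unusedSectionVars false

namespace Cfsg.Agent.Classical.SLThree

open Matrix Module MaxTv

variable {F : Type*} [Field F]

local notation "V" => (Fin 3 → F)
local notation "M₃" => Matrix (Fin 3) (Fin 3) F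

/-- `a` and `b` span a line of the plane. -/
def Indep (a b : Fin 3 → F) : Prop := crossProduct a b ≠ 0

theorem indep_iff {a b : V} : Indep a b ↔ LinearIndependent F ![a, b] :=
  crossProduct_ne_zero_iff_linearIndependent

theorem Indep.symm {a b : V} (h : Indep a b) : Indep b a := by
  rw [Indep, ← cross_anticomm]
  exact neg_ne_zero.2 h

theorem Indep.ne_zero {a b : V} (h : Indep a b) : a ≠ 0 := fun e => h (by simp [e])

theorem indep_of_not_mem {a b : V} (ha : a ≠ 0) (hb : ∀ t : F, b ≠ t • a) : Indep a b := by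
  rw [indep_iff, LinearIndependent.pair_iff' ha]
  exact fun t ht => hb t ht.symm

theorem Indep.not_smul {a b : V} (h : Indep a b) (t : F) : b ≠ t • a := by
  rintro rfl
  exact h (by simp)

theorem Indep.dot {a b c : V} (h : c ⬝ᵥ a = 0) (h' : c ⬝ᵥ b ≠ 0) (ha : a ≠ 0) : Indep a b :=
  indep_of_not_mem ha fun t e => h' (by rw [e, dotProduct_smul, h, smul_zero])

theorem cross_dot_left (a b : V) : crossProduct a b ⬝ᵥ a = 0 := by rw [dotProduct_comm, dot_self_cross]

theorem cross_dot_right (a b : V) : crossProduct a b ⬝ᵥ b = 0 := by rw [dotProduct_comm, dot_cross_self]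

/-- Two independent vectors span the zeros of any functional killing them. -/
theorem Indep.exists_comb {a b φ z : V} (h : Indep a b) (hφ : φ ≠ 0) (ha : φ ⬝ᵥ a = 0) (hb : φ ⬝ᵥ b = 0)
    (hz : φ ⬝ᵥ z = 0) : ∃ s t : F, z = s • a + t • b := by
  have hli := indep_iff.1 h
  let K : Submodule F V :=
    { carrier := {x | φ ⬝ᵥ x = 0}
      add_mem' := fun {x y} hx hy => by
        simp only [Set.mem_ofPred_eq] at hx hy ⊢
        rw [dotProduct_add, hx, hy, add_zero]
      zero_mem' := dotProduct_zero _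
      smul_mem' := fun c x hx => by
        simp only [Set.mem_ofPred_eq] at hx ⊢
        rw [dotProduct_smul, hx, smul_zero] }
  have hle : Submodule.span F (Set.range ![a, b]) ≤ K := Submodule.span_le.2 fun x hx => by
    obtain ⟨i, rfl⟩ := hx
    fin_cases i
    · exact ha
    · exact hb
  have h2 : finrank F (Submodule.span F (Set.range ![a, b])) = 2 := by
    rw [finrank_span_eq_card hli]; simp
  have hne : K ≠ ⊤ := fun e => hφ (dotProduct_eq_zero _ fun x => (e ▸ Submodule.mem_top : x ∈ K))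
  have h3 := Submodule.finrank_lt hne
  rw [finrank_fin_fun] at h3
  have he : Submodule.span F (Set.range ![a, b]) = K := Submodule.eq_of_le_of_finrank_le hle (by omega)
  have hzK : z ∈ K := hz
  rw [← he, Submodule.mem_span_range_iff_exists_fun] at hzK
  obtain ⟨c, hc⟩ := hzK
  exact ⟨c 0, c 1, by rw [← hc, Fin.sum_univ_two]; rfl⟩

/-- The functionals killing two independent vectors are proportional. -/
theorem Indep.functional {a b φ ψ : V} (h : Indep a b) (hφ : φ ≠ 0) (ha : φ ⬝ᵥ a = 0) (hb : φ ⬝ᵥ b = 0)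
    (ha' : ψ ⬝ᵥ a = 0) (hb' : ψ ⬝ᵥ b = 0) : ∃ t : F, ψ = t • φ := by
  by_contra hc
  push Not at hc
  obtain ⟨z, hz1, hz2⟩ := exists_ker_dot (φ := ψ) (ψ := φ) hc 1
  obtain ⟨s, t, rfl⟩ := h.exists_comb hφ ha hb hz1
  rw [dotProduct_add, dotProduct_smul, dotProduct_smul, ha', hb', smul_zero, smul_zero, add_zero] at hz2
  exact zero_ne_one hz2

variable {X : Subgroup (GL (Fin 3) F)} {v w φ ψ : Fin 3 → F}

/-- All transvections with the given centre and axis. -/
def InR (X : Subgroup (GL (Fin 3) F)) (v φ : Fin 3 → F) : Prop := ∀ c : F, InT X v (c • φ)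

/-- No proper subspace is invariant. -/
def Irr (X : Subgroup (GL (Fin 3) F)) : Prop := Geo.ActsIrreducibly (Geo.matrixSet X)

theorem InR.mono {Y : Subgroup (GL (Fin 3) F)} (h : InR X v φ) (hle : X ≤ Y) : InR Y v φ :=
  fun c => (h c).mono hle

theorem InR.smul (h : InR X v φ) (s t : F) : InR X (s • v) (t • φ) := fun c => by
  have := (h (s * (c * t))).mono le_rfl
  rw [← smul_smul s, ← smul_smul c] at this
  exact this.scale_left

theorem InR.of_smul {t : F} (ht : t ≠ 0) (h : InR X v (t • φ)) : InR X v φ := fun c => by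
  have := h (c / t)
  rwa [smul_smul, div_mul_cancel₀ c ht] at this

theorem InR.conj (h : InR X v φ) {g : GL (Fin 3) F} (hg : g ∈ X) :
    InR X ((g : M₃) *ᵥ v) (φ ᵥ* ((g⁻¹ : GL (Fin 3) F) : M₃)) := fun c => by
  have := (h c).conj hg
  rwa [Matrix.smul_vecMul] at this

theorem InR.add_left {u : V} (h : InR X v φ) (h' : InR X u φ) (hu : φ ⬝ᵥ u = 0) : InR X (v + u) φ :=
  fun c => (h c).add_left (h' c) (by rw [smul_dotProduct, hu, smul_zero])

theorem InR.add_right (h : InR X v φ) (h' : InR X v ψ) (hv : φ ⬝ᵥ v = 0) : InR X v (φ + ψ) := fun c => by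
  rw [smul_add]
  exact (h c).add_right (h' c) (by rw [smul_dotProduct, hv, smul_zero])

/-- The commutator of two transvections, one centre lying on the axis of the other. -/
theorem rule {d l Q χ : V} (h : InT X d l) (h' : InT X Q χ) (hd : l ⬝ᵥ d = 0) (hQ : l ⬝ᵥ Q = 0)
    (hχ : χ ⬝ᵥ Q = 0) : InT X ((χ ⬝ᵥ d) • Q) l := by
  have h1 := h.tv_conj h' hχ
  rw [hQ, zero_smul, sub_zero] at h1
  have h2 := h1.add_left (h.neg_left hd) (by rw [dotProduct_neg, hd, neg_zero])
  rwa [add_neg_cancel_comm] at h2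

theorem InR.rule {d l Q χ : V} (h : InR X d l) (h' : InT X Q χ) (hd : l ⬝ᵥ d = 0) (hQ : l ⬝ᵥ Q = 0)
    (hχ : χ ⬝ᵥ Q = 0) (hne : χ ⬝ᵥ d ≠ 0) : InR X Q l := fun c => by
  have h1 := SLThree.rule (h (c / (χ ⬝ᵥ d))) h' (by rw [smul_dotProduct, hd, smul_zero])
    (by rw [smul_dotProduct, hQ, smul_zero]) hχ
  have h2 := h1.scale_right
  rwa [smul_smul, mul_div_cancel₀ c hne] at h2

theorem Irr.span_orbit (hX : Irr X) (hv : v ≠ 0) :
    Submodule.span F (Set.range fun g : X => ((g : GL (Fin 3) F) : M₃) *ᵥ v) = ⊤ := by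
  rcases hX (Submodule.span F (Set.range fun g : X => ((g : GL (Fin 3) F) : M₃) *ᵥ v)) (fun s hs => by
    obtain ⟨k, hk, rfl⟩ := hs
    rw [Submodule.map_span, Submodule.span_le]
    rintro _ ⟨_, ⟨g, rfl⟩, rfl⟩
    refine Submodule.subset_span ⟨⟨k * g, mul_mem hk g.2⟩, ?_⟩
    simp [Matrix.mulVec_mulVec]) with h | h
  · refine absurd ?_ hv
    have := (Submodule.eq_bot_iff _).1 h _ (Submodule.subset_span ⟨1, rfl⟩)
    simpa using this
  · exact h

theorem Irr.exists_move (hX : Irr X) (hv : v ≠ 0) (hφ : φ ≠ 0) :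
    ∃ g ∈ X, φ ⬝ᵥ ((g : M₃) *ᵥ v) ≠ 0 := by
  by_contra hc
  push Not at hc
  refine hφ (dotProduct_eq_zero _ fun x => ?_)
  have hx : x ∈ Submodule.span F (Set.range fun g : X => ((g : GL (Fin 3) F) : M₃) *ᵥ v) := by
    rw [hX.span_orbit hv]; trivial
  induction hx using Submodule.span_induction with
  | mem z hz => obtain ⟨g, rfl⟩ := hz; exact hc _ g.2
  | zero => exact dotProduct_zero _
  | add a b _ _ ha hb => rw [dotProduct_add, ha, hb, add_zero]
  | smul t a _ ha => rw [dotProduct_smul, ha, smul_zero]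

/-- A vector with all its transvections. -/
theorem specialLinear_le_of_star (hX : Irr X) (hv : v ≠ 0) (h : v ∈ tvCentres X) :
    Geo.specialLinear (Fin 3) F ≤ X := by
  rcases hX (tvCentres X) (fun s hs => by
    obtain ⟨k, hk, rfl⟩ := hs
    rintro _ ⟨x, hx, rfl⟩
    rw [Matrix.toLin'_apply]
    exact tvCentres_conj hx hk) with e | e
  · exact absurd ((Submodule.eq_bot_iff _).1 e v h) hv
  · exact MaxTv.specialLinear_le fun u θ hθ => (e ▸ Submodule.mem_top : u ∈ tvCentres X) θ hθ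

theorem specialLinear_le_of_two_axes (hX : Irr X) (hv : v ≠ 0) (h : InR X v φ) (h' : InR X v ψ)
    (hφ : φ ⬝ᵥ v = 0) (hψ : ψ ⬝ᵥ v = 0) (hi : Indep φ ψ) : Geo.specialLinear (Fin 3) F ≤ X := by
  refine specialLinear_le_of_star hX hv fun θ hθ => ?_
  obtain ⟨s, t, rfl⟩ := hi.exists_comb hv (by rw [dotProduct_comm, hφ]) (by rw [dotProduct_comm, hψ])
    (by rw [dotProduct_comm, hθ])
  exact (h s).add_right (h' t) (by rw [smul_dotProduct, hφ, smul_zero])

theorem specialLinear_le_of_two_centres (hX : Irr X) {a b l : V} (hl : l ≠ 0) (h : InR X a l)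
    (h' : InR X b l) (ha : l ⬝ᵥ a = 0) (hb : l ⬝ᵥ b = 0) (hi : Indep a b) :
    Geo.specialLinear (Fin 3) F ≤ X := by
  obtain ⟨g, hg, hne⟩ : ∃ g ∈ X, ∀ t : F, l ᵥ* ((g⁻¹ : GL (Fin 3) F) : M₃) ≠ t • l := by
    by_contra hc
    push Not at hc
    obtain ⟨g, hg, hga⟩ := hX.exists_move hi.ne_zero hl
    obtain ⟨t, ht⟩ := hc g⁻¹ (inv_mem hg)
    rw [inv_inv] at ht
    refine hga ?_
    rw [Matrix.dotProduct_mulVec, ht, smul_dotProduct, ha, smul_zero]
  set l' := l ᵥ* ((g⁻¹ : GL (Fin 3) F) : M₃) with hl'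
  have hR : crossProduct l l' ≠ 0 := indep_of_not_mem hl hne
  have h0 : l ⬝ᵥ crossProduct l l' = 0 := dot_self_cross _ _
  have h0' : l' ⬝ᵥ crossProduct l l' = 0 := dot_cross_self _ _
  have hall : ∀ z, l ⬝ᵥ z = 0 → InR X z l := fun z hz => by
    obtain ⟨s, t, rfl⟩ := hi.exists_comb hl ha hb hz
    have h1 := (h.smul s 1).add_left (h'.smul t 1) (by rw [one_smul, dotProduct_smul, hb, smul_zero])
    rwa [one_smul] at h1
  refine specialLinear_le_of_two_axes hX hR (hall _ h0) ?_ h0 h0' (indep_of_not_mem hl hne)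
  have h2 := (hall (((g⁻¹ : GL (Fin 3) F) : M₃) *ᵥ crossProduct l l') (by
    rw [Matrix.dotProduct_mulVec, ← hl', h0'])).conj hg
  rwa [← hl', mulVec_inv_cancel] at h2

/-- An irreducible group with a full root group. -/
theorem specialLinear_le_of_root (hX : Irr X) (hv : v ≠ 0) (hφ : φ ≠ 0) (hvφ : φ ⬝ᵥ v = 0)
    (h : InR X v φ) : Geo.specialLinear (Fin 3) F ≤ X := by
  by_cases hopp : ∃ g ∈ X, φ ⬝ᵥ ((g : M₃) *ᵥ v) ≠ 0 ∧ (φ ᵥ* ((g⁻¹ : GL (Fin 3) F) : M₃)) ⬝ᵥ v ≠ 0
  swap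
  · -- one centre on the axis of the other
    push Not at hopp
    obtain ⟨g, hg, hne⟩ := hX.exists_move hv hφ
    set c := (g : M₃) *ᵥ v with hc
    set θ := φ ᵥ* ((g⁻¹ : GL (Fin 3) F) : M₃) with hθ
    have hθv : θ ⬝ᵥ v = 0 := hopp g hg hne
    have hθc : θ ⬝ᵥ c = 0 := by rw [hθ, hc, vecMul_inv_dot, hvφ]
    have hr : InR X c θ := h.conj hg
    have hθ0 : θ ≠ 0 := fun e => hφ (by
      have h1 : θ ᵥ* (g : M₃) = φ := by
        rw [hθ, Matrix.vecMul_vecMul, ← Units.val_mul, inv_mul_cancel, Units.val_one, Matrix.vecMul_one]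
      rw [← h1, e, Matrix.zero_vecMul])
    exact specialLinear_le_of_two_centres hX hθ0 (InR.rule hr (by simpa using h 1) hθc hθv hvφ hne) hr hθv
      hθc (Indep.dot hvφ hne hv)
  obtain ⟨g₂, hg₂, hφc, hψv⟩ := hopp
  set c := (g₂ : M₃) *ᵥ v with hcdef
  set ψ := φ ᵥ* ((g₂⁻¹ : GL (Fin 3) F) : M₃) with hψdef
  have hψc : ψ ⬝ᵥ c = 0 := by rw [hψdef, hcdef, vecMul_inv_dot, hvφ]
  have hr : InR X c ψ := h.conj hg₂
  have hvc : Indep v c := Indep.dot hvφ hφc hv
  have hc0 : c ≠ 0 := hvc.symm.ne_zero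
  set P := crossProduct φ ψ with hP
  have hφψ : Indep φ ψ := Indep.dot (c := v) (by rw [dotProduct_comm, hvφ])
    (by rw [dotProduct_comm]; exact hψv) hφ
  have hPφ : φ ⬝ᵥ P = 0 := dot_self_cross _ _
  have hPψ : ψ ⬝ᵥ P = 0 := dot_cross_self _ _
  -- every point of the line through the two centres
  have hline : ∀ a b : F, (a • v + b • c) ≠ 0 → ∃ χ : V,
      χ ≠ 0 ∧ χ ⬝ᵥ (a • v + b • c) = 0 ∧ χ ⬝ᵥ P = 0 ∧ InR X (a • v + b • c) χ := by
    intro a b hab
    rcases eq_or_ne a 0 with rfl | ha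
    · refine ⟨ψ, hφψ.symm.ne_zero, by rw [zero_smul, zero_add, dotProduct_smul, hψc, smul_zero], hPψ, ?_⟩
      have := hr.smul b 1
      rwa [one_smul, ← zero_add (b • c), ← zero_smul F v] at this
    set x := b / a / (ψ ⬝ᵥ v) with hx
    obtain ⟨k, hk, hkx⟩ := hr x
    have hkv : (k : M₃) *ᵥ v = v + (b / a) • c := by
      rw [hkx, smul_dotProduct, smul_eq_mul, hx, div_mul_cancel₀ _ hψv]
    have hkP : (k : M₃) *ᵥ P = P := by rw [hkx, smul_dotProduct, hPψ, smul_zero, zero_smul, add_zero]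
    have hav : a • ((k : M₃) *ᵥ v) = a • v + b • c := by
      rw [hkv, smul_add, smul_smul, mul_div_cancel₀ _ ha]
    refine ⟨φ ᵥ* ((k⁻¹ : GL (Fin 3) F) : M₃), fun e => hφ ?_, ?_, ?_, ?_⟩
    · have h1 := congrArg (fun z => z ᵥ* (k : M₃)) e
      simpa [Matrix.vecMul_vecMul] using h1
    · rw [← hav, dotProduct_smul, vecMul_inv_dot, hvφ, smul_zero]
    · conv_lhs => rw [← hkP]
      rw [vecMul_inv_dot, hPφ]
    · have := (h.conj hk).smul a 1
      rwa [hav, one_smul] at this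
  -- a centre off this line
  obtain ⟨g, hg, hgn⟩ := hX.exists_move hv (show crossProduct v c ≠ 0 from hvc)
  set d := (g : M₃) *ᵥ v with hd
  set l := φ ᵥ* ((g⁻¹ : GL (Fin 3) F) : M₃) with hl
  have hld : l ⬝ᵥ d = 0 := by rw [hl, hd, vecMul_inv_dot, hvφ]
  have hrd : InR X d l := h.conj hg
  have hl0 : l ≠ 0 := fun e => hφ (by
    have h1 := congrArg (fun z => z ᵥ* (g : M₃)) e
    simpa [hl, Matrix.vecMul_vecMul] using h1)
  have hnv : crossProduct v c ⬝ᵥ v = 0 := cross_dot_left _ _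
  have hnc : crossProduct v c ⬝ᵥ c = 0 := cross_dot_right _ _
  set Q := (l ⬝ᵥ c) • v + (-(l ⬝ᵥ v)) • c with hQ
  have hQn : crossProduct v c ⬝ᵥ Q = 0 := by
    rw [hQ, dotProduct_add, dotProduct_smul, dotProduct_smul, hnv, hnc, smul_zero, smul_zero, add_zero]
  have hlQ : l ⬝ᵥ Q = 0 := by
    rw [hQ, dotProduct_add, dotProduct_smul, dotProduct_smul, smul_eq_mul, smul_eq_mul]; ring
  have hQ0 : Q ≠ 0 := fun e => by
    obtain ⟨h1, h2⟩ := LinearIndependent.pair_iff.1 (indep_iff.1 hvc) _ _ e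
    obtain ⟨t, ht⟩ := hvc.functional hvc (cross_dot_left _ _) (cross_dot_right _ _) (neg_eq_zero.1 h2) h1
    rcases eq_or_ne t 0 with rfl | ht0
    · exact hl0 (by rw [ht, zero_smul])
    · rw [ht, smul_dotProduct, smul_eq_mul, mul_eq_zero] at hld
      exact hgn (hld.resolve_left ht0)
  obtain ⟨χ, hχ0, hχQ, hχP, hχR⟩ := hline _ _ hQ0
  have hQd : Indep Q d := Indep.dot hQn hgn hQ0
  by_cases hlP : l ⬝ᵥ P = 0
  · -- the axis passes through the common point
    have hQP : Indep Q P := (indep_of_not_mem (show P ≠ 0 from hφψ) fun t e => hQ0 (by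
      have h1 := congrArg (φ ⬝ᵥ ·) e
      have h2 := congrArg (ψ ⬝ᵥ ·) e
      simp only [hQ, dotProduct_add, dotProduct_smul, hvφ, hψc, hPφ, hPψ, smul_eq_mul, mul_zero, zero_add,
        add_zero, mul_eq_zero, or_iff_left hφc, or_iff_left hψv] at h1 h2
      rw [hQ, h1, h2, zero_smul, zero_smul, add_zero])).symm
    obtain ⟨t, ht⟩ := hQP.functional hl0 hlQ hlP hχQ hχP
    have ht0 : t ≠ 0 := fun e => hχ0 (by rw [ht, e, zero_smul])
    rw [ht] at hχR
    exact specialLinear_le_of_two_centres hX hl0 (hχR.of_smul ht0) hrd hlQ hld hQd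
  · have hχd : χ ⬝ᵥ d ≠ 0 := fun e => by
      obtain ⟨t, ht⟩ := hQd.functional hl0 hlQ hld hχQ e
      rw [ht, smul_dotProduct, smul_eq_mul, mul_eq_zero] at hχP
      exact hlP (hχP.resolve_left fun e' => hχ0 (by rw [ht, e', zero_smul]))
    exact specialLinear_le_of_two_axes hX hQ0 hχR (InR.rule hrd (one_smul F χ ▸ hχR 1) hld hlQ hχQ hχd)
      hχQ hlQ (indep_of_not_mem hχ0 fun t e => hlP (by rw [e, smul_dotProduct, hχP, smul_zero]))

end Cfsg.Agent.Classical.SLThree
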