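import Cfsg.Agent.Lib.Classical.SLThree.Forms

/-!
The field of a frame of six root groups in dimension three, and the dual subgroup.
-/

set_option autoImplicit false
set_option linter.unusedSectionVars false

namespace Cfsg.Agent.Classical.SLThree

open Matrix Module MaxTv

variable {F : Type*} [Field F]

local notation "V" => (Fin 3 → F)
local notation "M₃" => Matrix (Fin 3) (Fin 3) F

/-- The inverse transpose. -/
def invT : GL (Fin 3) F →* GL (Fin 3) F where
  toFun g := ⟨((g⁻¹ : GL (Fin 3) F) : M₃)ᵀ, (g : M₃)ᵀ,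
    by rw [← Matrix.transpose_mul, ← Units.val_mul, mul_inv_cancel, Units.val_one, Matrix.transpose_one],
    by rw [← Matrix.transpose_mul, ← Units.val_mul, inv_mul_cancel, Units.val_one, Matrix.transpose_one]⟩
  map_one' := Units.ext (by simp)
  map_mul' a b := Units.ext (by simp [Matrix.transpose_mul])

theorem invT_apply (g : GL (Fin 3) F) : (invT g : M₃) = ((g⁻¹ : GL (Fin 3) F) : M₃)ᵀ := rfl

theorem invT_invT (g : GL (Fin 3) F) : invT (invT g) = g :=
  Units.ext (by rw [invT_apply, ← map_inv, invT_apply, inv_inv, Matrix.transpose_transpose])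

variable {M : Subgroup (GL (Fin 3) F)} {v φ : Fin 3 → F}

/-- The subgroup of inverse transposes. -/
def dual (M : Subgroup (GL (Fin 3) F)) : Subgroup (GL (Fin 3) F) := M.comap invT

theorem dual_dual : dual (dual M) = M := by
  ext g
  simp [dual, invT_invT]

theorem mem_dual {g : GL (Fin 3) F} : g ∈ dual M ↔ invT g ∈ M := Iff.rfl

theorem inT_dual (hv : φ ⬝ᵥ v = 0) (h : InT M v φ) : InT (dual M) φ v := by
  obtain ⟨g, hg, hgx⟩ := h
  have h1 : InT (dual M) φ (-v) := by
    refine ⟨invT g, by rw [mem_dual, invT_invT]; exact hg, fun x => ?_⟩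
    rw [invT_apply, Matrix.mulVec_transpose]
    refine dotProduct_eq _ _ fun z => ?_
    obtain ⟨y, rfl⟩ : ∃ y, z = (g : M₃) *ᵥ y := ⟨_, (mulVec_inv_cancel g z).symm⟩
    rw [vecMul_inv_dot, hgx]
    simp only [add_dotProduct, smul_dotProduct, neg_dotProduct, dotProduct_add, dotProduct_smul, hv, smul_eq_mul,
      mul_zero, add_zero, dotProduct_comm v x]
    ring
  have := h1.neg (by rw [neg_dotProduct, dotProduct_comm, hv, neg_zero])
  rwa [neg_neg] at this

theorem inT_dual_iff (hv : φ ⬝ᵥ v = 0) : InT (dual M) φ v ↔ InT M v φ := by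
  refine ⟨fun h => ?_, inT_dual hv⟩
  have := inT_dual (by rwa [dotProduct_comm]) h
  rwa [dual_dual] at this

theorem inT_comap {D : GL (Fin 3) F} :
    InT (M.comap (MulAut.conj D).toMonoidHom) v φ ↔
      InT M ((D : M₃) *ᵥ v) (φ ᵥ* ((D⁻¹ : GL (Fin 3) F) : M₃)) := by
  constructor
  · rintro ⟨g, hg, hgx⟩
    refine ⟨D * g * D⁻¹, hg, fun x => ?_⟩
    rw [Units.val_mul, Units.val_mul, ← Matrix.mulVec_mulVec, ← Matrix.mulVec_mulVec, hgx, Matrix.mulVec_add,
      mulVec_inv_cancel, Matrix.mulVec_smul, Matrix.dotProduct_mulVec]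
  · rintro ⟨g, hg, hgx⟩
    refine ⟨D⁻¹ * g * D, ?_, fun x => ?_⟩
    · rw [Subgroup.mem_comap]
      show D * (D⁻¹ * g * D) * D⁻¹ ∈ M
      rwa [show D * (D⁻¹ * g * D) * D⁻¹ = g by group]
    · rw [Units.val_mul, Units.val_mul, ← Matrix.mulVec_mulVec, ← Matrix.mulVec_mulVec, hgx, Matrix.mulVec_add,
        inv_mulVec_cancel, Matrix.mulVec_smul, inv_mulVec_cancel, vecMul_inv_dot]

/-- A coordinate vector. -/
def e (i : Fin 3) : Fin 3 → F := Pi.single i 1

theorem e_dot (i : Fin 3) (x : V) : e i ⬝ᵥ x = x i := by simp [e, single_dotProduct]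

theorem e_orth {i j : Fin 3} (h : i ≠ j) : (e i : V) ⬝ᵥ e j = 0 := by rw [e_dot]; simp [e, h]

/-- The six root groups of the coordinate frame are those of the subfield `K`. -/
def Exact (M : Subgroup (GL (Fin 3) F)) (K : Subfield F) : Prop :=
  ∀ i j, i ≠ j → ∀ c : F, InT M (e i) (c • e j) ↔ c ∈ K

theorem rule_coord {i j k : Fin 3} (hij : i ≠ j) (hjk : j ≠ k) (hik : i ≠ k) {a b : F}
    (ha : InT M (e i) (a • e j)) (hb : InT M (e j) (b • e k)) : InT M (e i) ((a * b) • e k) := by
  have h1 := rule hb ha (by rw [smul_dotProduct, e_orth hjk.symm, smul_zero])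
    (by rw [smul_dotProduct, e_orth hik.symm, smul_zero]) (by rw [smul_dotProduct, e_orth hij.symm, smul_zero])
  rw [smul_dotProduct, e_dot] at h1
  simp only [e, Pi.single_eq_same, smul_eq_mul, mul_one] at h1
  have h2 := h1.scale_right
  rwa [smul_smul] at h2

theorem exists_third (i j : Fin 3) : ∃ k, k ≠ i ∧ k ≠ j := by revert i j; decide

/-- Six roots with coefficient one give a subfield. -/
theorem exists_exact [Finite F] (h : ∀ i j, i ≠ j → InT M (e i) (e j)) : ∃ K, Exact M K := by
  have h1 : ∀ i j, i ≠ j → InT M (e i) ((1 : F) • e j) := fun i j hij => by rw [one_smul]; exact h i j hij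
  have hcol : ∀ {i j k : Fin 3} {c : F}, i ≠ j → j ≠ k → i ≠ k → InT M (e i) (c • e j) →
      InT M (e i) (c • e k) := fun hij hjk hik hc => by simpa using rule_coord hij hjk hik hc (h1 _ _ hjk)
  have hrow : ∀ {i j k : Fin 3} {c : F}, k ≠ i → i ≠ j → k ≠ j → InT M (e i) (c • e j) →
      InT M (e k) (c • e j) := fun hki hij hkj hc => by simpa using rule_coord hki hij hkj (h1 _ _ hki) hc
  have hall : ∀ i j i' j' : Fin 3, i ≠ j → i' ≠ j' → ∀ c : F, InT M (e i) (c • e j) →
      InT M (e i') (c • e j') := by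
    have hflip : ∀ i j : Fin 3, i ≠ j → ∀ c : F, InT M (e i) (c • e j) → InT M (e j) (c • e i) :=
      fun i j hij c hc => by
        obtain ⟨k, hki, hkj⟩ := exists_third i j
        exact hcol hkj.symm hki hij.symm (hrow hij.symm hki.symm hkj.symm (hcol hij hkj.symm hki.symm hc))
    intro i j i' j' hij hij' c hc
    by_cases hi : i = i'
    · subst hi
      rcases eq_or_ne j j' with rfl | hj
      · exact hc
      · exact hcol hij hj hij' hc
    · by_cases hj : j = j'
      · subst hj; exact hrow (Ne.symm hi) hij hij' hc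
      · by_cases hji : j = i'
        · subst hji
          rcases eq_or_ne j' i with rfl | hj'
          · exact hflip _ _ hij c hc
          · exact hcol hij.symm hj'.symm hij' (hflip _ _ hij c hc)
        · exact (fun h' => by
            rcases eq_or_ne i' j' with e | e
            · exact absurd e hij'
            · rcases eq_or_ne j' i with rfl | hj'
              · exact hcol (Ne.symm hji) hij.symm hij' h'
              · exact hcol (Ne.symm hji) hj hij' h') (hrow (Ne.symm hi) hij (Ne.symm hji) hc)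
  obtain ⟨A, hA⟩ : ∃ A, A = coef M (e 0) (e 1) (e_orth (F := F) (i := 1) (j := 0) (by decide)) := ⟨_, rfl⟩
  have hmem : ∀ i j : Fin 3, i ≠ j → ∀ c : F, InT M (e i) (c • e j) ↔ c ∈ A := fun i j hij c => by
    rw [hA, mem_coef]
    exact ⟨hall i j 0 1 hij (by decide) c, hall 0 1 i j (by decide) hij c⟩
  refine ⟨multipliers A, fun i j hij c => ?_⟩
  rw [hmem i j hij c, mem_multipliers]
  refine ⟨fun hc g hg => (hmem 0 2 (by decide) _).1 (rule_coord (j := 1) (by decide) (by decide) (by decide)
    ((hmem 0 1 (by decide) c).2 hc) ((hmem 1 2 (by decide) g).2 hg)), fun hc => ?_⟩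
  have := hc 1 ((hmem 0 1 (by decide) 1).1 (h1 0 1 (by decide)))
  rwa [mul_one] at this

/-- Six non-trivial roots can be scaled. -/
theorem exists_diag_exact [Finite F] (h : ∀ i j, i ≠ j → ∃ a : F, a ≠ 0 ∧ InT M (e i) (a • e j)) :
    ∃ (D : GL (Fin 3) F) (K : Subfield F), Exact (M.comap (MulAut.conj D).toMonoidHom) K := by
  obtain ⟨a, ha0, ha⟩ := h 0 1 (by decide)
  obtain ⟨b, hb0, hb⟩ := h 1 2 (by decide)
  obtain ⟨D, hD⟩ : ∃ D : GL (Fin 3) F, (D : M₃) = Matrix.diagonal ![a * b, b, 1] :=
    ⟨Matrix.GeneralLinearGroup.mkOfDetNeZero (Matrix.diagonal ![a * b, b, 1]) (by rw [Matrix.det_diagonal]; simp [Fin.prod_univ_three, ha0, hb0]), rfl⟩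
  obtain ⟨N, hN⟩ : ∃ N, N = M.comap (MulAut.conj D).toMonoidHom := ⟨_, rfl⟩
  have hdne : ∀ i : Fin 3, ![a * b, b, 1] i ≠ 0 := fun i => by fin_cases i <;> simp [ha0, hb0]
  have hDi : ∀ i : Fin 3, (D : M₃) *ᵥ e i = (![a * b, b, 1] i) • (e i : V) := fun i => by
    funext l; rw [hD, Matrix.mulVec_diagonal]
    by_cases hl : l = i
    · subst hl; simp [e]
    · simp [e, hl]
  have hDj : ∀ (j : Fin 3), (e j : V) ᵥ* ((D⁻¹ : GL (Fin 3) F) : M₃) = (![a * b, b, 1] j)⁻¹ • e j := fun j => by
    refine dotProduct_eq _ _ fun z => ?_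
    obtain ⟨x, rfl⟩ : ∃ x, z = (D : M₃) *ᵥ x := ⟨_, (mulVec_inv_cancel D z).symm⟩
    rw [vecMul_inv_dot, smul_dotProduct, e_dot, e_dot, hD, Matrix.mulVec_diagonal, smul_eq_mul,
      inv_mul_cancel_left₀ (hdne j)]
  have hconv : ∀ i j, i ≠ j → ∀ c : F, InT N (e i) (c • e j) ↔
      InT M (e i) ((![a * b, b, 1] i * c / ![a * b, b, 1] j) • e j) := fun i j hij c => by
    rw [hN, inT_comap, hDi, Matrix.smul_vecMul, hDj, smul_smul]
    refine ⟨fun h' => ?_, fun h' => InT.scale_left ?_⟩
    · have := h'.scale_right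
      rwa [smul_smul, show ![a * b, b, 1] i * (c * (![a * b, b, 1] j)⁻¹) = ![a * b, b, 1] i * c / ![a * b, b, 1] j by
        ring] at this
    · rwa [smul_smul, show ![a * b, b, 1] i * (c * (![a * b, b, 1] j)⁻¹) = ![a * b, b, 1] i * c / ![a * b, b, 1] j by
        ring]
  have h01 : InT N (e 0) ((1 : F) • e 1) := (hconv 0 1 (by decide) 1).2 (by simpa [hb0] using ha)
  have h12 : InT N (e 1) ((1 : F) • e 2) := (hconv 1 2 (by decide) 1).2 (by simpa using hb)
  obtain ⟨c, hc0, hc⟩ : ∃ c : F, c ≠ 0 ∧ InT N (e 2) (c • e 0) := by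
    obtain ⟨c', hc0, hc'⟩ := h 2 0 (by decide)
    refine ⟨c' * (a * b), mul_ne_zero hc0 (mul_ne_zero ha0 hb0), (hconv 2 0 (by decide) _).2 ?_⟩
    convert hc' using 2
    simp [ha0, hb0]
  have h02 : InT N (e 0) ((1 : F) • e 2) := by simpa using rule_coord (by decide) (by decide) (by decide) h01 h12
  have h10 : InT N (e 1) (c • e 0) := by simpa using rule_coord (by decide) (by decide) (by decide) h12 hc
  have h21 : InT N (e 2) (c • e 1) := by simpa using rule_coord (by decide) (by decide) (by decide) hc h01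
  -- the cyclic product stabilises
  obtain ⟨A, hA⟩ : ∃ A, A = coef N (e 2) (e 0) (e_orth (F := F) (i := 0) (j := 2) (by decide)) := ⟨_, rfl⟩
  have hcmul : c ∈ multipliers A := mem_multipliers.2 fun g hg => by
    rw [hA, mem_coef] at hg ⊢
    have h21g : InT N (e 2) (g • e 1) := by simpa using rule_coord (by decide) (by decide) (by decide) hg h01
    have := rule_coord (by decide) (by decide) (by decide) h21g h10
    rwa [mul_comm] at this
  have h20 : InT N (e 2) ((1 : F) • e 0) := by
    have := mem_multipliers.1 (inv_mem hcmul) c (by rw [hA, mem_coef]; exact hc)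
    rwa [inv_mul_cancel₀ hc0, hA, mem_coef] at this
  have h10' : InT N (e 1) ((1 : F) • e 0) := by simpa using rule_coord (by decide) (by decide) (by decide) h12 h20
  have h21' : InT N (e 2) ((1 : F) • e 1) := by simpa using rule_coord (by decide) (by decide) (by decide) h20 h01
  obtain ⟨K, hK⟩ := exists_exact (M := N) fun i j hij => by
    have : InT N (e i) ((1 : F) • e j) := by
      fin_cases i <;> fin_cases j <;> first | exact absurd rfl hij | assumption
    rwa [one_smul] at this
  exact ⟨D, K, hN ▸ hK⟩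

theorem Exact.dual {K : Subfield F} (h : Exact M K) : Exact (dual M) K := fun i j hij c => by
  refine Iff.trans ?_ (h j i hij.symm c)
  have h0 : (e i : V) ⬝ᵥ (c • e j) = 0 := by rw [dotProduct_smul, e_orth hij, smul_zero]
  rw [inT_dual_iff h0]
  exact ⟨InT.scale_right, InT.scale_left⟩

theorem Exact.top (h : Exact M ⊤) : Geo.specialLinear (Fin 3) F ≤ M := by
  intro g hg
  have hle : (⊤ : Subgroup (Matrix.SpecialLinearGroup (Fin 3) F)) ≤ M.comap Matrix.SpecialLinearGroup.toGL := by
    rw [← SL_closure_transvections, Subgroup.closure_le]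
    rintro _ ⟨⟨i, l, hil, c⟩, rfl⟩
    obtain ⟨k, hk, hkx⟩ := (h i l hil c).2 trivial
    show Matrix.SpecialLinearGroup.toGL _ ∈ M
    convert hk using 1
    refine Units.ext (Matrix.ext_iff_mulVec.2 fun x => ?_)
    rw [hkx, smul_dotProduct, e_dot]
    show Matrix.transvection i l c *ᵥ x = _
    funext a
    simp [e, Matrix.transvection, Matrix.add_mulVec, Matrix.single_mulVec_eq, Pi.single_apply]
  obtain ⟨u, hu⟩ : ∃ u : Matrix.SpecialLinearGroup (Fin 3) F, (u : M₃) = g :=
    ⟨⟨(g : M₃), mem_specialLinear_iff.1 hg⟩, rfl⟩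
  have h1 : Matrix.SpecialLinearGroup.toGL u ∈ M := hle (Subgroup.mem_top u)
  exact (show Matrix.SpecialLinearGroup.toGL u = g from Units.ext hu) ▸ h1

/-- Determinant one matrices over the field of the frame. -/
theorem Exact.map_mem {K : Subfield F} (h : Exact M K) (u : Matrix.SpecialLinearGroup (Fin 3) K) :
    Matrix.SpecialLinearGroup.toGL (Matrix.SpecialLinearGroup.map K.subtype u) ∈ M := by
  have hle : (⊤ : Subgroup (Matrix.SpecialLinearGroup (Fin 3) K)) ≤
      M.comap (Matrix.SpecialLinearGroup.toGL.comp (Matrix.SpecialLinearGroup.map K.subtype)) := by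
    rw [← SL_closure_transvections, Subgroup.closure_le]
    rintro _ ⟨⟨i, l, hil, c⟩, rfl⟩
    obtain ⟨k, hk, hkx⟩ := (h i l hil c).2 c.2
    show Matrix.SpecialLinearGroup.toGL _ ∈ M
    convert hk using 1
    refine Units.ext (Matrix.ext_iff_mulVec.2 fun x => ?_)
    rw [hkx, smul_dotProduct, e_dot]
    show (Matrix.transvection i l c).map K.subtype *ᵥ x = _
    have hm : (Matrix.transvection i l c).map K.subtype = Matrix.transvection i l (c : F) := by
      ext a b
      simp only [Matrix.map_apply, Matrix.transvection, Matrix.add_apply, Matrix.one_apply, Matrix.single_apply,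
        map_add]
      split_ifs <;> simp
    rw [hm]
    funext a
    simp [e, Matrix.transvection, Matrix.add_mulVec, Matrix.single_mulVec_eq, Pi.single_apply]
  exact hle (Subgroup.mem_top u)

end Cfsg.Agent.Classical.SLThree
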