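import Cfsg.Agent.Lib.Classical.SLThree.Basic
import Cfsg.Agent.Lib.Classical.MaxHermitian

/-!
Coefficient groups of transvections and isometries of forms in dimension three.
-/

set_option autoImplicit false
set_option linter.unusedSectionVars false

namespace Cfsg.Agent.Classical.SLThree

open Matrix Module MaxTv

variable {F : Type*} [Field F]

local notation "V" => (Fin 3 → F)
local notation "M₃" => Matrix (Fin 3) (Fin 3) F

/-- The multipliers of an additive group. -/
def multipliers [Finite F] (G : AddSubgroup F) : Subfield F where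
  carrier := {r | ∀ g ∈ G, r * g ∈ G}
  mul_mem' {a b} ha hb g hg := by rw [mul_assoc]; exact ha _ (hb _ hg)
  one_mem' g hg := by rwa [one_mul]
  add_mem' {a b} ha hb g hg := by rw [add_mul]; exact add_mem (ha _ hg) (hb _ hg)
  zero_mem' g _ := by rw [zero_mul]; exact zero_mem _
  neg_mem' {a} ha g hg := by rw [neg_mul]; exact neg_mem (ha _ hg)
  inv_mem' := fun a ha g hg => by
    rcases eq_or_ne a 0 with rfl | h0
    · rw [_root_.inv_zero, zero_mul]; exact zero_mem _
    have hinj : Function.Injective (fun x : G => (⟨a * x, ha _ x.2⟩ : G)) :=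
      fun x y e => Subtype.ext (mul_left_cancel₀ h0 (congrArg Subtype.val e))
    obtain ⟨⟨x, hx⟩, he⟩ := Finite.injective_iff_surjective.1 hinj ⟨g, hg⟩
    have hax : a * x = g := congrArg Subtype.val he
    rw [← hax, inv_mul_cancel_left₀ h0]
    exact hx

theorem mem_multipliers [Finite F] {G : AddSubgroup F} {r : F} :
    r ∈ multipliers G ↔ ∀ g ∈ G, r * g ∈ G := Iff.rfl

theorem eq_top_of_multipliers [Finite F] {G : AddSubgroup F} {g : F} (hg : g ∈ G) (h0 : g ≠ 0)
    (h : multipliers G = ⊤) : G = ⊤ :=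
  eq_top_iff.2 fun r _ => by
    have := (h ▸ Subfield.mem_top (r / g) : r / g ∈ multipliers G) g hg
    rwa [div_mul_cancel₀ r h0] at this

variable {X : Subgroup (GL (Fin 3) F)} {v φ : Fin 3 → F}

/-- The coefficients of a root group. -/
def coef (X : Subgroup (GL (Fin 3) F)) (v φ : Fin 3 → F) (h : φ ⬝ᵥ v = 0) : AddSubgroup F where
  carrier := {c | InT X v (c • φ)}
  zero_mem' := by
    show InT X v ((0 : F) • φ)
    rw [zero_smul]
    exact InT.zero_right v
  add_mem' {a b} ha hb := by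
    show InT X v ((a + b) • φ)
    rw [add_smul]
    exact InT.add_right ha hb (by rw [smul_dotProduct, h, smul_zero])
  neg_mem' {a} ha := by
    show InT X v (-a • φ)
    rw [neg_smul]
    exact InT.neg ha (by rw [smul_dotProduct, h, smul_zero])

theorem mem_coef {h : φ ⬝ᵥ v = 0} {c : F} : c ∈ coef X v φ h ↔ InT X v (c • φ) := Iff.rfl

theorem inR_of_coef (h : φ ⬝ᵥ v = 0) (hG : coef X v φ h = ⊤) : InR X v φ := fun c =>
  (hG ▸ AddSubgroup.mem_top c : c ∈ coef X v φ h)

/-- Over a prime field every transvection gives its root group. -/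
theorem inR_of_prime [Finite F] (hp : (Nat.card F).Prime) (h : φ ⬝ᵥ v = 0) (ht : InT X v φ) :
    InR X v φ := by
  refine inR_of_coef h ?_
  have := Fact.mk hp
  refine ((coef X v φ h).eq_bot_or_eq_top_of_prime_card).resolve_left fun e => one_ne_zero (α := F) ?_
  have h1 : (1 : F) ∈ coef X v φ h := by rwa [mem_coef, one_smul]
  rwa [e, AddSubgroup.mem_bot] at h1

/-- Norm-one elements generate the field. -/
theorem multipliers_eq_top_of_norm [Finite F] {G : AddSubgroup F} {σ : F ≃+* F} (hne : σ ≠ RingEquiv.refl F)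
    (hinv : ∀ a, σ (σ a) = a) (h : ∀ a : F, a * σ a = 1 → a ∈ multipliers G) : multipliers G = ⊤ := by
  set S := multipliers G
  have hmove : ∀ y : F, σ y ≠ y → y ∈ S := fun y hy => by
    have hy0 : y ≠ 0 := fun e => hy (by rw [e, map_zero])
    have hsy : σ y ≠ 0 := fun e => hy0 (σ.map_eq_zero_iff.1 e)
    have hy1 : y + 1 ≠ 0 := fun e => hy (by rw [eq_neg_of_add_eq_zero_left e, map_neg, map_one])
    have hsy1 : σ y + 1 ≠ 0 := fun e => hy1 (σ.injective (by rw [map_add, map_one, e, map_zero]))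
    obtain ⟨a, ha⟩ : ∃ a, a = y / σ y := ⟨_, rfl⟩
    obtain ⟨b, hb⟩ : ∃ b, b = (y + 1) / (σ y + 1) := ⟨_, rfl⟩
    have haS : a ∈ S := h a (by rw [ha, map_div₀, hinv]; field_simp)
    have hbS : b ∈ S := h b (by rw [hb, map_div₀, map_add, map_add, hinv, map_one]; field_simp)
    have hab : b - a ≠ 0 := fun e => hy (by
      rw [sub_eq_zero, ha, hb, div_eq_div_iff hsy1 hsy] at e
      linear_combination e)
    have hσ : σ y = (1 - b) / (b - a) := by
      rw [eq_div_iff hab, ha, hb]
      field_simp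
      ring
    have hy' : y = a * σ y := by rw [ha, div_mul_cancel₀ _ hsy]
    rw [hy', hσ]
    exact mul_mem haS (div_mem (sub_mem (one_mem _) hbS) (sub_mem hbS haS))
  obtain ⟨y, hy⟩ : ∃ y : F, σ y ≠ y := by
    by_contra hc
    push Not at hc
    exact hne (RingEquiv.ext hc)
  refine eq_top_iff.2 fun t _ => ?_
  by_cases ht : σ t = t
  · have := sub_mem (hmove (y + t) (by rw [map_add, ht]; simpa using hy)) (hmove y hy)
    rwa [add_sub_cancel_left] at this
  · exact hmove t ht

/-- Squares generate the field in odd characteristic. -/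
theorem multipliers_eq_top_of_sq [Finite F] {G : AddSubgroup F} (h2 : (2 : F) ≠ 0)
    (h : ∀ a : F, a ≠ 0 → a ^ 2 ∈ multipliers G) : multipliers G = ⊤ := by
  have h' : ∀ a : F, a ^ 2 ∈ multipliers G := fun a => by
    rcases eq_or_ne a 0 with rfl | h0
    · simp [zero_mem]
    · exact h a h0
  refine eq_top_iff.2 fun y _ => ?_
  rw [show y = ((y + 1) ^ 2 - y ^ 2 - 1) / 2 by field_simp; ring]
  exact div_mem (sub_mem (sub_mem (h' _) (h' _)) (one_mem _)) (by rw [show (2 : F) = 1 + 1 by norm_num]; exact add_mem (one_mem _) (one_mem _))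

variable {σ : F ≃+* F} {f : (Fin 3 → F) → (Fin 3 → F) → F}

/-- A unipotent isometry fixing the isotropic `v` and moving `w` along it. -/
theorem exists_heisenberg (hs : Sesq σ f) (hh : ∀ a b, f a b = σ (f b a)) {w : V} (hv : f v v = 0)
    (hvw : f v w = 0) (hw : f w w ≠ 0) (c e : F)
    (he : e + σ e = -(c / f w w * σ (c / f w w) * f w w)) :
    ∃ k ∈ Geo.specialLinear (Fin 3) F, (∀ x y, f ((k : M₃) *ᵥ x) ((k : M₃) *ᵥ y) = f x y) ∧
      (k : M₃) *ᵥ v = v ∧ (k : M₃) *ᵥ w = w + c • v := by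
  have hwv : f w v = 0 := hs.refl _ _ hvw
  obtain ⟨n, hn⟩ : ∃ n, n = f w w := ⟨_, rfl⟩
  rw [← hn] at hw he
  have hnσ : σ n = n := by rw [hn, ← hh]
  obtain ⟨s, hsdef⟩ : ∃ s, s = c / n := ⟨_, rfl⟩
  rw [← hsdef] at he
  obtain ⟨t₂, ht₂⟩ := exists_tv (φ := (-σ s) • fn f v) (v := w) (by rw [smul_dotProduct, fn_dot hs, hwv, smul_zero])
  obtain ⟨t₁, ht₁⟩ := exists_tv (φ := (e + σ s * n * s) • fn f v + s • fn f w) (v := v)
    (by rw [add_dotProduct, smul_dotProduct, smul_dotProduct, fn_dot hs, fn_dot hs, hv, hvw]; simp)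
  have hk : ∀ x, ((t₁ * t₂ : GL (Fin 3) F) : M₃) *ᵥ x =
      x + (-σ s * f x v) • w + (e * f x v + s * f x w) • v := fun x => by
    rw [Units.val_mul, ← Matrix.mulVec_mulVec, ht₁, ht₂]
    simp only [add_dotProduct, smul_dotProduct, fn_dot hs, hs.add_left, hs.smul_left, hwv, ← hn, smul_eq_mul]
    match_scalars <;> ring
  refine ⟨t₁ * t₂, mul_mem
    (det_tv ht₁ (by rw [add_dotProduct, smul_dotProduct, smul_dotProduct, fn_dot hs, fn_dot hs, hv, hvw]; simp))
    (det_tv ht₂ (by rw [smul_dotProduct, fn_dot hs, hwv, smul_zero])), fun x y => ?_, ?_, ?_⟩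
  · rw [hk, hk]
    simp only [hs.add_left, hs.add_right, hs.smul_left, hs.smul_right, hv, hvw, hwv, ← hn]
    have hss : σ (σ s) = s := by
      have hh' : ∀ a : F, (∃ x y, f x y = a) → σ (σ a) = a := by
        rintro a ⟨x, y, rfl⟩; rw [← hh, ← hh]
      obtain ⟨x₀, hx₀⟩ := hs.exists_left (v := w) fun e0 => hw (by rw [hn, e0, hs.zero_left])
      exact hh' s ⟨(s / f x₀ w) • x₀, w, by rw [hs.smul_left, div_mul_cancel₀ _ hx₀]⟩
    simp only [map_add, map_mul, map_neg, hss, ← hh v y, ← hh w y]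
    linear_combination (f x v * f v y) * he
  · rw [hk, hv, hvw]; simp
  · rw [hk, hwv, ← hn, hsdef, div_mul_cancel₀ _ hw]; simp

end Cfsg.Agent.Classical.SLThree
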