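import Cfsg.Agent.Lib.Classical.SLThree.HessianConfig
import Cfsg.Agent.Lib.Classical.SLThree.Forms
import Cfsg.Agent.Lib.Classical.SLThree.Field
import Cfsg.Agent.Lib.Classical.AschSLProper

/-!
The normaliser of an extraspecial group of order 27 is maximal in `SL(3, p)` for `p` congruent to one modulo three.
-/

set_option autoImplicit false
set_option linter.unusedSectionVars false
set_option maxHeartbeats 1000000

namespace Cfsg.Agent.Classical.SLThree

open Matrix MaxTv HeisenbergThree Hessian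

variable {F : Type*} [Field F]

local notation "M₃" => Matrix (Fin 3) (Fin 3) F

/-- An absolutely irreducible group of symplectic type in dimension three has order 27 and is not abelian. -/
theorem card_eq_27 [Fintype F] (h3 : (3 : F) ≠ 0) {w : Fˣ} (hw : w ^ 3 = 1) (hw1 : w ≠ 1)
    {R : Subgroup (GL (Fin 3) F)} (hR : Geo.IsLinearSymplecticTypeData 3 R) :
    Nat.card R = 27 ∧ Monoid.exponent R = 3 ∧ ¬ IsMulCommutative R := by
  classical
  haveI : Fact (Nat.Prime 3) := ⟨Nat.prime_three⟩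
  haveI : Finite (GL (Fin 3) F) := Finite.of_injective _ Units.val_injective
  obtain ⟨p, e, -, -, ⟨-, -, hZ, m, hm, hcard⟩ | ⟨h, -⟩ | ⟨h, -⟩⟩ := hR.field
  swap; · norm_num at h
  swap; · norm_num at h
  have hexp : Monoid.exponent R = 3 := hR.symplecticType.exponent_eq.trans (by norm_num)
  have hcube : ∀ g : R, g ^ 3 = 1 := fun g => by
    have := Monoid.pow_exponent_eq_one g
    rwa [hexp] at this
  have hsc : ∀ z : R, z ∈ Subgroup.center R → ∃ t : F, ((z : GL (Fin 3) F) : M₃) = t • 1 := fun z hz =>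
    hR.absIrred.2 _ (by
      rintro _ ⟨g, hg, rfl⟩
      exact (congrArg (fun x : R => ((x : GL (Fin 3) F) : M₃)) (Subgroup.mem_center_iff.1 hz ⟨g, hg⟩)).symm)
  have hlt : 3 < Nat.card R := by
    rw [hcard]
    calc (3 : ℕ) < 3 ^ 3 := by norm_num
      _ ≤ 3 ^ (1 + 2 * m) := Nat.pow_le_pow_right (by norm_num) (by omega)
  have hnc : ¬ IsMulCommutative R := fun hc => by
    have htop : Subgroup.center R = ⊤ := eq_top_iff.2 fun x _ => Subgroup.mem_center_iff.2 fun y =>
      (hc.is_comm.comm y x)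
    rw [htop, Subgroup.card_top] at hZ
    omega
  refine ⟨?_, hexp, hnc⟩
  -- an element of the second centre
  haveI : Nontrivial (R ⧸ Subgroup.center R) := by
    rw [← Finite.one_lt_card_iff_nontrivial]
    have := Subgroup.card_eq_card_quotient_mul_card_subgroup (Subgroup.center R)
    rw [hZ] at this
    omega
  haveI := (hR.symplecticType.pGroup.to_quotient (Subgroup.center R)).center_nontrivial
  obtain ⟨a', ha'⟩ := exists_ne (1 : Subgroup.center (R ⧸ Subgroup.center R))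
  obtain ⟨a, ha⟩ := QuotientGroup.mk_surjective (a' : R ⧸ Subgroup.center R)
  have haZ : a ∉ Subgroup.center R := fun h => ha' (Subtype.ext (by
    rw [← ha]; exact (QuotientGroup.eq_one_iff a).2 h))
  have hcomm : ∀ h : R, h * a * h⁻¹ * a⁻¹ ∈ Subgroup.center R := fun h => by
    rw [← QuotientGroup.eq_one_iff, QuotientGroup.mk_mul, QuotientGroup.mk_mul, QuotientGroup.mk_mul,
      QuotientGroup.mk_inv, QuotientGroup.mk_inv, ha, Subgroup.mem_center_iff.1 a'.2 (h : R ⧸ Subgroup.center R),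
      mul_inv_cancel_right, mul_inv_cancel]
  -- its eigenvalues
  have ha3 : (a : GL (Fin 3) F) ^ 3 = 1 := by rw [← SubmonoidClass.coe_pow, hcube, OneMemClass.coe_one]
  obtain ⟨d, hd3, hconj⟩ := exists_diag_conj h3 hw hw1 ha3
  obtain ⟨Q, hQ⟩ := isConj_iff.1 hconj
  obtain ⟨h, hh⟩ : ∃ h : R, h * a * h⁻¹ * a⁻¹ ≠ 1 := by
    by_contra hc
    push Not at hc
    exact haZ (Subgroup.mem_center_iff.2 fun g => mul_inv_eq_iff_eq_mul.1 (mul_inv_eq_one.1 (hc g)))
  obtain ⟨t, ht⟩ := hsc _ (hcomm h)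
  have ht1 : t ≠ 1 := fun e => hh (Subtype.ext (Units.ext (by rw [ht, e, one_smul]; rfl)))
  have htr : ((a : GL (Fin 3) F) : M₃).trace = 0 := by
    have e : ((h : GL (Fin 3) F) : M₃) * ((a : GL (Fin 3) F) : M₃) * (((h : GL (Fin 3) F)⁻¹ : GL (Fin 3) F) : M₃) =
        t • ((a : GL (Fin 3) F) : M₃) := by
      have e1 : ((h * a * h⁻¹ : R) : GL (Fin 3) F) = ((h * a * h⁻¹ * a⁻¹ : R) : GL (Fin 3) F) * a := by
        rw [← Subgroup.coe_mul, inv_mul_cancel_right]
      have e2 := congrArg Units.val e1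
      rw [Units.val_mul, ht, Matrix.smul_mul, one_mul] at e2
      simpa using e2
    have h1 := congrArg Matrix.trace e
    rw [Matrix.trace_units_conj, Matrix.trace_smul, smul_eq_mul] at h1
    exact (mul_eq_zero.1 (show (1 - t) * ((a : GL (Fin 3) F) : M₃).trace = 0 by linear_combination h1)).resolve_left
      (sub_ne_zero.2 (Ne.symm ht1))
  have hsum : (d 0 : F) + d 1 + d 2 = 0 := by
    rw [← hQ, Units.val_mul, Units.val_mul, Matrix.trace_units_conj, coe_dia, Matrix.trace_diagonal,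
      Fin.sum_univ_three] at htr
    exact htr
  have hd3' : ∀ i, (d i : F) ^ 3 = 1 := fun i => by rw [← Units.val_pow_eq_pow_val, hd3, Units.val_one]
  have hdist : ∀ i j : Fin 3, i ≠ j → (d i : F) ≠ d j := by
    have key : ∀ x y z : F, x ^ 3 = 1 → z ^ 3 = 1 → x = y → x + y + z = 0 → False := fun x y z hx hz e hs => by
      subst e
      have h9 : (3 : F) * 3 = 0 := by
        obtain rfl : z = -(2 * x) := by linear_combination hs
        linear_combination -hz - 8 * hx
      exact h3 (mul_self_eq_zero.1 h9)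
    have h01 : (d 0 : F) ≠ d 1 := fun e => key _ _ _ (hd3' 0) (hd3' 2) e hsum
    have h02 : (d 0 : F) ≠ d 2 := fun e => key _ _ _ (hd3' 0) (hd3' 1) e (by linear_combination hsum)
    have h12 : (d 1 : F) ≠ d 2 := fun e => key _ _ _ (hd3' 1) (hd3' 0) e (by linear_combination hsum)
    intro i j hij e
    fin_cases i <;> fin_cases j <;>
      first
        | exact hij rfl
        | exact h01 e
        | exact h01 e.symm
        | exact h02 e
        | exact h02 e.symm
        | exact h12 e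
        | exact h12 e.symm
  -- the centraliser of the element is diagonal
  obtain ⟨K, hK⟩ : ∃ K : Subgroup R, K = Subgroup.centralizer {a} := ⟨_, rfl⟩
  have hdiag : ∀ k : K, ∀ i j, i ≠ j → ((Q⁻¹ * ((k : R) : GL (Fin 3) F) * Q : GL (Fin 3) F) : M₃) i j = 0 := by
    intro k
    refine diag_of_commute (r := fun i => (d i : F)) (fun i j e => by_contra fun hne => hdist i j hne e) rfl ?_
    have hk := k.2
    simp only [hK, Subgroup.mem_centralizer_singleton_iff] at hk
    have hk' : ((k : R) : GL (Fin 3) F) * (a : GL (Fin 3) F) = a * ((k : R) : GL (Fin 3) F) := by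
      rw [← Subgroup.coe_mul, ← Subgroup.coe_mul, hk]
    show _ = _
    rw [← coe_dia, ← Units.val_mul, ← Units.val_mul]
    refine congrArg Units.val ?_
    rw [← hQ] at hk'
    calc Q⁻¹ * ((k : R) : GL (Fin 3) F) * Q * dia d
        = Q⁻¹ * (((k : R) : GL (Fin 3) F) * (Q * dia d * Q⁻¹)) * Q := by group
      _ = Q⁻¹ * (Q * dia d * Q⁻¹ * ((k : R) : GL (Fin 3) F)) * Q := by rw [hk']
      _ = _ := by group
  have hex : ∀ (k : K) (i : Fin 3), ∃ n : Fin 3, ((Q⁻¹ * ((k : R) : GL (Fin 3) F) * Q : GL (Fin 3) F) : M₃) i i =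
      (w : F) ^ (n : ℕ) := by
    intro k i
    have hk3 : (Q⁻¹ * ((k : R) : GL (Fin 3) F) * Q) ^ 3 = 1 := by
      have h1 : (Q⁻¹ * ((k : R) : GL (Fin 3) F) * Q) ^ 3 = Q⁻¹ * ((k : R) : GL (Fin 3) F) ^ 3 * Q := by
        have := conj_pow (a := Q⁻¹) (b := ((k : R) : GL (Fin 3) F)) (i := 3)
        rwa [inv_inv] at this
      rw [h1, show ((k : R) : GL (Fin 3) F) ^ 3 = 1 from congrArg Subtype.val (hcube (k : R)), mul_one, inv_mul_cancel]
    have e : (((Q⁻¹ * ((k : R) : GL (Fin 3) F) * Q) ^ 3 : GL (Fin 3) F) : M₃) i i = ((1 : GL (Fin 3) F) : M₃) i i := by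
      rw [hk3]
    rw [Units.val_pow_eq_pow_val, _root_.pow_three, Matrix.mul_apply, Finset.sum_eq_single i
      (fun j _ hj => by rw [hdiag k i j (Ne.symm hj), zero_mul]) (by simp), Matrix.mul_apply, Finset.sum_eq_single i
      (fun j _ hj => by rw [hdiag k i j (Ne.symm hj), zero_mul]) (by simp), Units.val_one, Matrix.one_apply_eq] at e
    obtain ⟨u, hu⟩ : ∃ u, u = ((Q⁻¹ * ((k : R) : GL (Fin 3) F) * Q : GL (Fin 3) F) : M₃) i i := ⟨_, rfl⟩
    rw [← hu] at e ⊢
    have hu0 : u ≠ 0 := fun e0 => by rw [e0, zero_mul] at e; exact zero_ne_one e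
    obtain ⟨n, hn, hn'⟩ := cases_cube hw hw1 (t := Units.mk0 u hu0) (Units.ext (by
      rw [Units.val_pow_eq_pow_val, Units.val_mk0, Units.val_one, _root_.pow_three, e]))
    exact ⟨⟨n, hn⟩, by simpa using congrArg Units.val hn'⟩
  choose n hn using hex
  have hK27 : Nat.card K ≤ 27 := by
    refine (Nat.card_le_card_of_injective (fun k => fun i => n k i) fun k l e => ?_).trans (by simp)
    have e1 : (Q⁻¹ * ((k : R) : GL (Fin 3) F) * Q) = Q⁻¹ * ((l : R) : GL (Fin 3) F) * Q := by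
      refine Units.ext ?_
      ext i j
      rcases eq_or_ne i j with rfl | hij
      · rw [hn, hn, show n k i = n l i from congrFun e i]
      · rw [hdiag k i j hij, hdiag l i j hij]
    exact Subtype.ext (Subtype.ext (by simpa using e1))
  let f : R → Subgroup.center R := fun g => ⟨g * a * g⁻¹ * a⁻¹, hcomm g⟩
  have hinv : ∀ g : R, f (Function.invFun f (f g)) = f g := fun g => Function.invFun_eq ⟨g, rfl⟩
  have hmemK : ∀ g : R, (Function.invFun f (f g))⁻¹ * g ∈ K := fun g => by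
    obtain ⟨r, hr⟩ : ∃ r, r = Function.invFun f (f g) := ⟨_, rfl⟩
    have h1 : r * a * r⁻¹ = g * a * g⁻¹ := mul_right_cancel (b := a⁻¹) (congrArg Subtype.val (hr ▸ hinv g))
    rw [← hr, hK, Subgroup.mem_centralizer_singleton_iff]
    calc r⁻¹ * g * a = r⁻¹ * (g * a * g⁻¹) * g := by group
      _ = r⁻¹ * (r * a * r⁻¹) * g := by rw [h1]
      _ = _ := by group
  have hle := Nat.card_le_card_of_injective
    (fun g : R => ((f g, ⟨_, hmemK g⟩) : Subgroup.center R × K)) fun g g' e => by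
      have e1 := congrArg Prod.fst e
      have e2 := congrArg Prod.snd e
      simp only at e1 e2
      have e3 := congrArg Subtype.val e2
      simp only [e1] at e3
      exact mul_left_cancel e3
  rw [Nat.card_prod, hZ, hcard] at hle
  have hm1 : m = 1 := by
    by_contra hne
    have : 3 ^ 5 ≤ 3 ^ (1 + 2 * m) := Nat.pow_le_pow_right (by norm_num) (by omega)
    omega
  rw [hcard, hm1]; norm_num

/-- The normaliser of the extraspecial group is maximal. -/
theorem hessian_maximal [Fintype F] {p : ℕ} (R : Subgroup (GL (Fin 3) F)) (hp : p.Prime)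
    (hF : Fintype.card F = p) (hp3 : p % 3 = 1) (hR : Geo.IsLinearSymplecticTypeData 3 R) :
    Geo.IsMaximalIn (Geo.specialLinear (Fin 3) F) (Geo.subgroupNormalizer R ⊓ Geo.specialLinear (Fin 3) F) := by
  classical
  haveI : Fact p.Prime := ⟨hp⟩
  haveI : Fact (Nat.Prime 3) := ⟨Nat.prime_three⟩
  haveI : CharP F p := charP_of_card_eq_prime hF
  haveI : Finite (GL (Fin 3) F) := Finite.of_injective _ Units.val_injective
  have h3 : (3 : F) ≠ 0 := fun e => by
    have h := (Nat.prime_dvd_prime_iff_eq hp Nat.prime_three).1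
      ((CharP.cast_eq_zero_iff F p 3).1 (by exact_mod_cast e))
    rw [h] at hp3
    norm_num at hp3
  have hcu : Nat.card Fˣ = p - 1 := by rw [Nat.card_units, Nat.card_eq_fintype_card, hF]
  have hex : ∃ w : Fˣ, w ^ 3 = 1 ∧ w ≠ 1 := by
    obtain ⟨w, hw⟩ := exists_prime_orderOf_dvd_card' (G := Fˣ) 3 (by rw [hcu]; have := hp.two_le; omega)
    exact ⟨w, hw ▸ pow_orderOf_eq_one w, fun h => by rw [h, orderOf_one] at hw; norm_num at hw⟩
  obtain ⟨w₀, hw₀, hw₀1⟩ := hex
  obtain ⟨h27, hexp, hna⟩ := card_eq_27 h3 hw₀ hw₀1 hR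
  obtain ⟨P, w, hw, hw1, hRP⟩ := exists_frame h3 ⟨w₀, hw₀, hw₀1⟩ R h27 hexp hna
  refine isMaximalIn_intro inf_le_right (fun hle => ?_) fun M hHM hMK g hgM hgH => ?_
  · exact Asch.not_sl_le_normalizer (by simp) hR (hle.trans inf_le_left)
  have hdetP : ∀ s : GL (Fin 3) F, ((P * s * P⁻¹ : GL (Fin 3) F) : M₃).det = (s : M₃).det := fun s => by
    rw [Units.val_mul, Units.val_mul, Matrix.det_units_conj]
  have hmemSL : ∀ s : GL (Fin 3) F, s ∈ Geo.specialLinear (Fin 3) F ↔ (s : M₃).det = 1 := fun s =>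
    ⟨fun h => congrArg Units.val (MonoidHom.mem_ker.1 h), fun h => MonoidHom.mem_ker.2 (Units.ext h)⟩
  have hnorm : ∀ x : GL (Fin 3) F, x ∈ Subgroup.normalizer (std w : Set (GL (Fin 3) F)) ↔
      P * x * P⁻¹ ∈ Geo.subgroupNormalizer R := by
    intro x
    rw [Geo.subgroupNormalizer, Subgroup.mem_normalizer_iff, Subgroup.mem_normalizer_iff, hRP]
    have hm : ∀ t, P * t * P⁻¹ ∈ (std w).map (MulAut.conj P).toMonoidHom ↔ t ∈ std w := fun t =>
      ⟨fun ⟨s, hs, e⟩ => by
        have : s = t := by simpa using e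
        exact this ▸ hs, fun h => ⟨t, h, rfl⟩⟩
    constructor
    · intro hx t
      obtain ⟨s, rfl⟩ : ∃ s, t = P * s * P⁻¹ := ⟨P⁻¹ * t * P, by group⟩
      rw [show P * x * P⁻¹ * (P * s * P⁻¹) * (P * x * P⁻¹)⁻¹ = P * (x * s * x⁻¹) * P⁻¹ by group, hm, hm]
      exact hx s
    · intro hx s
      have h1 := hx (P * s * P⁻¹)
      rwa [show P * x * P⁻¹ * (P * s * P⁻¹) * (P * x * P⁻¹)⁻¹ = P * (x * s * x⁻¹) * P⁻¹ by group, hm, hm] at h1
  have hin : ∀ s : GL (Fin 3) F, s ∈ Subgroup.normalizer (std w : Set (GL (Fin 3) F)) → (s : M₃).det = 1 →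
      P * s * P⁻¹ ∈ M := fun s hs hd => hHM ⟨(hnorm s).1 hs, (hmemSL _).2 (by rw [hdetP, hd])⟩
  have hdA : ((dia (A w) : GL (Fin 3) F) : M₃).det = 1 := by
    rw [coe_dia, Matrix.det_diagonal, Fin.prod_univ_three]
    simp [A]
    linear_combination (sum_pow hw hw1).1
  have hdc : ((cyc : GL (Fin 3) F) : M₃).det = 1 := by simp [coe_cyc, Matrix.det_fin_three]
  have hirr : Irr M := by
    intro W hW
    refine hR.absIrred.1 W ?_
    rintro _ ⟨r, hr, rfl⟩
    refine hW _ ⟨r, ?_, rfl⟩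
    rw [hRP] at hr
    obtain ⟨s, hs, rfl⟩ := hr
    refine hin s (Subgroup.le_normalizer hs) ?_
    have hle : std w ≤ Geo.specialLinear (Fin 3) F := (Subgroup.closure_le _).2 (by
      rintro x (rfl | rfl)
      exacts [(hmemSL _).2 hdA, (hmemSL _).2 hdc])
    exact (hmemSL _).1 (hle hs)
  by_cases htv : ∃ v φ : Fin 3 → F, v ≠ 0 ∧ φ ≠ 0 ∧ φ ⬝ᵥ v = 0 ∧ MaxTv.InT M v φ
  · obtain ⟨v, φ, hv, hφ, hvφ, hT⟩ := htv
    exact specialLinear_le_of_root hirr hv hφ hvφ
      (inR_of_prime (by rw [Nat.card_eq_fintype_card, hF]; exact hp) hvφ hT)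
  exfalso
  push Not at htv
  refine (show Std (M.comap (MulAut.conj P).toMonoidHom) w p from ?_).false
  refine ⟨hw, hw1, hp, hF, by omega, fun s hs => ?_, fun v φ hv hφ hvφ hT => ?_, ?_, ?_, ?_, ?_, ?_, ?_⟩
  · have h1 : P * s * P⁻¹ ∈ M := hs
    rw [← hdetP]
    exact (hmemSL _).1 (hMK h1)
  · rw [inT_comap] at hT
    refine htv _ _ (fun e => hv ?_) (fun e => hφ ?_) ?_ hT
    · exact gl_mulVec_injective P (show (P : M₃) *ᵥ v = (P : M₃) *ᵥ 0 by rw [e, Matrix.mulVec_zero])
    · have h1 := congrArg (fun z => z ᵥ* (P : M₃)) e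
      simpa [Matrix.vecMul_vecMul] using h1
    · rw [vecMul_inv_dot, hvφ]
  · exact hin _ (Subgroup.le_normalizer (dia_A_mem w)) hdA
  · exact hin _ (Subgroup.le_normalizer (cyc_mem w)) hdc
  · exact hin _ (negSwap_mem_normalizer hw) det_negSwap
  · exact hin _ (four_mem_normalizer hw hw1) (det_four hw hw1)
  · exact hin _ (four'_mem_normalizer hw hw1) (det_four' hw hw1)
  · refine ⟨P⁻¹ * g * P, ?_, fun hn => hgH ⟨?_, hMK hgM⟩⟩
    · show P * (P⁻¹ * g * P) * P⁻¹ ∈ M
      rwa [show P * (P⁻¹ * g * P) * P⁻¹ = g by group]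
    · have h1 := (hnorm _).1 hn
      rwa [show P * (P⁻¹ * g * P) * P⁻¹ = g by group] at h1

end Cfsg.Agent.Classical.SLThree
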