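import Mathlib

/-!
The centraliser of an involution which is a double cover of a finite subgroup of `PGL(2)` and contains a
quaternion group: the possible shapes and their consequences.
-/

set_option autoImplicit false
set_option linter.unusedSectionVars false
set_option maxRecDepth 20000
set_option synthInstance.maxSize 2000
set_option synthInstance.maxHeartbeats 400000
set_option maxHeartbeats 4000000

namespace Cfsg.Agent.Classical.SLThree.Hessian

/-- The possible shapes of the image. -/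
inductive Kind (M : Type*) [Group M] : Prop
  | cyclic (h : IsCyclic M)
  | exc (h : ∀ a : M, a * a = 1 → a ∈ commutator M)
  | perm4 (i : Nonempty (M ≃* Equiv.Perm (Fin 4)))
  | dihedral (T : Subgroup M) (hT : ∀ a b : M, a ∉ T → b ∉ T → a * b ∈ T) (hc : IsCyclic T)
      (hi : ∀ a : M, a ∉ T → a * a = 1)

theorem mem_commutator_alt_four (a : alternatingGroup (Fin 4)) (h : a * a = 1) :
    a ∈ commutator (alternatingGroup (Fin 4)) := by
  have key : ∀ a : alternatingGroup (Fin 4), a * a = 1 →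
      ∃ x y : alternatingGroup (Fin 4), x * y * x⁻¹ * y⁻¹ = a := by decide
  obtain ⟨x, y, rfl⟩ := key a h
  rw [← commutatorElement_def, commutator_eq_closure]
  exact Subgroup.subset_closure ⟨x, y, rfl⟩

theorem Kind.of_mulEquiv_four {M : Type*} [Group M] (i : M ≃* alternatingGroup (Fin 4)) : Kind M := by
  refine .exc fun a ha => ?_
  have h := mem_commutator_alt_four (i a) (by rw [← map_mul, ha, map_one])
  have h2 : i.symm (i a) ∈ (commutator (alternatingGroup (Fin 4))).map i.symm.toMonoidHom := ⟨_, h, rfl⟩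
  rw [MulEquiv.symm_apply_apply, commutator_def, Subgroup.map_commutator] at h2
  exact Subgroup.commutator_mono le_top le_top h2

theorem Kind.of_mulEquiv_five {M : Type*} [Group M] (i : M ≃* alternatingGroup (Fin 5)) : Kind M := by
  refine .exc fun a _ => ?_
  have h : i a ∈ commutator (alternatingGroup (Fin 5)) := by
    rw [commutator_alternatingGroup_eq_top (by simp)]; trivial
  have h2 : i.symm (i a) ∈ (commutator (alternatingGroup (Fin 5))).map i.symm.toMonoidHom := ⟨_, h, rfl⟩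
  rw [MulEquiv.symm_apply_apply, commutator_def, Subgroup.map_commutator] at h2
  exact Subgroup.commutator_mono le_top le_top h2

theorem eq_of_invol_cyclic {T : Type*} [Group T] [IsCyclic T] [Finite T] {a b : T} (ha : a * a = 1) (ha1 : a ≠ 1)
    (hb : b * b = 1) (hb1 : b ≠ 1) : a = b := by
  classical
  haveI := Fintype.ofFinite T
  by_contra hne
  have h3 : ({1, a, b} : Finset T).card = 3 := by
    rw [Finset.card_insert_of_notMem, Finset.card_pair hne]
    simp [Ne.symm ha1, Ne.symm hb1]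
  have hsub : ({1, a, b} : Finset T) ⊆ Finset.univ.filter (fun x : T => x ^ 2 = 1) := by
    intro x hx
    simp only [Finset.mem_insert, Finset.mem_singleton] at hx
    rcases hx with rfl | rfl | rfl <;> simp [pow_two, ha, hb]
  have := (Finset.card_le_card hsub).trans (IsCyclic.card_pow_eq_one_le (α := T) two_pos)
  omega

theorem mem_of_cube_cyclic {T : Type*} [Group T] [IsCyclic T] [Finite T] {a b : T} (ha : a ^ 3 = 1) (ha1 : a ≠ 1)
    (hb : b ^ 3 = 1) : b = 1 ∨ b = a ∨ b = a⁻¹ := by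
  classical
  haveI := Fintype.ofFinite T
  by_contra hne
  push Not at hne
  have haa : a ≠ a⁻¹ := fun e => ha1 (by rwa [pow_succ, pow_two, eq_inv_iff_mul_eq_one.1 e, one_mul] at ha)
  have h4 : ({1, a, a⁻¹, b} : Finset T).card = 4 := by
    rw [Finset.card_insert_of_notMem, Finset.card_insert_of_notMem, Finset.card_pair hne.2.2.symm]
    · simp [haa, Ne.symm hne.2.1]
    · simp [ha1, Ne.symm hne.1, Ne.symm ha1]
  have hsub : ({1, a, a⁻¹, b} : Finset T) ⊆ Finset.univ.filter (fun x : T => x ^ 3 = 1) := by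
    intro x hx
    simp only [Finset.mem_insert, Finset.mem_singleton] at hx
    rcases hx with rfl | rfl | rfl | rfl <;> simp [inv_pow, ha, hb]
  have := (Finset.card_le_card hsub).trans (IsCyclic.card_pow_eq_one_le (α := T) three_pos)
  omega

variable {G : Type*} [Group G] {h : G} {M : Type*} [Group M] {A : Type*} [CommGroup A]

/-- The centraliser of an element. -/
abbrev Cn {G : Type*} [Group G] (a : G) : Subgroup G := Subgroup.centralizer ({a} : Set G)

/-- The centraliser of the involution with its image and its sign. -/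
structure Cov (G : Type*) [Group G] (h : G) {M : Type*} [Group M] {A : Type*} [CommGroup A]
    (π : Subgroup.centralizer ({h} : Set G) →* M) (β : Subgroup.centralizer ({h} : Set G) →* A) (e : A) : Prop where
  inv : h * h = 1 ∧ h ≠ 1
  surj : Function.Surjective π
  ker : ∀ x, π x = 1 ↔ (x : G) = 1 ∨ (x : G) = h
  sign : ∀ v : Subgroup.centralizer ({h} : Set G), (v : G) * v = 1 → (v : G) ≠ 1 → (v : G) ≠ h → β v = e
  sqrt : ∀ q : Subgroup.centralizer ({h} : Set G), (q : G) * q = h → β q = 1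
  ne : e ≠ 1
  sqe : e * e = 1
  quat : ∃ i j : Subgroup.centralizer ({h} : Set G), (i : G) * i = h ∧ (j : G) * j = h ∧ (j : G) * i * (j : G)⁻¹ = h * i
  other : ∃ v : Subgroup.centralizer ({h} : Set G), (v : G) * v = 1 ∧ (v : G) ≠ 1 ∧ (v : G) ≠ h
  kind : Kind M

namespace Cov

variable {π : (Cn h) →* M} {β : (Cn h) →* A} {e : A}

theorem hh (c : Cov G h π β e) : h * h = 1 := c.inv.1

theorem hC (c : Cov G h π β e) : h ∈ (Cn h) := Subgroup.mem_centralizer_singleton_iff.2 rfl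

theorem comm (x : (Cn h)) : h * (x : G) = x * h := (Subgroup.mem_centralizer_singleton_iff.1 x.2).symm

theorem sq_h_mul (c : Cov G h π β e) (v : (Cn h)) : h * (v : G) * (h * v) = v * v := by
  calc h * (v : G) * (h * v) = v * h * (h * v) := by rw [comm v]
    _ = v * (h * h) * v := by simp only [mul_assoc]
    _ = v * v := by rw [c.hh, mul_one]

theorem kerm (c : Cov G h π β e) {x y : (Cn h)} (hxy : π x = π y) : (y : G) = x ∨ (y : G) = h * x := by
  rcases (c.ker (y * x⁻¹)).1 (by rw [map_mul, map_inv, hxy, mul_inv_cancel]) with h1 | h1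
  · exact Or.inl (mul_inv_eq_one.1 h1)
  · exact Or.inr (mul_inv_eq_iff_eq_mul.1 h1)

theorem beta_h (c : Cov G h π β e) : β ⟨h, c.hC⟩ = 1 := by
  obtain ⟨i, -, hi, -, -⟩ := c.quat
  rw [show (⟨h, c.hC⟩ : (Cn h)) = i * i from Subtype.ext hi.symm, map_mul, c.sqrt i hi, mul_one]

theorem beta_congr (c : Cov G h π β e) {x y : (Cn h)} (hxy : π x = π y) : β x = β y := by
  rcases c.kerm hxy with h1 | h1
  · rw [Subtype.ext h1]
  · rw [show y = ⟨h, c.hC⟩ * x from Subtype.ext h1, map_mul, c.beta_h, one_mul]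

theorem pi_ne (c : Cov G h π β e) {i : (Cn h)} (hi : (i : G) * i = h) : π i ≠ 1 := fun h1 => by
  rcases (c.ker i).1 h1 with h2 | h2
  · rw [h2, one_mul] at hi; exact c.inv.2 hi.symm
  · rw [h2, c.hh] at hi; exact c.inv.2 hi.symm

theorem pi_sq (c : Cov G h π β e) {i : (Cn h)} (hi : (i : G) * i = h) : π i * π i = 1 := by
  rw [← map_mul, c.ker]; exact Or.inr hi

theorem not_cyclic (c : Cov G h π β e) [Finite M] (hM : IsCyclic M) : False := by
  obtain ⟨i, j, hi, hj, hji⟩ := c.quat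
  have e1 := eq_of_invol_cyclic (c.pi_sq hi) (c.pi_ne hi) (c.pi_sq hj) (c.pi_ne hj)
  have hii : Commute (j : G) i := by
    rcases c.kerm e1 with h1 | h1
    · rw [h1]
    · rw [h1, comm i]
      exact (Commute.refl (i : G)).mul_left (Subgroup.mem_centralizer_singleton_iff.1 i.2).symm
  rw [hii.eq, mul_inv_cancel_right] at hji
  exact c.inv.2 (left_eq_mul₀' hji)
where
  left_eq_mul₀' {a b : G} (h : a = b * a) : b = 1 := mul_eq_right.1 h.symm

theorem not_exc (c : Cov G h π β e) (hM : ∀ a : M, a * a = 1 → a ∈ commutator M) : False := by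
  obtain ⟨v, hv, hv1, hvh⟩ := c.other
  let β' : M →* A := MonoidHom.liftOfSurjective π c.surj ⟨β, fun x hx => by
    rw [MonoidHom.mem_ker] at hx ⊢
    rw [c.beta_congr (x := x) (y := 1) (by rw [hx, map_one]), map_one]⟩
  have h1 : β' (π v) = β v := MonoidHom.liftOfRightInverse_comp_apply π _ _ _ v
  have h2 : β' (π v) = 1 := Abelianization.commutator_subset_ker β'
    (hM _ (by rw [← map_mul, c.ker]; exact Or.inl hv))
  exact c.ne (by rw [← c.sign v hv hv1 hvh, ← h1, h2])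

/-- Only the symmetric group and the dihedral groups remain. -/
theorem split (c : Cov G h π β e) [Finite M] : Nonempty (M ≃* Equiv.Perm (Fin 4)) ∨
    ∃ T : Subgroup M, T ≠ ⊤ ∧ (∀ a b : M, a ∉ T → b ∉ T → a * b ∈ T) ∧ IsCyclic T ∧ ∀ a : M, a ∉ T → a * a = 1 := by
  cases c.kind with
  | cyclic h => exact (c.not_cyclic h).elim
  | exc h => exact (c.not_exc h).elim
  | perm4 i => exact Or.inl i
  | dihedral T hT hc hi =>
    refine Or.inr ⟨T, fun e => c.not_cyclic ?_, hT, hc, hi⟩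
    subst e
    exact Subgroup.topEquiv.isCyclic.1 hc

theorem invert {T : Subgroup M} (hi : ∀ a : M, a ∉ T → a * a = 1) {a t : M} (ha : a ∉ T) (ht : t ∈ T) :
    a * t * a⁻¹ = t⁻¹ := by
  have h1 := hi (a * t) fun h1 => ha (by simpa using mul_mem h1 (inv_mem ht))
  rw [inv_eq_of_mul_eq_one_right (hi a ha)]
  exact (inv_eq_of_mul_eq_one_left (by rwa [← mul_assoc] at h1)).symm

/-- Every element of the image is real. -/
theorem real (c : Cov G h π β e) [Finite M] (x : M) : ∃ g, g * x * g⁻¹ = x⁻¹ := by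
  rcases c.split with ⟨⟨i⟩⟩ | ⟨T, hT, -, -, hi⟩
  · have key : ∀ x : Equiv.Perm (Fin 4), ∃ g, g * x * g⁻¹ = x⁻¹ := by decide
    obtain ⟨g, hg⟩ := key (i x)
    exact ⟨i.symm g, i.injective (by simp [hg])⟩
  · by_cases hx : x ∈ T
    · obtain ⟨g, hg⟩ : ∃ g, g ∉ T := by
        by_contra hc
        push Not at hc
        exact hT (eq_top_iff.2 fun g _ => hc g)
      exact ⟨g, invert hi hg hx⟩
    · exact ⟨1, by rw [one_mul, inv_one, mul_one, inv_eq_of_mul_eq_one_right (hi x hx)]⟩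

theorem beta_sq (c : Cov G h π β e) [Finite M] (x : (Cn h)) : β x * β x = 1 := by
  obtain ⟨g, hg⟩ := c.real (π x)
  obtain ⟨g, rfl⟩ := c.surj g
  rw [← map_inv, ← map_mul, ← map_mul, ← map_inv] at hg
  have h1 := c.beta_congr hg
  rw [map_mul, map_mul, map_inv, map_inv, mul_inv_cancel_comm] at h1
  exact mul_eq_one_iff_eq_inv.2 h1

theorem beta_cube (c : Cov G h π β e) [Finite M] {y : (Cn h)} (hy : y ^ 3 = 1) : β y = 1 := by
  have h1 := c.beta_sq y
  have h3 : β y ^ 3 = 1 := by rw [← map_pow, hy, map_one]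
  rwa [pow_succ, pow_two, h1, one_mul] at h3

theorem exists_sqrt_mem (c : Cov G h π β e) {T : Subgroup M} (hT : ∀ a b : M, a ∉ T → b ∉ T → a * b ∈ T) :
    ∃ q r : (Cn h), (q : G) * q = h ∧ (r : G) * r = h ∧ (r : G) * q * (r : G)⁻¹ = h * q ∧ π q ∈ T := by
  obtain ⟨i, j, hi, hj, hji⟩ := c.quat
  have hji' : (j : G) * i = h * i * j := mul_inv_eq_iff_eq_mul.1 hji
  by_cases h1 : π i ∈ T
  · exact ⟨i, j, hi, hj, hji, h1⟩
  by_cases h2 : π j ∈ T
  · refine ⟨j, i, hj, hi, ?_, h2⟩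
    rw [mul_inv_eq_iff_eq_mul, mul_assoc, hji']
    rw [← mul_assoc, ← mul_assoc, c.hh, one_mul]
  refine ⟨i * j, j, ?_, hj, ?_, by rw [map_mul]; exact hT _ _ h1 h2⟩
  · rw [Subgroup.coe_mul]
    calc (i : G) * j * (i * j) = i * (j * i) * j := by simp only [mul_assoc]
      _ = i * (h * i * j) * j := by rw [hji']
      _ = h * (i * i) * (j * j) := by rw [← mul_assoc (i : G), ← mul_assoc (i : G), ← comm i]; simp only [mul_assoc]
      _ = h := by rw [hi, hj, c.hh, one_mul]
  · rw [Subgroup.coe_mul, ← mul_assoc, mul_inv_cancel_right, hji', mul_assoc]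

/-- An element of order three commutes with no further involution. -/
theorem own_cube (c : Cov G h π β e) [Finite M] {y v : (Cn h)} (hy : y ^ 3 = 1) (hy1 : y ≠ 1) (hv : (v : G) * v = 1)
    (hv1 : (v : G) ≠ 1) (hcom : Commute y v) : (v : G) = h := by
  by_contra hvh
  have hy3 : π y ^ 3 = 1 := by rw [← map_pow, hy, map_one]
  have hpy : π y ≠ 1 := fun e1 => by
    rcases (c.ker y).1 e1 with h1 | h1
    · exact hy1 (Subtype.ext h1)
    · have := congrArg (fun z : (Cn h) => (z : G)) hy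
      simp only [SubmonoidClass.coe_pow, OneMemClass.coe_one] at this
      rw [h1, pow_three, c.hh, mul_one] at this
      exact c.inv.2 this
  have hpv : π v * π v = 1 := by rw [← map_mul, c.ker]; exact Or.inl hv
  have hpv1 : π v ≠ 1 := fun e1 => by
    rcases (c.ker v).1 e1 with h1 | h1
    exacts [hv1 h1, hvh h1]
  rcases c.split with ⟨⟨i⟩⟩ | ⟨T, -, hT, hcy, hi⟩
  · have key : ∀ a b : Equiv.Perm (Fin 4), a ^ 3 = 1 → b * b = 1 → a * b = b * a → a = 1 ∨ b = 1 := by decide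
    rcases key (i (π y)) (i (π v)) (by rw [← map_pow, hy3, map_one]) (by rw [← map_mul, hpv, map_one])
      (((hcom.map π).map i.toMonoidHom).eq) with h1 | h1
    · exact hpy (i.map_eq_one_iff.1 h1)
    · exact hpv1 (i.map_eq_one_iff.1 h1)
  · by_cases hvT : π v ∈ T
    · obtain ⟨q, -, hq, -, -, hqT⟩ := c.exists_sqrt_mem hT
      have e1 : (⟨π v, hvT⟩ : T) = ⟨π q, hqT⟩ := eq_of_invol_cyclic (Subtype.ext hpv)
        (fun e2 => hpv1 (congrArg Subtype.val e2)) (Subtype.ext (c.pi_sq hq))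
        (fun e2 => c.pi_ne hq (congrArg Subtype.val e2))
      rcases c.kerm (congrArg Subtype.val e1 : π v = π q) with h1 | h1
      · exact c.inv.2 (by rw [← hq, h1, hv])
      · refine c.inv.2 ?_
        rw [← hq, h1, c.sq_h_mul, hv]
    · have hyT : π y ∈ T := by_contra fun hn => hpy (by
        have := hy3; rwa [pow_three, hi _ hn, mul_one] at this)
      have h1 := invert hi hvT hyT
      rw [← (hcom.map π).eq, mul_inv_cancel_right] at h1
      refine hpy ?_
      rwa [pow_succ, pow_two, eq_inv_iff_mul_eq_one.1 h1, one_mul] at hy3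

/-- Commuting elements of order three generate one subgroup. -/
theorem pow_cube (c : Cov G h π β e) [Finite M] {y z : (Cn h)} (hy : y ^ 3 = 1) (hy1 : y ≠ 1) (hz : z ^ 3 = 1)
    (hcom : Commute y z) : z = 1 ∨ z = y ∨ z = y⁻¹ := by
  have hy3 : π y ^ 3 = 1 := by rw [← map_pow, hy, map_one]
  have hz3 : π z ^ 3 = 1 := by rw [← map_pow, hz, map_one]
  have key : ∀ {a b : (Cn h)}, a ^ 3 = 1 → b ^ 3 = 1 → π a = π b → a = b := by
    intro a b ha hb hab
    rcases c.kerm hab with h1 | h1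
    · exact Subtype.ext h1.symm
    · exfalso
      have h2 : ((b : G)) ^ 3 = (h * a) ^ 3 := by rw [h1]
      rw [(show Commute h (a : G) from comm a).mul_pow] at h2
      rw [← SubmonoidClass.coe_pow, ← SubmonoidClass.coe_pow, ha, hb, OneMemClass.coe_one, mul_one,
        pow_succ, pow_two, c.hh, one_mul] at h2
      exact c.inv.2 h2.symm
  have hpy : π y ≠ 1 := fun e1 => hy1 (key hy (one_pow 3) (by rw [e1, map_one]))
  have hM : π z = 1 ∨ π z = π y ∨ π z = (π y)⁻¹ := by
    rcases c.split with ⟨⟨i⟩⟩ | ⟨T, -, -, hcy, hi⟩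
    · have k4 : ∀ a b : Equiv.Perm (Fin 4), a ^ 3 = 1 → b ^ 3 = 1 → a * b = b * a →
          a = 1 ∨ b = 1 ∨ b = a ∨ b = a⁻¹ := by decide
      rcases k4 (i (π y)) (i (π z)) (by rw [← map_pow, hy3, map_one]) (by rw [← map_pow, hz3, map_one])
        (((hcom.map π).map i.toMonoidHom).eq) with h1 | h1 | h1 | h1
      · exact absurd (i.map_eq_one_iff.1 h1) hpy
      · exact Or.inl (i.map_eq_one_iff.1 h1)
      · exact Or.inr (Or.inl (i.injective h1))
      · exact Or.inr (Or.inr (i.injective (by rw [h1, map_inv])))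
    · have hmem : ∀ a : M, a ^ 3 = 1 → a ∈ T := fun a ha => by_contra fun hn => hn (by
        rw [pow_three, hi a hn, mul_one] at ha; rw [ha]; exact one_mem T)
      rcases mem_of_cube_cyclic (a := (⟨π y, hmem _ hy3⟩ : T)) (b := ⟨π z, hmem _ hz3⟩) (Subtype.ext hy3)
        (fun e1 => hpy (congrArg Subtype.val e1)) (Subtype.ext hz3) with h1 | h1 | h1
      · exact Or.inl (congrArg Subtype.val h1)
      · exact Or.inr (Or.inl (congrArg Subtype.val h1))
      · exact Or.inr (Or.inr (congrArg Subtype.val h1))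
  rcases hM with h1 | h1 | h1
  · exact Or.inl (key hz (one_pow 3) (by rw [h1, map_one]))
  · exact Or.inr (Or.inl (key hz hy h1))
  · exact Or.inr (Or.inr (key hz (by rw [inv_pow, hy, inv_one]) (by rw [h1, map_inv])))

/-- The dihedral case. -/
theorem dihedral_data (c : Cov G h π β e) [Finite G] [Finite M] (h3 : ¬ 3 ∣ Nat.card (Cn h)) :
    ∃ n : ℕ, Nat.card (Cn h) = 4 * n ∧ 4 ∣ n ∧ ¬ 3 ∣ n ∧
      Nat.card {v : G // (v * v = 1 ∧ v ≠ 1) ∧ v ≠ h ∧ Commute v h} = n ∧
      (∀ v x : G, v * v = 1 → v ≠ 1 → v ≠ h → Commute v h → Commute x h → Commute x v →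
        x = 1 ∨ x = h ∨ x = v ∨ x = h * v) ∧
      ∀ v w : G, v * v = 1 → v ≠ 1 → v ≠ h → Commute v h → w * w = 1 → w ≠ 1 → w ≠ h → Commute w h →
        IsConj v w := by
  classical
  have hK : Nat.card π.ker = 2 := by
    have : π.ker = Subgroup.zpowers (⟨h, c.hC⟩ : (Cn h)) := by
      ext x
      rw [MonoidHom.mem_ker, c.ker]
      constructor
      · rintro (h1 | h1)
        · rw [show x = 1 from Subtype.ext h1]; exact one_mem _
        · exact Subgroup.mem_zpowers_iff.2 ⟨1, by rw [zpow_one]; exact Subtype.ext h1.symm⟩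
      · rw [mem_zpowers_iff_mem_range_orderOf]
        intro hx
        obtain ⟨k, hk, rfl⟩ := Finset.mem_image.1 hx
        have hk2 : k < 2 := by
          refine lt_of_lt_of_le (Finset.mem_range.1 hk) (Nat.le_of_dvd two_pos ?_)
          exact orderOf_dvd_of_pow_eq_one (Subtype.ext (by rw [pow_two]; exact c.hh))
        interval_cases k <;> simp
    rw [this, Nat.card_zpowers, orderOf_eq_prime (p := 2) (Subtype.ext (by rw [pow_two]; exact c.hh))
      (fun e1 => c.inv.2 (congrArg Subtype.val e1))]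
  have hcard : Nat.card (Cn h) = 2 * Nat.card M := by
    rw [← Subgroup.card_mul_index π.ker, hK, Subgroup.index_ker, MonoidHom.range_eq_top.2 c.surj,
      Subgroup.card_top]
  rcases c.split with ⟨⟨i⟩⟩ | ⟨T, hTtop, hT, hcy, hi⟩
  · exfalso
    refine h3 ?_
    rw [hcard, Nat.card_congr i.toEquiv, Nat.card_perm, Nat.card_eq_fintype_card, Fintype.card_fin]
    norm_num [Nat.factorial]
  obtain ⟨n, hn⟩ : ∃ n, n = Nat.card T := ⟨_, rfl⟩
  obtain ⟨q, r, hq, hr, hrq, hqT⟩ := c.exists_sqrt_mem hT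
  have huniq : ∀ a : M, a ∈ T → a * a = 1 → a ≠ 1 → a = π q := fun a ha h1 h2 =>
    congrArg Subtype.val (eq_of_invol_cyclic (a := (⟨a, ha⟩ : T)) (b := ⟨π q, hqT⟩) (Subtype.ext h1)
      (fun e1 => h2 (congrArg Subtype.val e1)) (Subtype.ext (c.pi_sq hq))
      (fun e1 => c.pi_ne hq (congrArg Subtype.val e1)))
  have hrT : π r ∉ T := fun hh => by
    have h1 := huniq _ hh (c.pi_sq hr) (c.pi_ne hr)
    rcases c.kerm h1 with h2 | h2
    · rw [h2, mul_inv_cancel_right] at hrq
      exact c.inv.2 (mul_eq_right.1 hrq.symm)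
    · rw [h2, show (r : G) * (h * r) * (r : G)⁻¹ = h * r by rw [mul_inv_eq_iff_eq_mul, ← mul_assoc, ← comm r],
        ← mul_assoc, c.hh, one_mul] at hrq
      exact c.inv.2 (mul_eq_right.1 hrq)
  have hidx : T.index = 2 := Subgroup.index_eq_two_iff.2 ⟨π r, fun b => by
    by_cases hb : b ∈ T
    · exact Or.inr ⟨hb, fun h1 => hrT (by simpa using mul_mem (inv_mem hb) h1)⟩
    · exact Or.inl ⟨hT _ _ hb hrT, hb⟩⟩
  have hM2 : Nat.card M = 2 * n := by rw [← Subgroup.card_mul_index T, hidx, hn, mul_comm]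
  -- a generator
  haveI := hcy
  obtain ⟨c0, hgen⟩ := IsCyclic.exists_generator (α := T)
  obtain ⟨x₀, hx₀⟩ := c.surj c0
  have hpow : ∀ a ∈ T, ∃ k : ℕ, k < n ∧ a = π x₀ ^ k := fun a ha => by
    obtain ⟨k, hk⟩ := mem_powers_iff_mem_zpowers.2 (hgen ⟨a, ha⟩)
    refine ⟨k % n, Nat.mod_lt _ (hn ▸ Nat.card_pos), ?_⟩
    have h1 : c0 ^ (k % n) = ⟨a, ha⟩ := by
      rw [hn, pow_mod_natCard]; exact hk
    rw [hx₀, ← SubmonoidClass.coe_pow, h1]
  have hab : ∀ x y : (Cn h), π x ∈ T → π y ∈ T → Commute (x : G) y := fun x y hx hy => by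
    obtain ⟨k, -, hk⟩ := hpow _ hx
    obtain ⟨l, -, hl⟩ := hpow _ hy
    have hp : ∀ (z : (Cn h)) (k : ℕ), π z = π x₀ ^ k → ∀ w : G, Commute w h → Commute w (x₀ : G) → Commute w (z : G) := by
      intro z k hz w hwh hwx
      rcases c.kerm (show π (x₀ ^ k) = π z by rw [map_pow, hz]) with h1 | h1 <;> rw [h1, SubmonoidClass.coe_pow]
      · exact hwx.pow_right k
      · exact hwh.mul_right (hwx.pow_right k)
    exact hp y l hl _ (comm x).symm (hp x k hk _ (comm x₀).symm (Commute.refl _)).symm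
  have hout : ∀ x : (Cn h), π x ∉ T → ∃ t : (Cn h), π t ∈ T ∧ x = r * t := fun x hx =>
    ⟨r⁻¹ * x, by rw [map_mul, map_inv]; exact hT _ _ (fun h1 => hrT (by simpa using inv_mem h1)) hx, by group⟩
  obtain ⟨v₀, hv₀, hv₀1, hv₀h⟩ := c.other
  have hv₀T : ∀ v : (Cn h), (v : G) * v = 1 → (v : G) ≠ 1 → (v : G) ≠ h → π v ∉ T := fun v h1 h2 h4 hm => by
    have hne : π v ≠ 1 := fun e1 => by
      rcases (c.ker v).1 e1 with h5 | h5
      exacts [h2 h5, h4 h5]
    rcases c.kerm (huniq _ hm (by rw [← map_mul, c.ker]; exact Or.inl h1) hne) with h5 | h5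
    · exact c.inv.2 (by rw [← hq, h5, h1])
    · refine c.inv.2 ?_
      rw [← hq, h5, c.sq_h_mul, h1]
  have hx₀e : β x₀ = e := by
    obtain ⟨t, ht, hvt⟩ := hout v₀ (hv₀T v₀ hv₀ hv₀1 hv₀h)
    obtain ⟨k, -, hk⟩ := hpow _ ht
    have h1 : β x₀ ^ k = e := by
      rw [← map_pow, c.beta_congr (show π (x₀ ^ k) = π t by rw [map_pow, hk]), ← c.sign v₀ hv₀ hv₀1 hv₀h, hvt,
        map_mul, c.sqrt r hr, one_mul]
    rcases Nat.even_or_odd k with ⟨m, hm⟩ | ⟨m, hm⟩
    · rw [hm, pow_add, ← mul_pow, c.beta_sq, one_pow] at h1; exact absurd h1.symm c.ne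
    · rwa [hm, pow_succ, pow_mul, pow_two, c.beta_sq, one_pow, one_mul] at h1
  have hbT : ∀ x : (Cn h), π x ∈ T → ∃ k : ℕ, k < n ∧ π x = π x₀ ^ k ∧ β x = e ^ k := fun x hx => by
    obtain ⟨k, hk, hxk⟩ := hpow _ hx
    exact ⟨k, hk, hxk, by rw [c.beta_congr (show π x = π (x₀ ^ k) by rw [map_pow, hxk]), map_pow, hx₀e]⟩
  have hxn : π x₀ ^ n = 1 := by
    rw [hx₀, ← SubmonoidClass.coe_pow, hn, pow_card_eq_one', OneMemClass.coe_one]
  have hord : orderOf (π x₀) = n := by
    rw [hx₀, Subgroup.orderOf_coe, orderOf_eq_card_of_forall_mem_zpowers hgen, hn]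
  -- the index of the involution
  have h4 : 4 ∣ n := by
    obtain ⟨k, hk, hqk, hbq⟩ := hbT q hqT
    have h1 : π x₀ ^ (2 * k) = 1 := by rw [two_mul, pow_add, ← hqk, c.pi_sq hq]
    have hd : n ∣ 2 * k := hord ▸ orderOf_dvd_of_pow_eq_one h1
    have hk0 : k ≠ 0 := fun e1 => c.pi_ne hq (by rw [hqk, e1, pow_zero])
    have hkn : 2 * k = n := by
      obtain ⟨u, hu⟩ := hd
      rcases u with _ | _ | u
      · omega
      · omega
      · rw [Nat.mul_add, Nat.mul_add] at hu; omega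
    rw [c.sqrt q hq] at hbq
    rcases Nat.even_or_odd k with ⟨m, hm⟩ | ⟨m, hm⟩
    · exact ⟨m, by omega⟩
    · rw [hm, pow_succ, pow_mul, pow_two, c.sqe, one_pow, one_mul] at hbq; exact absurd hbq.symm c.ne
  have hinv_r : ∀ t : (Cn h), π t ∈ T → π r * π t * (π r)⁻¹ = (π t)⁻¹ := fun t ht => invert hi hrT ht
  have hS : ∀ v : (Cn h), ((v : G) * v = 1 ∧ (v : G) ≠ 1 ∧ (v : G) ≠ h) ↔ π v ∉ T ∧ β v = e := by
    intro v
    refine ⟨fun h1 => ⟨hv₀T v h1.1 h1.2.1 h1.2.2, c.sign v h1.1 h1.2.1 h1.2.2⟩, fun h1 => ?_⟩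
    rcases (c.ker (v * v)).1 (by rw [map_mul]; exact hi _ h1.1) with h2 | h2 <;> rw [Subgroup.coe_mul] at h2
    · refine ⟨h2, fun e1 => h1.1 ?_, fun e1 => h1.1 ?_⟩
      · rw [show v = 1 from Subtype.ext e1, map_one]; exact one_mem T
      · rw [(c.ker v).2 (Or.inr e1)]; exact one_mem T
    · exact absurd ((c.sqrt v h2).symm.trans h1.2).symm c.ne
  refine ⟨n, by rw [hcard, hM2]; ring, h4, fun h5 => h3 ?_, ?_, ?_, ?_⟩
  · rw [hcard, hM2]; exact dvd_mul_of_dvd_right (dvd_mul_of_dvd_right h5 2) 2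
  · -- the count
    let C' : Subgroup (Cn h) := T.comap π
    let f : C' → Bool := fun t => decide (β t = e)
    have hC' : Nat.card C' = 2 * n := by
      have h1 := Subgroup.card_mul_index C'
      rw [Subgroup.index_comap_of_surjective _ c.surj, hidx, hcard, hM2] at h1
      omega
    have e1 : {v : G // (v * v = 1 ∧ v ≠ 1) ∧ v ≠ h ∧ Commute v h} ≃ {t : C' // β (t : (Cn h)) = e} :=
      { toFun := fun v => ⟨⟨r⁻¹ * ⟨v.1, Subgroup.mem_centralizer_singleton_iff.2 v.2.2.2.eq⟩, by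
            show π (r⁻¹ * _) ∈ T
            rw [map_mul, map_inv]
            exact hT _ _ (fun h1 => hrT (by simpa using inv_mem h1))
              ((hS ⟨v.1, _⟩).1 ⟨v.2.1.1, v.2.1.2, v.2.2.1⟩).1⟩, by
            show β (r⁻¹ * _) = e
            rw [map_mul, map_inv, c.sqrt r hr, inv_one, one_mul]
            exact ((hS ⟨v.1, _⟩).1 ⟨v.2.1.1, v.2.1.2, v.2.2.1⟩).2⟩
        invFun := fun t => ⟨((r * t.1.1 : (Cn h)) : G), by
            have h1 := (hS (r * t.1.1)).2 ⟨fun h1 => hrT (by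
              rw [map_mul] at h1; simpa using mul_mem h1 (inv_mem t.1.2)),
              by rw [map_mul, c.sqrt r hr, one_mul]; exact t.2⟩
            exact ⟨⟨h1.1, h1.2.1⟩, h1.2.2, Subgroup.mem_centralizer_singleton_iff.1 (r * t.1.1).2⟩⟩
        left_inv := fun v => Subtype.ext (by simp)
        right_inv := fun t => Subtype.ext (Subtype.ext (Subtype.ext (by simp))) }
    rw [Nat.card_congr e1]
    let x₁ : C' := ⟨x₀, by show π x₀ ∈ T; rw [hx₀]; exact c0.2⟩
    have hb : ∀ t : C', β (t : (Cn h)) = e ∨ β (t : (Cn h)) = 1 := fun t => by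
      obtain ⟨k, -, -, hk⟩ := hbT t t.2
      rcases Nat.even_or_odd k with ⟨m, hm⟩ | ⟨m, hm⟩
      · exact Or.inr (by rw [hk, hm, pow_add, ← mul_pow, c.sqe, one_pow])
      · exact Or.inl (by rw [hk, hm, pow_succ, pow_mul, pow_two, c.sqe, one_pow, one_mul])
    have e2 : {t : C' // β (t : (Cn h)) = e} ≃ {t : C' // ¬ β (t : (Cn h)) = e} :=
      { toFun := fun t => ⟨x₁ * t.1, by
          show ¬ β (x₀ * _) = e
          rw [map_mul, hx₀e, t.2, c.sqe]; exact c.ne.symm⟩
        invFun := fun t => ⟨x₁⁻¹ * t.1, by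
          show β (x₀⁻¹ * _) = e
          rw [map_mul, map_inv, hx₀e, (hb t.1).resolve_left t.2, mul_one, inv_eq_of_mul_eq_one_right c.sqe]⟩
        left_inv := fun t => Subtype.ext (by group)
        right_inv := fun t => Subtype.ext (by group) }
    have h6 := Nat.card_congr (Equiv.sumCompl fun t : C' => β (t : (Cn h)) = e)
    rw [Nat.card_sum, hC', ← Nat.card_congr e2] at h6
    omega
  · intro v x hv hv1 hvh hvc hxc hxv
    obtain ⟨v', hv'⟩ : ∃ v' : (Cn h), (v' : G) = v := ⟨⟨v, Subgroup.mem_centralizer_singleton_iff.2 hvc.eq⟩, rfl⟩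
    obtain ⟨x', hx'⟩ : ∃ x' : (Cn h), (x' : G) = x := ⟨⟨x, Subgroup.mem_centralizer_singleton_iff.2 hxc.eq⟩, rfl⟩
    subst hv' hx'
    have hvT := ((hS v').1 ⟨hv, hv1, hvh⟩).1
    have key : ∀ y : (Cn h), π y ∈ T → Commute (y : G) v' → (y : G) = 1 ∨ (y : G) = h := by
      intro y hy hyv
      have h1 := invert hi hvT hy
      rw [← ((show Commute y v' from Subtype.ext hyv.eq).map π).eq, mul_inv_cancel_right] at h1
      by_contra hcon
      rw [← c.ker] at hcon
      have h2 := huniq _ hy (eq_inv_iff_mul_eq_one.1 h1) hcon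
      obtain ⟨t, ht, hvt⟩ := hout v' hvT
      have hqv : Commute (q : G) v' := by
        rcases c.kerm h2 with h5 | h5
        · exact h5 ▸ hyv
        · exact h5 ▸ Commute.mul_left (comm v') hyv
      rw [hvt, Subgroup.coe_mul] at hqv
      have hqr : Commute (q : G) r := by
        have h5 := hqv.mul_right (hab q t hqT ht).inv_right
        rwa [mul_inv_cancel_right] at h5
      rw [← hqr.eq, mul_inv_cancel_right] at hrq
      exact c.inv.2 (mul_eq_right.1 hrq.symm)
    by_cases hxT : π x' ∈ T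
    · rcases key x' hxT hxv with h1 | h1
      exacts [Or.inl h1, Or.inr (Or.inl h1)]
    · rcases key (x' * v') (by rw [map_mul]; exact hT _ _ hxT hvT)
        (by rw [Subgroup.coe_mul]; exact hxv.mul_left (Commute.refl _)) with h1 | h1 <;> rw [Subgroup.coe_mul] at h1
      · exact Or.inr (Or.inr (Or.inl (mul_right_cancel (h1.trans hv.symm))))
      · exact Or.inr (Or.inr (Or.inr (mul_right_cancel (b := (v' : G)) (by rw [h1, mul_assoc, hv, mul_one]))))
  · intro v w hv hv1 hvh hvc hw hw1 hwh hwc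
    obtain ⟨v', hv'⟩ : ∃ v' : (Cn h), (v' : G) = v := ⟨⟨v, Subgroup.mem_centralizer_singleton_iff.2 hvc.eq⟩, rfl⟩
    obtain ⟨w', hw'⟩ : ∃ w' : (Cn h), (w' : G) = w := ⟨⟨w, Subgroup.mem_centralizer_singleton_iff.2 hwc.eq⟩, rfl⟩
    subst hv' hw'
    obtain ⟨hvT, hbv⟩ := (hS v').1 ⟨hv, hv1, hvh⟩
    obtain ⟨hwT, hbw⟩ := (hS w').1 ⟨hw, hw1, hwh⟩
    obtain ⟨k, -, hk, hbk⟩ := hbT (v' * w') (by rw [map_mul]; exact hT _ _ hvT hwT)
    rw [map_mul, hbv, hbw, c.sqe] at hbk
    obtain ⟨m, hm⟩ : Even k := by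
      rcases Nat.even_or_odd k with h1 | ⟨m, hm⟩
      · exact h1
      · rw [hm, pow_succ, pow_mul, pow_two, c.sqe, one_pow, one_mul] at hbk; exact absurd hbk.symm c.ne
    have hTm : π (x₀ ^ m) ∈ T := by rw [map_pow, hx₀]; exact pow_mem c0.2 _
    have h1 : π (x₀ ^ m)⁻¹ * π v' * π (x₀ ^ m) = π w' := by
      have hvi := invert hi hvT (inv_mem hTm)
      have hv2 : π v' * π v' = 1 := hi _ hvT
      rw [inv_inv, mul_inv_eq_iff_eq_mul] at hvi
      rw [map_inv]
      calc (π (x₀ ^ m))⁻¹ * π v' * π (x₀ ^ m)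
          = (π v' * π v') * ((π (x₀ ^ m))⁻¹ * π v' * π (x₀ ^ m)) := by rw [hv2, one_mul]
        _ = π v' * (π v' * (π (x₀ ^ m))⁻¹) * (π v' * π (x₀ ^ m)) := by simp only [mul_assoc]
        _ = π v' * (π (x₀ ^ m) * π v') * (π v' * π (x₀ ^ m)) := by rw [hvi]
        _ = π v' * π (x₀ ^ m) * (π v' * π v') * π (x₀ ^ m) := by simp only [mul_assoc]
        _ = π v' * (π x₀ ^ m * π x₀ ^ m) := by rw [hv2, mul_one, map_pow, mul_assoc]
        _ = π v' * (π v' * π w') := by rw [← pow_add, ← hm, ← hk, map_mul]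
        _ = π w' := by rw [← mul_assoc, hv2, one_mul]
    rw [← map_mul, ← map_mul] at h1
    have hqw : (q : G) * w' * (q : G)⁻¹ = h * w' := by
      obtain ⟨t, ht, hwt⟩ := hout w' hwT
      rw [hwt, Subgroup.coe_mul, mul_inv_eq_iff_eq_mul]
      have hrq' : (r : G) * q = h * q * r := mul_inv_eq_iff_eq_mul.1 hrq
      calc (q : G) * (r * t) = h * (h * q * r) * t := by simp only [← mul_assoc, c.hh, one_mul]
        _ = h * r * (q * t) := by rw [← hrq']; simp only [mul_assoc]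
        _ = h * (r * t) * q := by rw [(hab q t hqT ht).eq]; simp only [mul_assoc]
    rcases c.kerm h1 with h2 | h2
    · refine isConj_iff.2 ⟨((x₀ ^ m)⁻¹ : (Cn h)), ?_⟩
      rw [h2, Subgroup.coe_mul, Subgroup.coe_mul, Subgroup.coe_inv, inv_inv]
    · refine IsConj.trans (isConj_iff.2 ⟨((x₀ ^ m)⁻¹ : (Cn h)), rfl⟩) (isConj_iff.2 ⟨q, ?_⟩)
      rw [Subgroup.coe_mul, Subgroup.coe_mul, Subgroup.coe_inv] at h2
      rw [Subgroup.coe_inv, inv_inv, show (((x₀ ^ m : (Cn h)) : G))⁻¹ * v' * ((x₀ ^ m : (Cn h)) : G) = h * w' by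
        rw [h2, ← mul_assoc, c.hh, one_mul], ← mul_assoc (q : G), ← comm q]
      rw [show h * (q : G) * w' * (q : G)⁻¹ = h * (q * w' * (q : G)⁻¹) by group, hqw, ← mul_assoc, c.hh, one_mul]

end Cov

end Cfsg.Agent.Classical.SLThree.Hessian
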