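import Cfsg.Agent.Lib.Classical.SLThree.HessianLinear
import Cfsg.Agent.Lib.Classical.SLThree.HessianShape
import Cfsg.Agent.Lib.Classical.HeisenbergThree
import Cfsg.Agent.Lib.Classical.DicksonMain
import Cfsg.Agent.Lib.Classical.DicksonPGLCases

/-!
The centraliser of a reflection type involution of `GL(3, p)`: its image in `PGL(2, p)`.
-/

set_option autoImplicit false
set_option linter.unusedSectionVars false
set_option maxRecDepth 20000
set_option synthInstance.maxSize 2000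

namespace Cfsg.Agent.Classical.SLThree.Hessian

open Matrix MaxTv HeisenbergThree

universe u

section Finite

variable {E : Type} [Field E] [Fintype E] (p : ℕ) [Fact p.Prime] [CharP E p]

local notation "PSLE" => Matrix.ProjectiveSpecialLinearGroup (Fin 2) E

open Dickson Cfsg.Agent.Grp.SL2 Cfsg.Agent.PSL2Spec

/-- The subgroups of order prime to the characteristic. -/
theorem kind_or (hp2 : p ≠ 2) {H : Subgroup PSLE} (hH : ¬ p ∣ Nat.card H) :
    IsCyclic H ∨ (∃ T : Subgroup H, (∀ a b : H, a ∉ T → b ∉ T → a * b ∈ T) ∧ IsCyclic T ∧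
      ∀ a : H, a ∉ T → a * a = 1) ∨ Nonempty (H ≃* alternatingGroup (Fin 4)) ∨
      Nonempty (H ≃* Equiv.Perm (Fin 4)) ∨ Nonempty (H ≃* alternatingGroup (Fin 5)) := by
  cases dickson p H with
  | trivial h => subst h; exact Or.inl (isCyclic_of_subsingleton)
  | cyclic a ha ha1 hap h =>
    haveI : IsCyclic (tor a) := (pslData (F := E) p).semi_cyclic ha1 hap
    exact Or.inl (isCyclic_of_injective (Subgroup.inclusion h) (Subgroup.inclusion_injective h))
  | dihedral a ha ha1 hap hidx h iso =>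
    refine Or.inr (Or.inl ⟨(tor a).subgroupOf H, fun x y hx hy => ?_, ?_, fun x hx => Subtype.ext ?_⟩)
    · rw [Subgroup.mul_mem_iff_of_index_two hidx]
      exact iff_of_false hx hy
    · haveI : IsCyclic (tor a) := (pslData (F := E) p).semi_cyclic ha1 hap
      exact isCyclic_of_injective
        (MonoidHom.mk' (fun t : (tor a).subgroupOf H => (⟨(t : H), t.2⟩ : tor a)) fun _ _ => rfl)
        fun s t e => Subtype.ext (Subtype.ext (congrArg (fun z : tor a => (z : PSLE)) e))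
    · exact ((pslData (F := E) p).semi_flip ha1 hap (((pslData (F := E) p).mem_normalizer_iff ha1).mp (h x.2))
        fun e => hx e).1
  | borel a ha ha1 hap h =>
    refine absurd ?_ hH
    rw [← orderOf_eq_prime hap ha1]
    exact Subgroup.orderOf_dvd_natCard H ha
  | alt4 hc iso h => exact Or.inr (Or.inr (Or.inl iso))
  | perm4 hc iso h => exact Or.inr (Or.inr (Or.inr (Or.inl iso)))
  | alt5 hc iso h => exact Or.inr (Or.inr (Or.inr (Or.inr iso)))
  | subfield h =>
    refine absurd ?_ hH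
    obtain ⟨k, -, hk, -, e | e | ⟨e, e'⟩⟩ := PGLMax.card_of_subfieldType p h
    · exact e ▸ dvd_mul_of_dvd_left hk _
    · have h2 : p ∣ 2 * Nat.card H := e ▸ dvd_mul_of_dvd_left hk _
      exact ((Nat.Prime.dvd_mul Fact.out).1 h2).resolve_left fun h3 =>
        hp2 ((Nat.prime_dvd_prime_iff_eq Fact.out Nat.prime_two).1 h3)
    · exact e' ▸ dvd_mul_of_dvd_left hk _

/-- The shape of the image. -/
theorem kind_of (hp2 : p ≠ 2) {H : Subgroup PSLE} (hH : ¬ p ∣ Nat.card H) {M : Type*} [Group M] (i : M ≃* H) : Kind M := by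
  rcases kind_or p hp2 hH with hc | ⟨T, hT, hc, hi⟩ | ⟨⟨j⟩⟩ | ⟨⟨j⟩⟩ | ⟨⟨j⟩⟩
  · exact .cyclic (i.isCyclic.2 hc)
  · refine .dihedral (T.comap i.toMonoidHom) (fun a b ha hb => ?_) ?_ fun a ha => ?_
    · rw [Subgroup.mem_comap, map_mul]
      exact hT _ _ ha hb
    · exact isCyclic_of_injective
        (MonoidHom.mk' (fun t : T.comap i.toMonoidHom => (⟨i t, t.2⟩ : T)) fun a b => Subtype.ext (map_mul i _ _))
        fun s t e => Subtype.ext (i.injective (congrArg Subtype.val e))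
    · exact i.injective (by rw [map_mul, map_one]; exact hi _ ha)
  · exact Kind.of_mulEquiv_four (i.trans j)
  · exact .perm4 ⟨i.trans j⟩
  · exact Kind.of_mulEquiv_five (i.trans j)

/-- The middle powers of two elements of one even order at least four commute. -/
theorem commute_halves (hp2 : p ≠ 2) {H : Subgroup PSLE} (hH : ¬ p ∣ Nat.card H) {a b : H} {k : ℕ} (hk : 2 ≤ k)
    (ha : orderOf a = 2 * k) (hb : orderOf b = 2 * k) : Commute (a ^ k) (b ^ k) := by
  rcases kind_or p hp2 hH with hc | ⟨T, -, hc, hi⟩ | ⟨⟨j⟩⟩ | ⟨⟨j⟩⟩ | ⟨⟨j⟩⟩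
  · exact (IsCyclic.commGroup (α := H)).mul_comm _ _
  · have hmem : ∀ x : H, orderOf x = 2 * k → x ∈ T := fun x hx => by_contra fun hn => by
      have := Nat.le_of_dvd two_pos (hx ▸ orderOf_dvd_of_pow_eq_one (show x ^ 2 = 1 by rw [pow_two]; exact hi x hn))
      omega
    exact congrArg Subtype.val
      ((IsCyclic.commGroup (α := T)).mul_comm ⟨a ^ k, pow_mem (hmem a ha) k⟩ ⟨b ^ k, pow_mem (hmem b hb) k⟩)
  · exfalso
    have ho : orderOf (j a) = 2 * k := by rw [MulEquiv.orderOf_eq, ha]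
    rcases orders_alt_four (j a) with e | e <;>
      · have h1 := ho ▸ orderOf_dvd_of_pow_eq_one e
        have := Nat.le_of_dvd (by norm_num) h1
        omega
  · have key : ∀ x : Equiv.Perm (Fin 4), orderOf x = 2 * k → x ^ 4 = 1 ∧ k = 2 := fun x hx => by
      rcases orders_perm_four x with e | e
      · have := Nat.le_of_dvd (by norm_num) (hx ▸ orderOf_dvd_of_pow_eq_one e)
        exact ⟨e, by omega⟩
      · have := Nat.le_of_dvd (by norm_num) (hx ▸ orderOf_dvd_of_pow_eq_one e)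
        omega
    obtain ⟨hA, rfl⟩ := key (j a) (by rw [MulEquiv.orderOf_eq, ha])
    obtain ⟨hB, -⟩ := key (j b) (by rw [MulEquiv.orderOf_eq, hb])
    have k4 : ∀ x y : Equiv.Perm (Fin 4), x ^ 4 = 1 → y ^ 4 = 1 → x ^ 2 * y ^ 2 = y ^ 2 * x ^ 2 := by decide
    exact j.injective (by simpa using k4 _ _ hA hB)
  · exfalso
    have ho : orderOf (j a) = 2 * k := by rw [MulEquiv.orderOf_eq, ha]
    rcases orders_alt_five (j a) with e | e | e <;>
      · have h1 := ho ▸ orderOf_dvd_of_pow_eq_one e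
        have h2' := Nat.le_of_dvd (by norm_num) h1
        first
          | omega
          | (obtain rfl : k = 2 := by omega
             norm_num at h1)

end Finite

variable {F : Type u} [Field F]

local notation "M₃" => Matrix (Fin 3) (Fin 3) F

/-- The standard reflection type involution. -/
def J₀ : GL (Fin 3) F := dia ![1, -1, -1]

theorem coe_J₀ : ((J₀ : GL (Fin 3) F) : M₃) = Matrix.diagonal ![1, -1, -1] := by
  rw [J₀, coe_dia]
  congr 1
  funext i
  fin_cases i <;> simp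

theorem block_zero (h2 : (2 : F) ≠ 0) {g : GL (Fin 3) F} (hg : g * J₀ = J₀ * g) :
    (g : M₃) 0 1 = 0 ∧ (g : M₃) 0 2 = 0 ∧ (g : M₃) 1 0 = 0 ∧ (g : M₃) 2 0 = 0 := by
  have h := congrArg (fun z : GL (Fin 3) F => (z : M₃)) hg
  simp only [Units.val_mul, coe_J₀] at h
  have h' := fun i j => congrFun (congrFun h i) j
  simp only [Matrix.mul_diagonal, Matrix.diagonal_mul] at h'
  refine ⟨?_, ?_, ?_, ?_⟩
  · exact (mul_eq_zero.1 (show (2 : F) * (g : M₃) 0 1 = 0 by
      have := h' 0 1; simp at this; linear_combination -this)).resolve_left h2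
  · exact (mul_eq_zero.1 (show (2 : F) * (g : M₃) 0 2 = 0 by
      have := h' 0 2; simp at this; linear_combination -this)).resolve_left h2
  · exact (mul_eq_zero.1 (show (2 : F) * (g : M₃) 1 0 = 0 by
      have := h' 1 0; simp at this; linear_combination this)).resolve_left h2
  · exact (mul_eq_zero.1 (show (2 : F) * (g : M₃) 2 0 = 0 by
      have := h' 2 0; simp at this; linear_combination this)).resolve_left h2

/-- The lower block of a matrix. -/
def low (x : Matrix (Fin 3) (Fin 3) F) : Matrix (Fin 2) (Fin 2) F := x.submatrix Fin.succ Fin.succ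

theorem low_mul (h2 : (2 : F) ≠ 0) {a b : GL (Fin 3) F} (ha : a * J₀ = J₀ * a) :
    low ((a * b : GL (Fin 3) F) : M₃) = low (a : M₃) * low (b : M₃) := by
  obtain ⟨-, -, h10, h20⟩ := block_zero h2 ha
  ext i j
  fin_cases i <;> simp [low, Matrix.mul_apply, Fin.sum_univ_three, Fin.sum_univ_two, h10, h20]

/-- The map to the lower block. -/
def lowHom (h2 : (2 : F) ≠ 0) : Subgroup.centralizer ({J₀} : Set (GL (Fin 3) F)) →* GL (Fin 2) F :=
  MonoidHom.toHomUnits
    { toFun := fun g => low ((g : GL (Fin 3) F) : M₃)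
      map_one' := by simp [low, Matrix.submatrix_one _ (Fin.succ_injective _)]
      map_mul' := fun a b => low_mul h2 (Subgroup.mem_centralizer_singleton_iff.1 a.2) }

theorem coe_lowHom (h2 : (2 : F) ≠ 0) (g : Subgroup.centralizer ({J₀} : Set (GL (Fin 3) F))) :
    (lowHom h2 g : Matrix (Fin 2) (Fin 2) F) = low ((g : GL (Fin 3) F) : M₃) := rfl

/-- Moving the involution to standard position. -/
def toStd (P : GL (Fin 3) F) :
    Subgroup.centralizer ({P * J₀ * P⁻¹} : Set (GL (Fin 3) F)) →*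
      Subgroup.centralizer ({J₀} : Set (GL (Fin 3) F)) :=
  MonoidHom.mk' (fun g => ⟨P⁻¹ * (g : GL (Fin 3) F) * P, Subgroup.mem_centralizer_singleton_iff.2 (by
    have h := Subgroup.mem_centralizer_singleton_iff.1 g.2
    calc P⁻¹ * (g : GL (Fin 3) F) * P * J₀ = P⁻¹ * ((g : GL (Fin 3) F) * (P * J₀ * P⁻¹)) * P := by group
      _ = P⁻¹ * (P * J₀ * P⁻¹ * (g : GL (Fin 3) F)) * P := by rw [h]
      _ = _ := by group)⟩) fun a b => Subtype.ext (by simp [mul_assoc])

theorem coe_toStd (P : GL (Fin 3) F) (g : Subgroup.centralizer ({P * J₀ * P⁻¹} : Set (GL (Fin 3) F))) :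
    ((toStd P g : GL (Fin 3) F)) = P⁻¹ * (g : GL (Fin 3) F) * P := rfl

/-- The projective image of the centraliser. -/
def blockHom (h2 : (2 : F) ≠ 0) (P : GL (Fin 3) F) :
    Subgroup.centralizer ({P * J₀ * P⁻¹} : Set (GL (Fin 3) F)) →* Matrix.ProjGenLinGroup (Fin 2) F :=
  Matrix.ProjGenLinGroup.mk.comp ((lowHom h2).comp (toStd P))

theorem pgl_mk_eq_one {B : GL (Fin 2) F} :
    Matrix.ProjGenLinGroup.mk B = 1 ↔ ∃ l : F, (B : Matrix (Fin 2) (Fin 2) F) = l • 1 := by
  rw [Matrix.ProjGenLinGroup.mk_eq_one, Matrix.GeneralLinearGroup.center_eq_range_scalar]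
  constructor
  · rintro ⟨u, rfl⟩
    exact ⟨u, by simp [Matrix.GeneralLinearGroup.scalar, ← Matrix.smul_one_eq_diagonal]⟩
  · rintro ⟨l, hl⟩
    have hl0 : l ≠ 0 := fun e => by
      have := B.det_ne_zero
      rw [hl, e] at this
      simp at this
    exact ⟨Units.mk0 l hl0, Units.ext (by
      rw [hl]; simp [Matrix.GeneralLinearGroup.scalar, ← Matrix.smul_one_eq_diagonal])⟩

theorem blockHom_eq_one (h2 : (2 : F) ≠ 0) {P : GL (Fin 3) F} {g : Subgroup.centralizer ({P * J₀ * P⁻¹} : Set (GL (Fin 3) F))} :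
    blockHom h2 P g = 1 ↔ ∃ χ l : F,
      ((P⁻¹ * (g : GL (Fin 3) F) * P : GL (Fin 3) F) : M₃) = Matrix.diagonal ![χ, l, l] := by
  obtain ⟨h01, h02, h10, h20⟩ := block_zero h2 (Subgroup.mem_centralizer_singleton_iff.1 (toStd P g).2)
  rw [coe_toStd] at h01 h02 h10 h20
  rw [blockHom, MonoidHom.comp_apply, pgl_mk_eq_one]
  simp only [MonoidHom.comp_apply, coe_lowHom, coe_toStd]
  constructor
  · rintro ⟨l, hl⟩
    refine ⟨((P⁻¹ * (g : GL (Fin 3) F) * P : GL (Fin 3) F) : M₃) 0 0, l, ?_⟩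
    have e := fun i j => congrFun (congrFun hl i) j
    have e00 := e 0 0
    have e01 := e 0 1
    have e10 := e 1 0
    have e11 := e 1 1
    simp [low, -Units.val_mul] at e00 e01 e10 e11
    ext i j
    fin_cases i <;> fin_cases j <;> simp [-Units.val_mul, h01, h02, h10, h20, e00, e01, e10, e11]
  · rintro ⟨χ, l, hl⟩
    refine ⟨l, ?_⟩
    rw [hl]
    ext i j
    fin_cases i <;> fin_cases j <;> simp [low, Matrix.one_apply]

/-- No transvection in the group. -/
def NoTv (X : Subgroup (GL (Fin 3) F)) : Prop :=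
  ∀ v φ : Fin 3 → F, v ≠ 0 → φ ≠ 0 → φ ⬝ᵥ v = 0 → ¬ InT X v φ

variable {X : Subgroup (GL (Fin 3) F)} [Fintype F]

/-- Without transvections the image has no element of order `p`. -/
theorem blockHom_pow (h2 : (2 : F) ≠ 0) (hX : NoTv X) {p : ℕ} (hp : p.Prime) (hF : Fintype.card F = p) {P : GL (Fin 3) F}
    {g : Subgroup.centralizer ({P * J₀ * P⁻¹} : Set (GL (Fin 3) F))} (hg : (g : GL (Fin 3) F) ∈ X)
    (hgp : blockHom h2 P g ^ p = 1) : blockHom h2 P g = 1 := by
  by_contra hne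
  haveI : Fact p.Prime := ⟨hp⟩
  haveI : CharP F p := charP_of_card_eq_prime hF
  obtain ⟨B, hB⟩ : ∃ B, B = lowHom h2 (toStd P g) := ⟨_, rfl⟩
  rw [blockHom, MonoidHom.comp_apply, MonoidHom.comp_apply, ← hB] at hgp hne
  rw [← map_pow, pgl_mk_eq_one] at hgp
  obtain ⟨l, hl⟩ := hgp
  rw [Units.val_pow_eq_pow_val] at hl
  obtain ⟨N, hN⟩ : ∃ N : Matrix (Fin 2) (Fin 2) F, N = (B : Matrix (Fin 2) (Fin 2) F) - l • 1 := ⟨_, rfl⟩
  have hNp : N ^ p = 0 := by
    rw [hN, sub_pow_char_of_commute p ((Commute.one_right _).smul_right _), hl, smul_pow, one_pow]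
    rw [← hF, FiniteField.pow_card, sub_self]
  have hdet : N.det = 0 := by
    have := congrArg Matrix.det hNp
    rw [Matrix.det_pow, Matrix.det_zero] at this
    exact pow_eq_zero_iff hp.ne_zero |>.1 this
  have hNN : N * N = (N 0 0 + N 1 1) • N := by
    rw [Matrix.det_fin_two] at hdet
    ext i j
    fin_cases i <;> fin_cases j <;> simp [Matrix.mul_apply, Fin.sum_univ_two] <;>
      first | linear_combination hdet | linear_combination -hdet | ring
  have hpow : ∀ k : ℕ, N ^ (k + 1) = (N 0 0 + N 1 1) ^ k • N := fun k => by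
    induction k with
    | zero => simp
    | succ k ih => rw [pow_succ, ih, Matrix.smul_mul, hNN, smul_smul, pow_succ]
  have hN0 : N ≠ 0 := fun e => hne (pgl_mk_eq_one.2 ⟨l, by rw [← sub_eq_zero, ← hN, e]⟩)
  have htr : N 0 0 + N 1 1 = 0 := by
    have := hpow (p - 1)
    rw [Nat.sub_add_cancel hp.pos, hNp] at this
    exact pow_eq_zero_iff (by have := hp.two_le; omega) |>.1 ((smul_eq_zero.1 this.symm).resolve_right hN0)
  rw [htr, zero_smul] at hNN
  obtain ⟨h01, h02, h10, h20⟩ := block_zero h2 (Subgroup.mem_centralizer_singleton_iff.1 (toStd P g).2)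
  rw [coe_toStd] at h01 h02 h10 h20
  obtain ⟨K, hK⟩ : ∃ K : GL (Fin 3) F, K = P⁻¹ * (g : GL (Fin 3) F) * P := ⟨_, rfl⟩
  rw [← hK] at h01 h02 h10 h20
  have hBK : (B : Matrix (Fin 2) (Fin 2) F) = low (K : M₃) := by rw [hB, coe_lowHom, coe_toStd, hK]
  obtain ⟨χ, hχ⟩ : ∃ χ, χ = (K : M₃) 0 0 := ⟨_, rfl⟩
  obtain ⟨N₃, hN₃⟩ : ∃ N₃ : M₃, N₃ = !![0, 0, 0; 0, N 0 0, N 0 1; 0, N 1 0, N 1 1] := ⟨_, rfl⟩
  have hK' : (K : M₃) = Matrix.diagonal ![χ, l, l] + N₃ := by
    rw [hN₃, hN, hBK]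
    ext i j
    fin_cases i <;> fin_cases j <;> simp [low, h01, h02, h10, h20, hχ, Matrix.one_apply]
  have hl0 : l ≠ 0 := fun e => by
    have h1 := (B ^ p).det_ne_zero
    rw [Units.val_pow_eq_pow_val, hl, e] at h1
    simp at h1
  have hχ0 : χ ≠ 0 := fun e => K.det_ne_zero (by
    rw [Matrix.det_fin_three, h01, h02, ← hχ, e]; ring)
  have e00 := congrFun (congrFun hNN 0) 0
  have e01 := congrFun (congrFun hNN 0) 1
  have e10 := congrFun (congrFun hNN 1) 0
  have e11 := congrFun (congrFun hNN 1) 1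
  simp [Matrix.mul_apply, Fin.sum_univ_two] at e00 e01 e10 e11
  have hsq : N₃ * N₃ = 0 := by
    rw [hN₃]
    ext i j
    fin_cases i <;> fin_cases j <;> simp [Matrix.mul_apply, Fin.sum_univ_three, e00, e01, e10, e11]
  have hpowK : ∀ k : ℕ, (K : M₃) ^ (k + 1) =
      Matrix.diagonal ![χ ^ (k + 1), l ^ (k + 1), l ^ (k + 1)] + ((k + 1 : ℕ) * l ^ k : F) • N₃ := fun k => by
    induction k with
    | zero => simpa using hK'
    | succ k ih =>
      rw [pow_succ, ih, hK', add_mul, mul_add, mul_add, Matrix.smul_mul, Matrix.smul_mul, hsq, smul_zero, add_zero,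
        Matrix.diagonal_mul_diagonal, add_assoc]
      congr 1
      · congr 1
        funext i
        fin_cases i <;> simp [pow_succ]
      · rw [hN₃]
        ext i j
        fin_cases i <;> fin_cases j <;> simp [Matrix.mul_apply, Matrix.vecMul_diagonal, Fin.sum_univ_three, pow_succ] <;> ring
  have hp2 : p - 1 = p - 2 + 1 := by have := hp.two_le; omega
  have hKp : (K : M₃) ^ (p - 1) = 1 + (-(l ^ (p - 2))) • N₃ := by
    rw [hp2, hpowK, ← hp2]
    congr 1
    · rw [show p - 1 = Fintype.card F - 1 by rw [hF]]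
      simp only [FiniteField.pow_card_sub_one_eq_one _ hχ0, FiniteField.pow_card_sub_one_eq_one _ hl0]
      ext i j
      fin_cases i <;> fin_cases j <;> simp
    · congr 1
      rw [Nat.cast_sub hp.one_le, Nat.cast_one, CharP.cast_eq_zero, zero_sub, neg_one_mul]
  obtain ⟨N', hN'⟩ : ∃ N' : M₃, N' = (P : M₃) * ((-(l ^ (p - 2))) • N₃) * ((P⁻¹ : GL (Fin 3) F) : M₃) := ⟨_, rfl⟩
  have hg' : ((g : GL (Fin 3) F) ^ (p - 1) : GL (Fin 3) F) = P * K ^ (p - 1) * P⁻¹ := by
    have hgK : (g : GL (Fin 3) F) = P * K * P⁻¹ := by rw [hK]; group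
    exact (congrArg (· ^ (p - 1)) hgK).trans conj_pow
  have hgval : (((g : GL (Fin 3) F) ^ (p - 1) : GL (Fin 3) F) : M₃) = 1 + N' := by
    rw [hg', Units.val_mul, Units.val_mul, Units.val_pow_eq_pow_val, hKp, hN', mul_add, add_mul, mul_one,
      Units.mul_inv]
  have hN'sq : N' * N' = 0 := by
    rw [hN']
    calc (P : M₃) * ((-(l ^ (p - 2))) • N₃) * ((P⁻¹ : GL (Fin 3) F) : M₃) *
          ((P : M₃) * ((-(l ^ (p - 2))) • N₃) * ((P⁻¹ : GL (Fin 3) F) : M₃))
        = (P : M₃) * (((-(l ^ (p - 2))) • N₃) * ((-(l ^ (p - 2))) • N₃)) * ((P⁻¹ : GL (Fin 3) F) : M₃) := by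
          simp [mul_assoc]
      _ = 0 := by simp [Matrix.smul_mul, Matrix.mul_smul, hsq]
  obtain ⟨v, φ, hvφ, hform⟩ := exists_rankOne_of_sq hN'sq
  have hne0 : N' ≠ 0 := fun e => hN0 (by
    have h3 : (-(l ^ (p - 2))) • N₃ = 0 := by
      have := congrArg (fun z => ((P⁻¹ : GL (Fin 3) F) : M₃) * z * (P : M₃)) (hN'.symm.trans e)
      simpa [mul_assoc] using this
    have h4 := (smul_eq_zero.1 h3).resolve_left (neg_ne_zero.2 (pow_ne_zero _ hl0))
    rw [hN₃] at h4
    ext i j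
    fin_cases i <;> fin_cases j
    · simpa using congrFun (congrFun h4 1) 1
    · simpa using congrFun (congrFun h4 1) 2
    · simpa using congrFun (congrFun h4 2) 1
    · simpa using congrFun (congrFun h4 2) 2)
  refine hX v φ (fun e => hne0 (Matrix.ext_iff_mulVec.2 fun z => by rw [hform, e, smul_zero, Matrix.zero_mulVec]))
    (fun e => hne0 (Matrix.ext_iff_mulVec.2 fun z => by rw [hform, e, zero_dotProduct, zero_smul, Matrix.zero_mulVec]))
    hvφ ⟨(g : GL (Fin 3) F) ^ (p - 1), pow_mem hg _, fun x => ?_⟩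
  rw [hgval, Matrix.add_mulVec, Matrix.one_mulVec, hform]

/-- The image of the centraliser in a finite group of order prime to the characteristic. -/
theorem exists_psl (h2 : (2 : F) ≠ 0) (hX : NoTv X) {p : ℕ} (hp : p.Prime) (hF : Fintype.card F = p) (P : GL (Fin 3) F) :
    ∃ (E : Type) (_ : Field E) (_ : Fintype E) (_ : CharP E p)
      (f : Subgroup.centralizer ({P * J₀ * P⁻¹} : Set (GL (Fin 3) F)) →*
        Matrix.ProjectiveSpecialLinearGroup (Fin 2) E),
      (∀ g, f g = 1 ↔ blockHom h2 P g = 1) ∧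
        ¬ p ∣ Nat.card (Subgroup.map f (X.subgroupOf (Subgroup.centralizer ({P * J₀ * P⁻¹} : Set (GL (Fin 3) F))))) := by
  haveI : Fact p.Prime := ⟨hp⟩
  haveI : CharP F p := charP_of_card_eq_prime hF
  obtain ⟨E, _, _, _, ψ, hψ⟩ := Dickson.PGLMax.exists_emb (F := F) p
  refine ⟨E, inferInstance, inferInstance, inferInstance, ψ.comp (blockHom h2 P), fun g => ?_, fun hd => ?_⟩
  · rw [MonoidHom.comp_apply, map_eq_one_iff ψ hψ]
  obtain ⟨a, ha⟩ := exists_prime_orderOf_dvd_card' p hd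
  obtain ⟨g, hg, hga⟩ := a.2
  have hga' : ψ (blockHom h2 P g) = (a : Matrix.ProjectiveSpecialLinearGroup (Fin 2) E) := hga
  have hb : blockHom h2 P g ^ p = 1 := hψ (by
    rw [map_pow, map_one, hga', ← SubmonoidClass.coe_pow, ← ha, pow_orderOf_eq_one, OneMemClass.coe_one])
  rw [blockHom_pow h2 hX hp hF hg hb, map_one] at hga'
  have : a = 1 := Subtype.ext hga'.symm
  rw [this, orderOf_one] at ha
  exact hp.one_lt.ne ha

end Cfsg.Agent.Classical.SLThree.Hessian
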