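import Mathlib

/-!
Counting involutions in a finite group with one class of involutions, a centraliser with a cyclic subgroup of
index two and an elementary abelian self-centralising Sylow subgroup of order nine.
-/

set_option autoImplicit false
set_option linter.unusedSectionVars false

namespace Cfsg.Agent.Classical.SLThree.Hessian

variable {G : Type*} [Group G]

theorem invol_iff {x : G} : orderOf x = 2 ↔ x * x = 1 ∧ x ≠ 1 := by
  rw [orderOf_eq_prime_iff, pow_two]

theorem card_class [Finite G] (a : G) :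
    Nat.card {x // IsConj a x} * Nat.card (Subgroup.centralizer {a}) = Nat.card G := by
  rw [← (Subgroup.centralizer {a}).card_mul_index, mul_comm, Subgroup.index]
  congr 1
  have hk : ∀ x y : G, x * a * x⁻¹ = y * a * y⁻¹ ↔ x⁻¹ * y ∈ Subgroup.centralizer {a} := fun x y => by
    rw [Subgroup.mem_centralizer_singleton_iff]
    constructor <;> intro h
    · calc x⁻¹ * y * a = x⁻¹ * (y * a * y⁻¹) * y := by group
        _ = x⁻¹ * (x * a * x⁻¹) * y := by rw [h]
        _ = _ := by group
    · calc x * a * x⁻¹ = x * (a * (x⁻¹ * y)) * y⁻¹ := by group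
        _ = x * (x⁻¹ * y * a) * y⁻¹ := by rw [← h]
        _ = _ := by group
  refine (Nat.card_congr (Equiv.ofBijective (fun c : G ⧸ Subgroup.centralizer {a} =>
    Quotient.liftOn' c (fun x => (⟨x * a * x⁻¹, isConj_iff.2 ⟨x, rfl⟩⟩ : {x // IsConj a x}))
      fun x y h => Subtype.ext ((hk x y).2 (QuotientGroup.leftRel_apply.1 h))) ⟨?_, ?_⟩)).symm
  · intro c d
    induction c using Quotient.inductionOn' with | h x => ?_
    induction d using Quotient.inductionOn' with | h y => ?_
    intro h
    exact Quotient.sound' (QuotientGroup.leftRel_apply.2 ((hk x y).1 (congrArg Subtype.val h)))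
  · rintro ⟨y, hy⟩
    obtain ⟨x, rfl⟩ := isConj_iff.1 hy
    exact ⟨QuotientGroup.mk x, rfl⟩

/-- The hypotheses of the count. -/
structure Config (G : Type*) [Group G] (h : G) (n p : ℕ) (R : Subgroup G) : Prop where
  inv : orderOf h = 2
  conj : ∀ x : G, orderOf x = 2 → IsConj h x
  cardC : Nat.card (Subgroup.centralizer {h}) = 4 * n
  four : 4 ∣ n
  three : ¬ 3 ∣ n
  cardS : Nat.card {v : G // orderOf v = 2 ∧ v ≠ h ∧ Commute v h} = n
  two : ∀ v x : G, orderOf v = 2 → v ≠ h → Commute v h → Commute x h → Commute x v →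
    x = 1 ∨ x = h ∨ x = v ∨ x = h * v
  own : ∀ x v : G, Commute x h → x * x ≠ 1 → orderOf v = 2 → Commute x v → v = h
  cardR : Nat.card R = 9
  expR : ∀ r ∈ R, r ^ 3 = 1
  invR : ∀ r ∈ R, h * r * h = r⁻¹
  centR : ∀ r ∈ R, r ≠ 1 → ∀ x, Commute x r → x ∈ R
  conjR : ∀ x : G, orderOf x = 3 → ∀ r ∈ R, r ≠ 1 → IsConj r x
  prime : p.Prime
  dvd : 3 ∣ p - 1
  coprime : ¬ p ∣ 4 * n
  pcent : ∀ x b : G, b ^ p = 1 → b ≠ 1 → Commute x b → x ^ p = 1
  regular : ∀ x : G, (∀ v : G, orderOf v = 2 → ¬ Commute x v) → x ^ 3 ≠ 1 → x ^ p ≠ 1 → h * x * h = x⁻¹ →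
    (∀ a b : G, Commute a x → Commute b x → Commute a b) ∧
      ∃ φ : Subgroup.normalizer (Subgroup.centralizer {x} : Set G) →* Equiv.Perm (Fin 3),
        ∀ k, φ k = 1 ↔ Commute (k : G) x

theorem commute_conj {a b : G} (g : G) (h : Commute a b) : Commute (g * a * g⁻¹) (g * b * g⁻¹) :=
  h.map (MulAut.conj g).toMonoidHom

variable {h : G} {n p : ℕ} {R : Subgroup G}

namespace Config

theorem hh (c : Config G h n p R) : h * h = 1 := (invol_iff.1 c.inv).1

theorem hinv (c : Config G h n p R) : h⁻¹ = h := inv_eq_of_mul_eq_one_right c.hh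

theorem hx (c : Config G h n p R) (x : G) : h * (h * x) = x := by rw [← mul_assoc, c.hh, one_mul]

/-- An element commuting with an involution and not involutory commutes with no other involution. -/
theorem own_any (c : Config G h n p R) {x v w : G} (hv : orderOf v = 2) (hw : orderOf w = 2)
    (hxv : Commute x v) (hxw : Commute x w) (hx : x * x ≠ 1) : w = v := by
  obtain ⟨g, hg⟩ := isConj_iff.1 (c.conj v hv)
  subst hg
  have e := c.own (g⁻¹ * x * g) (g⁻¹ * w * g) (by simpa [mul_assoc] using commute_conj g⁻¹ hxv)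
    (fun e => hx (by
      calc x * x = g * (g⁻¹ * x * g * (g⁻¹ * x * g)) * g⁻¹ := by group
        _ = 1 := by rw [e]; group))
    (by simpa using (MulEquiv.orderOf_eq (MulAut.conj g⁻¹) w).trans hw)
    (by simpa using commute_conj g⁻¹ hxw)
  rw [← e]; group

theorem card_invol (c : Config G h n p R) [Finite G] :
    Nat.card {x : G // orderOf x = 2} * (4 * n) = Nat.card G := by
  rw [← c.cardC, ← card_class h]
  congr 1
  exact Nat.card_congr (Equiv.subtypeEquivRight fun x => ⟨c.conj x, fun hx => by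
    obtain ⟨g, rfl⟩ := isConj_iff.1 hx
    rw [← MulAut.conj_apply, MulEquiv.orderOf_eq, c.inv]⟩)

/-- A three-element commutes with no involution. -/
theorem three_free (c : Config G h n p R) [Finite G] {x v : G} (hx : x ^ 3 = 1) (hx1 : x ≠ 1)
    (hv : orderOf v = 2) : ¬ Commute x v := by
  intro hxv
  obtain ⟨r, hr, hr1⟩ : ∃ r ∈ R, r ≠ 1 := by
    by_contra hc
    push Not at hc
    have := c.cardR
    rw [(Subgroup.eq_bot_iff_forall R).2 hc, Subgroup.card_bot] at this
    omega
  haveI : Fact (Nat.Prime 3) := ⟨Nat.prime_three⟩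
  obtain ⟨g, rfl⟩ := isConj_iff.1 (c.conjR x (orderOf_eq_prime hx hx1) r hr hr1)
  have h1 := c.expR _ (c.centR r hr hr1 (g⁻¹ * v * g) (by simpa [mul_assoc] using (commute_conj g⁻¹ hxv).symm))
  have h2 : orderOf (g⁻¹ * v * g) = 2 := by simpa using (MulEquiv.orderOf_eq (MulAut.conj g⁻¹) v).trans hv
  have := orderOf_dvd_of_pow_eq_one h1
  rw [h2] at this
  norm_num at this

/-- An element of order `p` commutes with no involution. -/
theorem p_free (c : Config G h n p R) [Finite G] {x v : G} (hx : x ^ p = 1) (hx1 : x ≠ 1)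
    (hv : orderOf v = 2) : ¬ Commute x v := by
  intro hxv
  obtain ⟨g, rfl⟩ := isConj_iff.1 (c.conj v hv)
  have hm : g⁻¹ * x * g ∈ Subgroup.centralizer {h} :=
    Subgroup.mem_centralizer_singleton_iff.2 (by simpa [mul_assoc] using (commute_conj g⁻¹ hxv).eq)
  haveI : Fact p.Prime := ⟨c.prime⟩
  have h2 : orderOf (g⁻¹ * x * g) = p := by
    simpa using (MulEquiv.orderOf_eq (MulAut.conj g⁻¹) x).trans (orderOf_eq_prime hx hx1)
  have := Subgroup.orderOf_dvd_natCard _ hm
  rw [h2, c.cardC] at this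
  exact c.coprime this

/-- The number of involutions commuting with a given one. -/
theorem card_commuting (c : Config G h n p R) [Finite G] {v : G} (hv : orderOf v = 2) :
    Nat.card {u // orderOf u = 2 ∧ Commute u v} = n + 1 := by
  classical
  obtain ⟨g, rfl⟩ := isConj_iff.1 (c.conj v hv)
  have e : {u // orderOf u = 2 ∧ Commute u h} ≃ {u // orderOf u = 2 ∧ Commute u (g * h * g⁻¹)} :=
    (MulAut.conj g).toEquiv.subtypeEquiv fun u => by
      have h1 : orderOf ((MulAut.conj g) u) = orderOf u := MulEquiv.orderOf_eq _ u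
      show _ ↔ orderOf ((MulAut.conj g) u) = 2 ∧ Commute ((MulAut.conj g) u) ((MulAut.conj g) h)
      rw [h1, commute_iff_eq, commute_iff_eq, ← map_mul, ← map_mul, (MulAut.conj g).injective.eq_iff]
  rw [← Nat.card_congr e, ← c.cardS]
  have hsplit : {u // orderOf u = 2 ∧ Commute u h} ≃ Option {v // orderOf v = 2 ∧ v ≠ h ∧ Commute v h} :=
    { toFun := fun u => if hu : (u : G) = h then none else some ⟨u, u.2.1, hu, u.2.2⟩
      invFun := fun o => o.elim ⟨h, c.inv, Commute.refl h⟩ fun v => ⟨v, v.2.1, v.2.2.2⟩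
      left_inv := fun u => by
        by_cases hu : (u : G) = h
        · simp [hu]; exact Subtype.ext hu.symm
        · simp [hu]
      right_inv := fun o => by
        rcases o with _ | ⟨v, hv⟩
        · simp
        · simp [hv.2.1] }
  rw [Nat.card_congr hsplit, Finite.card_option]

/-- The centraliser of an element without commuting involution. -/
theorem regular_data (c : Config G h n p R) [Finite G] {x : G} (hfree : ∀ v : G, orderOf v = 2 → ¬ Commute x v)
    (h3 : x ^ 3 ≠ 1) (hp : x ^ p ≠ 1) (hix : h * x * h = x⁻¹) :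
    (∀ b, Commute b x → b ≠ 1 → ∀ y, Commute y b → Commute y x) ∧
      (∀ b, Commute b x → b ≠ 1 → ∀ v, orderOf v = 2 → ¬ Commute b v) ∧
      Nat.card (Subgroup.normalizer (Subgroup.centralizer {x} : Set G)) ≤
        2 * Nat.card (Subgroup.centralizer {x}) := by
  classical
  have hreg := c.regular x hfree h3 hp hix
  set A := Subgroup.centralizer {x} with hA
  set N := Subgroup.normalizer (A : Set G) with hN
  obtain ⟨habel, φ, hφ⟩ := hreg
  have hmem : ∀ {b}, b ∈ A ↔ Commute b x := fun {b} => Subgroup.mem_centralizer_singleton_iff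
  have hconjA : ∀ {b}, Commute b x → Commute (h * b * h) x := fun {b} hb => by
    have := commute_conj h hb
    rw [c.hinv, hix] at this
    simpa using this.inv_right
  have hodd : ∀ b, Commute b x → b ≠ 1 → b * b ≠ 1 := fun b hb hb1 e =>
    hfree b (invol_iff.2 ⟨e, hb1⟩) hb.symm
  -- no fixed points
  have hfix : ∀ b, Commute b x → Commute b h → b = 1 := by
    intro b hb hbh
    by_contra hb1
    have hxx : Commute x x⁻¹ := (Commute.refl x).inv_right
    -- the conjugate of the involution commutes with `b`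
    have hbv : Commute b (x * h * x⁻¹) := by
      have := commute_conj x hbh
      rwa [← hb.eq, mul_inv_cancel_right] at this
    have he := c.own b (x * h * x⁻¹) hbh (hodd b hb hb1)
      (by rw [← MulAut.conj_apply, MulEquiv.orderOf_eq, c.inv]) hbv
    exact hfree h c.inv (mul_inv_eq_iff_eq_mul.1 he)
  -- hence inversion
  have hinv : ∀ b ∈ A, h * b * h = b⁻¹ := by
    intro b hb
    let f : A → A := fun a => ⟨(a : G)⁻¹ * (h * a * h), mul_mem (inv_mem a.2) (hmem.2 (hconjA (hmem.1 a.2)))⟩
    have hf : Function.Injective f := fun a a' e => by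
      have e' : (a : G)⁻¹ * (h * a * h) = (a' : G)⁻¹ * (h * a' * h) := congrArg Subtype.val e
      have hca := habel _ _ (hmem.1 a.2) (hmem.1 a'.2)
      have h1 : h * ((a' : G) * (a : G)⁻¹) * h = (a' : G) * (a : G)⁻¹ := by
        calc h * ((a' : G) * (a : G)⁻¹) * h
            = (h * a' * h) * ((h * a * h)⁻¹) := by rw [mul_inv_rev, mul_inv_rev, c.hinv]; simp [mul_assoc, c.hx]
          _ = (a' : G) * ((a' : G)⁻¹ * (h * a' * h)) * ((a : G)⁻¹ * (h * a * h))⁻¹ * (a : G)⁻¹ := by group
          _ = _ := by rw [e']; group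
      have h2 : Commute ((a' : G) * (a : G)⁻¹) h := by
        show _ * h = h * _
        calc (a' : G) * (a : G)⁻¹ * h = h * ((a' : G) * (a : G)⁻¹) * h * h := by rw [h1]
          _ = _ := by rw [mul_assoc, c.hh, mul_one]
      have := hfix _ ((hmem.1 a'.2).mul_left (hmem.1 a.2).inv_left) h2
      exact Subtype.ext (mul_inv_eq_one.1 this).symm
    obtain ⟨a, ha⟩ := Finite.injective_iff_surjective.1 hf ⟨b, hb⟩
    have hb' : b = (a : G)⁻¹ * (h * a * h) := (congrArg Subtype.val ha).symm
    rw [hb', mul_inv_rev, inv_inv]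
    have hc := habel _ _ (hmem.1 (inv_mem a.2)) (hconjA (hmem.1 a.2))
    calc h * ((a : G)⁻¹ * (h * a * h)) * h = (h * (a : G)⁻¹ * h) * a := by simp [mul_assoc, c.hx, c.hh]
      _ = _ := by rw [mul_inv_rev, mul_inv_rev, c.hinv]; simp [mul_assoc]
  -- no commuting involutions
  have hfreeb : ∀ b, Commute b x → b ≠ 1 → ∀ v, orderOf v = 2 → ¬ Commute b v := by
    intro b hb hb1 v hv hbv
    have hxv : Commute b (x * v * x⁻¹) := by
      have := commute_conj x hbv
      rwa [← hb.eq, mul_inv_cancel_right] at this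
    have he := c.own_any hv (by rw [← MulAut.conj_apply, MulEquiv.orderOf_eq, hv]) hbv hxv (hodd b hb hb1)
    exact hfree v hv (mul_inv_eq_iff_eq_mul.1 he)
  have hcent : ∀ b, Commute b x → b ≠ 1 → ∀ y, Commute y b → Commute y x := by
    intro b hb hb1 y hy
    have hb3 : b ^ 3 ≠ 1 := fun e => by
      haveI : Fact (Nat.Prime 3) := ⟨Nat.prime_three⟩
      obtain ⟨r, hr, hr1⟩ : ∃ r ∈ R, r ≠ 1 := by
        by_contra hc
        push Not at hc
        have := c.cardR
        rw [(Subgroup.eq_bot_iff_forall R).2 hc, Subgroup.card_bot] at this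
        omega
      obtain ⟨g, rfl⟩ := isConj_iff.1 (c.conjR b (orderOf_eq_prime e hb1) r hr hr1)
      have h1 := c.expR _ (c.centR r hr hr1 (g⁻¹ * x * g) (by
        simpa [mul_assoc] using (commute_conj g⁻¹ hb).symm))
      refine h3 ?_
      calc x ^ 3 = g * (g⁻¹ * x * g) ^ 3 * g⁻¹ := by simp [pow_succ, mul_assoc]
        _ = 1 := by rw [h1]; group
    have hbp : b ^ p ≠ 1 := fun e => hp (c.pcent x b e hb1 hb.symm)
    exact ((c.regular b (hfreeb b hb hb1) hb3 hbp (hinv b (hmem.2 hb))).1 x y hb.symm hy).symm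
  refine ⟨hcent, hfreeb, ?_⟩
  -- the index in the normaliser
  have hker : Nat.card φ.ker ≤ Nat.card A :=
    Nat.card_le_card_of_injective (fun k : φ.ker => (⟨((k : N) : G), hmem.2 ((hφ _).1 k.2)⟩ : A))
      fun a b e => Subtype.ext (Subtype.ext (congrArg (fun z : A => (z : G)) e :))
  have hNk : Nat.card N = Nat.card φ.range * Nat.card φ.ker := by
    rw [← φ.ker.index_mul_card, Subgroup.index_ker]
  -- the image has no element of order three
  have h3r : ¬ 3 ∣ Nat.card φ.range := by
    intro hd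
    haveI : Fact (Nat.Prime 3) := ⟨Nat.prime_three⟩
    haveI : Finite φ.range := inferInstance
    obtain ⟨⟨y, k, rfl⟩, hy⟩ := exists_prime_orderOf_dvd_card' 3 hd
    have hφk : φ k ^ 3 = 1 ∧ φ k ≠ 1 := by
      have h1 : orderOf (φ k) = 3 := (Subgroup.orderOf_coe _).trans hy
      exact ⟨(congrArg (φ k ^ ·) h1).symm.trans (pow_orderOf_eq_one _), fun e => by rw [e, orderOf_one] at h1; omega⟩
    have hkN : (k : G) ∈ N := k.2
    -- `k` lies in `A` times the centraliser of the involution
    obtain ⟨k', hk'⟩ : ∃ k', k' = (k : G) := ⟨_, rfl⟩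
    have hxA : x ∈ A := hmem.2 (Commute.refl x)
    have hd' : h * (k' * h * k'⁻¹) ∈ A := by
      have h1 : ∀ b ∈ A, Commute (h * (k' * h * k'⁻¹)) b := fun b hb => by
        obtain ⟨b', hb', rfl⟩ : ∃ b' ∈ A, b = k' * b' * k'⁻¹ := ⟨k'⁻¹ * b * k',
          (Subgroup.mem_normalizer_iff'.1 (hk' ▸ hkN) _).2 (by simpa [mul_assoc] using hb), by group⟩
        show _ = _
        have e1 := hinv _ hb
        have e2 := hinv _ hb'
        calc h * (k' * h * k'⁻¹) * (k' * b' * k'⁻¹) = h * (k' * (h * b' * h) * h * k'⁻¹) := by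
              simp [mul_assoc, c.hh]
          _ = h * (k' * b'⁻¹ * h * k'⁻¹) := by rw [e2]
          _ = h * (k' * b' * k'⁻¹)⁻¹ * (k' * h * k'⁻¹) := by group
          _ = h * (h * (k' * b' * k'⁻¹) * h) * (k' * h * k'⁻¹) := by rw [e1]
          _ = _ := by simp [mul_assoc, c.hx]
      exact hmem.2 (h1 x hxA)
    let sq : A → A := fun a => ⟨(a : G) * a, mul_mem a.2 a.2⟩
    have hsq : Function.Injective sq := fun a a' e => by
      have e' : (a : G) * a = (a' : G) * a' := congrArg Subtype.val e
      by_contra hne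
      have hca := habel _ _ (hmem.1 a.2) (hmem.1 a'.2)
      refine hodd ((a : G) * (a' : G)⁻¹) ((hmem.1 a.2).mul_left (hmem.1 a'.2).inv_left)
        (fun e'' => hne (Subtype.ext (mul_inv_eq_one.1 e''))) ?_
      calc (a : G) * (a' : G)⁻¹ * ((a : G) * (a' : G)⁻¹) = (a : G) * a * ((a' : G)⁻¹ * (a' : G)⁻¹) :=
            hca.inv_right.symm.mul_mul_mul_comm _ _
        _ = 1 := by rw [e']; group
    obtain ⟨a, ha⟩ := Finite.injective_iff_surjective.1 hsq ⟨_, inv_mem hd'⟩
    have ha' : (a : G) * a = (h * (k' * h * k'⁻¹))⁻¹ := congrArg Subtype.val ha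
    obtain ⟨w, hw⟩ : ∃ w, w = (a : G)⁻¹ * k' := ⟨_, rfl⟩
    have hwh : Commute w h := by
      have e1 := hinv a a.2
      show w * h = h * w
      rw [hw]
      calc (a : G)⁻¹ * k' * h = (a : G)⁻¹ * (h * (h * (k' * h * k'⁻¹))) * k' := by rw [c.hx]; group
        _ = (a : G)⁻¹ * (h * ((a : G) * a)⁻¹) * k' := by rw [ha', inv_inv]
        _ = (h * a * h) * (h * ((a : G) * a)⁻¹) * k' := by rw [e1]
        _ = h * ((a : G)⁻¹ * k') := by simp [mul_assoc, c.hx, c.hh]
    have hwN : w ∈ N := hw ▸ mul_mem (inv_mem (Subgroup.le_normalizer a.2)) (hk' ▸ hkN)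
    have hwk : φ ⟨w, hwN⟩ ^ 3 = 1 ∧ φ ⟨w, hwN⟩ ≠ 1 → False := by
      rintro ⟨e3, e1⟩
      have hwC : w ∈ Subgroup.centralizer {h} := Subgroup.mem_centralizer_singleton_iff.2 hwh.eq
      have h1 : (⟨w, hwN⟩ : N) ^ (4 * n) = 1 := Subtype.ext (by
        rw [← c.cardC]
        rw [SubmonoidClass.coe_pow]
        exact congrArg Subtype.val (pow_card_eq_one' (x := (⟨w, hwC⟩ : Subgroup.centralizer {h}))))
      have h2 : φ ⟨w, hwN⟩ ^ (4 * n) = 1 := by rw [← map_pow, h1, map_one]
      have h3' := orderOf_dvd_of_pow_eq_one h2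
      rw [orderOf_eq_prime e3 e1] at h3'
      exact c.three ((Nat.Coprime.dvd_mul_left (by norm_num : Nat.Coprime 3 4)).1 h3')
    refine hwk ?_
    have : (⟨w, hwN⟩ : N) = (⟨(a : G), Subgroup.le_normalizer a.2⟩)⁻¹ * k := Subtype.ext (by
      simp [hw, hk'])
    rw [this, map_mul, map_inv, (hφ _).2 (hmem.1 a.2), inv_one, one_mul]
    exact hφk
  have h6 : Nat.card φ.range ∣ 6 := by
    have := Subgroup.card_subgroup_dvd_card φ.range
    rwa [Nat.card_perm, Nat.card_fin] at this
  have h2 : Nat.card φ.range ≤ 2 := by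
    have := Nat.le_of_dvd (by norm_num) h6
    interval_cases hc : Nat.card φ.range <;> first | omega | (norm_num at h6 h3r)
  rw [hNk]
  exact Nat.mul_le_mul h2 hker

/-- A non-trivial element of `R`. -/
theorem exists_r (c : Config G h n p R) : ∃ r ∈ R, r ≠ 1 := by
  by_contra hc
  push Not at hc
  have := c.cardR
  rw [(Subgroup.eq_bot_iff_forall R).2 hc, Subgroup.card_bot] at this
  omega

/-- Elements commuting with an involution take up most of the group. -/
theorem card_bound (c : Config G h n p R) [Finite G] :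
    Nat.card {v : G // orderOf v = 2} * (3 * n - 2) ≤
      Nat.card {x : G // orderOf x ≠ 2 ∧ x ≠ 1 ∧ ∃ v, orderOf v = 2 ∧ Commute x v} := by
  classical
  set S := {x : G // orderOf x ≠ 2 ∧ x ≠ 1 ∧ ∃ v, orderOf v = 2 ∧ Commute x v}
  have hfib : ∀ v : {v : G // orderOf v = 2},
      3 * n - 2 ≤ Nat.card {x : G // orderOf x ≠ 2 ∧ x ≠ 1 ∧ Commute x (v : G)} := by
    rintro ⟨v, hv⟩
    obtain ⟨g, hg⟩ := isConj_iff.1 (c.conj v hv)
    have hC : Nat.card (Subgroup.centralizer {v}) = 4 * n := by
      have h1 := card_class v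
      have h2 := c.card_invol
      have h3 : Nat.card {x // IsConj v x} = Nat.card {x : G // orderOf x = 2} :=
        Nat.card_congr (Equiv.subtypeEquivRight fun x => ⟨fun hx => by
          obtain ⟨y, rfl⟩ := isConj_iff.1 hx
          rw [← MulAut.conj_apply, MulEquiv.orderOf_eq, hv], fun hx => (c.conj v hv).symm.trans (c.conj x hx)⟩)
      rw [h3, ← h2] at h1
      have : 0 < Nat.card {x : G // orderOf x = 2} := Nat.card_pos_iff.2 ⟨⟨⟨v, hv⟩⟩, inferInstance⟩
      exact Nat.eq_of_mul_eq_mul_left this h1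
    have : Fintype G := Fintype.ofFinite G
    have hsub : ∀ x, x ∈ Subgroup.centralizer {v} ↔ Commute x v := fun x => Subgroup.mem_centralizer_singleton_iff
    have e1 : Nat.card (Subgroup.centralizer {v}) =
        (Finset.univ.filter fun x : G => Commute x v).card := by
      rw [Nat.card_congr (Equiv.subtypeEquivRight hsub), Nat.card_eq_fintype_card, Fintype.card_subtype]
    have e2 : Nat.card {x : G // orderOf x ≠ 2 ∧ x ≠ 1 ∧ Commute x v} =
        (Finset.univ.filter fun x : G => orderOf x ≠ 2 ∧ x ≠ 1 ∧ Commute x v).card := by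
      rw [Nat.card_eq_fintype_card, Fintype.card_subtype]
    have e3 := c.card_commuting hv
    rw [Nat.card_eq_fintype_card, Fintype.card_subtype] at e3
    have h1 : (Finset.univ.filter fun x : G => Commute x v).card ≤
        ((Finset.univ.filter fun x : G => orderOf x ≠ 2 ∧ x ≠ 1 ∧ Commute x v) ∪
          (Finset.univ.filter fun u : G => orderOf u = 2 ∧ Commute u v) ∪ {1}).card := by
      refine Finset.card_le_card fun x hx => ?_
      simp only [Finset.mem_filter, Finset.mem_univ, true_and] at hx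
      simp only [Finset.mem_union, Finset.mem_filter, Finset.mem_univ, true_and, Finset.mem_singleton]
      tauto
    have h2 := (h1.trans (Finset.card_union_le _ _)).trans (Nat.add_le_add_right (Finset.card_union_le _ _) _)
    rw [Finset.card_singleton, e3, ← e1, hC, ← e2] at h2
    show 3 * n - 2 ≤ Nat.card {x : G // orderOf x ≠ 2 ∧ x ≠ 1 ∧ Commute x v}
    omega
  have : Fintype {v : G // orderOf v = 2} := Fintype.ofFinite _
  calc Nat.card {v : G // orderOf v = 2} * (3 * n - 2)
      ≤ ∑ v : {v : G // orderOf v = 2}, Nat.card {x : G // orderOf x ≠ 2 ∧ x ≠ 1 ∧ Commute x (v : G)} := by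
        rw [Nat.card_eq_fintype_card, ← smul_eq_mul, ← Finset.card_univ, ← Finset.sum_const]
        exact Finset.sum_le_sum fun v _ => hfib v
    _ ≤ Nat.card S := by
        rw [← Nat.card_sigma]
        refine Nat.card_le_card_of_injective (fun z => ⟨z.2, z.2.2.1, z.2.2.2.1, z.1, z.1.2, z.2.2.2.2⟩) ?_
        rintro ⟨⟨v, hv⟩, x, hx1, hx2, hxv⟩ ⟨⟨w, hw⟩, y, hy1, hy2, hyw⟩ e
        have exy : x = y := congrArg (fun z : S => (z : G)) e
        subst exy
        have hxx : x * x ≠ 1 := fun e' => hx1 (invol_iff.2 ⟨e', hx2⟩)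
        obtain rfl : w = v := c.own_any hv hw hxv hyw hxx
        rfl

/-- Every inverted element without commuting involution has order three or `p`. -/
theorem no_regular (c : Config G h n p R) [Finite G] {x : G} (hfree : ∀ v : G, orderOf v = 2 → ¬ Commute x v)
    (h3 : x ^ 3 ≠ 1) (hp : x ^ p ≠ 1) (hix : h * x * h = x⁻¹) : False := by
  classical
  obtain ⟨hcent, hfreeb, hcard⟩ := c.regular_data hfree h3 hp hix
  set A := Subgroup.centralizer {x} with hA
  set N := Subgroup.normalizer (A : Set G) with hN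
  have hmem : ∀ {b}, b ∈ A ↔ Commute b x := fun {b} => Subgroup.mem_centralizer_singleton_iff
  have habel := (c.regular x hfree h3 hp hix).1
  have hcentA : ∀ b ∈ A, b ≠ 1 → Subgroup.centralizer {b} = A := fun b hb hb1 => le_antisymm
    (fun y hy => hmem.2 (hcent b (hmem.1 hb) hb1 y (Subgroup.mem_centralizer_singleton_iff.1 hy)))
    (fun y hy => Subgroup.mem_centralizer_singleton_iff.2 (habel y b (hmem.1 hy) (hmem.1 hb)).eq)
  have hx1 : x ≠ 1 := fun e => h3 (by rw [e, one_pow])
  have hA5 : 5 ≤ Nat.card A := by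
    have hd : orderOf x ∣ Nat.card A := Subgroup.orderOf_dvd_natCard _ (hmem.2 (Commute.refl x))
    have hodd : ¬ 2 ∣ orderOf x := fun hd2 => by
      obtain ⟨k, hk⟩ := hd2
      have hk0 : k ≠ 0 := fun e => (orderOf_pos x).ne' (by rw [hk, e, mul_zero])
      refine hfree (x ^ k) ?_ ((Commute.refl x).pow_right k)
      rw [orderOf_pow' x hk0, hk, Nat.gcd_eq_right (Dvd.intro_left 2 rfl),
        Nat.mul_div_cancel _ (Nat.pos_of_ne_zero hk0)]
    have hne1 : orderOf x ≠ 1 := fun e => hx1 (orderOf_eq_one_iff.1 e)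
    have hne3 : orderOf x ≠ 3 := fun e => h3 (e ▸ pow_orderOf_eq_one x)
    have := Nat.le_of_dvd Nat.card_pos hd
    have := orderOf_pos x
    omega
  -- the conjugates of the non-trivial elements of `A`
  set T := {y : G // ∀ v : G, orderOf v = 2 → ¬ Commute y v}
  have : Fintype G := Fintype.ofFinite G
  have hG : Nat.card G * (Nat.card A - 1) ≤ Nat.card N * Nat.card T := by
    have hsrc : Nat.card (G × {b : A // b ≠ 1}) = Nat.card G * (Nat.card A - 1) := by
      rw [Nat.card_prod]
      congr 1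
      rw [Nat.card_eq_fintype_card, Nat.card_eq_fintype_card, Fintype.card_subtype_compl,
        Fintype.card_subtype_eq]
    rw [← hsrc]
    let F : G × {b : A // b ≠ 1} → T := fun z => ⟨z.1 * (z.2 : A) * z.1⁻¹, fun v hv hc => by
      refine hfreeb _ (hmem.1 z.2.1.2) (fun e => z.2.2 (Subtype.ext e)) (z.1⁻¹ * v * z.1)
        (by simpa using (MulEquiv.orderOf_eq (MulAut.conj z.1⁻¹) v).trans hv) ?_
      simpa [mul_assoc] using commute_conj z.1⁻¹ hc⟩
    have hfib : ∀ y : T, Nat.card {z // F z = y} ≤ Nat.card N := by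
      intro y
      by_cases hne : Nonempty {z // F z = y}
      swap
      · have : IsEmpty {z // F z = y} := not_nonempty_iff.1 hne
        simp
      obtain ⟨⟨⟨g₀, b₀, hb₀⟩, h₀⟩⟩ := hne
      have h₀' : g₀ * (b₀ : G) * g₀⁻¹ = (y : G) := congrArg (fun z : T => (z : G)) h₀
      have hin : ∀ z : {z // F z = y}, g₀⁻¹ * z.1.1 ∈ N := by
        rintro ⟨⟨g, b, hb⟩, hz⟩
        have hz' : g * (b : G) * g⁻¹ = (y : G) := congrArg (fun z : T => (z : G)) hz
        have hbb : (b₀ : G) = (g₀⁻¹ * g) * (b : G) * (g₀⁻¹ * g)⁻¹ := by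
          calc (b₀ : G) = g₀⁻¹ * (g₀ * (b₀ : G) * g₀⁻¹) * g₀ := by group
            _ = _ := by rw [h₀', ← hz']; group
        refine Subgroup.mem_normalizer_iff.2 fun a => ?_
        show a ∈ A ↔ g₀⁻¹ * g * a * (g₀⁻¹ * g)⁻¹ ∈ A
        conv_rhs => rw [← hcentA _ b₀.2 (fun e => hb₀ (Subtype.ext e))]
        conv_lhs => rw [← hcentA _ b.2 (fun e => hb (Subtype.ext e))]
        rw [Subgroup.mem_centralizer_singleton_iff, Subgroup.mem_centralizer_singleton_iff, hbb]
        constructor
        · intro e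
          exact (commute_conj (g₀⁻¹ * g) e).eq
        · intro e
          simpa [mul_assoc] using (commute_conj (g₀⁻¹ * g)⁻¹ e).eq
      refine Nat.card_le_card_of_injective (fun z => (⟨_, hin z⟩ : N)) ?_
      rintro ⟨⟨g, b, hb⟩, hz⟩ ⟨⟨g', b', hb'⟩, hz'⟩ e
      have e' : g = g' := mul_left_cancel (congrArg (fun k : N => (k : G)) e :)
      subst e'
      have h1 : g * (b : G) * g⁻¹ = g * (b' : G) * g⁻¹ :=
        congrArg (fun z : T => (z : G)) (hz.trans hz'.symm)
      obtain rfl : b = b' := Subtype.ext (mul_left_cancel (mul_right_cancel h1))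
      rfl
    calc Nat.card (G × {b : A // b ≠ 1}) = ∑ y : T, Nat.card {z // F z = y} := by
          rw [← Nat.card_congr (Equiv.sigmaFiberEquiv F), Nat.card_sigma]
      _ ≤ ∑ _y : T, Nat.card N := Finset.sum_le_sum fun y _ => hfib y
      _ = _ := by rw [Finset.sum_const, Finset.card_univ, smul_eq_mul, mul_comm, Nat.card_eq_fintype_card (α := T)]
  -- disjointness
  have hdisj : Nat.card {v : G // orderOf v = 2} +
      Nat.card {x : G // orderOf x ≠ 2 ∧ x ≠ 1 ∧ ∃ v, orderOf v = 2 ∧ Commute x v} + Nat.card T ≤ Nat.card G := by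
    rw [← Nat.card_sum, ← Nat.card_sum]
    refine Nat.card_le_card_of_injective
      (Sum.elim (Sum.elim (fun z => (z : G)) fun z => (z : G)) fun z => (z : G)) ?_
    rintro ((⟨a, ha⟩ | ⟨a, ha, ha1, v, hv, hav⟩) | ⟨a, ha⟩) ((⟨b, hb⟩ | ⟨b, hb, hb1, w, hw, hbw⟩) | ⟨b, hb⟩) e <;>
      simp only [Sum.elim_inl, Sum.elim_inr] at e <;> subst e
    · rfl
    · exact absurd ha hb
    · exact absurd (Commute.refl _) (hb _ ha)
    · exact absurd hb ha
    · rfl
    · exact absurd hav (hb v hv)
    · exact absurd (Commute.refl _) (ha _ hb)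
    · exact absurd hbw (ha w hw)
    · rfl
  have hb := c.card_bound
  have ht := c.card_invol
  obtain ⟨k, hk⟩ := c.four
  have hn0 : 0 < n := Nat.pos_of_ne_zero fun e => c.three (e ▸ dvd_zero 3)
  have hgpos : 0 < Nat.card G := Nat.card_pos
  have htpos : 0 < Nat.card {v : G // orderOf v = 2} := Nat.card_pos_iff.2 ⟨⟨⟨h, c.inv⟩⟩, inferInstance⟩
  generalize Nat.card {v : G // orderOf v = 2} = t at hb ht hdisj htpos
  generalize Nat.card {x : G // orderOf x ≠ 2 ∧ x ≠ 1 ∧ ∃ v, orderOf v = 2 ∧ Commute x v} = s at hb hdisj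
  generalize Nat.card T = m at hG hdisj
  generalize Nat.card A = a at hG hcard hA5
  generalize Nat.card N = N' at hG hcard
  generalize Nat.card G = g at hG hdisj hgpos ht
  obtain ⟨j, rfl⟩ : ∃ j, n = j + 4 := ⟨n - 4, by omega⟩
  obtain ⟨a', rfl⟩ : ∃ a', a = a' + 5 := ⟨a - 5, by omega⟩
  rw [show 3 * (j + 4) - 2 = 3 * j + 10 by omega] at hb
  rw [show a' + 5 - 1 = a' + 4 by omega] at hG
  have h1 : g * (a' + 4) ≤ 2 * (a' + 5) * m := hG.trans (Nat.mul_le_mul_right m hcard)
  subst ht
  have hm : m ≤ t * (j + 5) := by nlinarith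
  have h2 := Nat.mul_le_mul_left (2 * (a' + 5)) hm
  have h4 : 2 * (a' + 5) * (j + 5) + 1 ≤ 4 * (j + 4) * (a' + 4) := by nlinarith
  have h5 := Nat.mul_le_mul_left t h4
  nlinarith

/-- The configuration is impossible. -/
theorem false_of (c : Config G h n p R) [Finite G] : False := by
  classical
  haveI : Fact p.Prime := ⟨c.prime⟩
  haveI : Fact (Nat.Prime 3) := ⟨Nat.prime_three⟩
  set I := {x : G // h * x * h = x⁻¹}
  -- elements inverted by the involution
  have hI : Nat.card I = Nat.card {v : G // orderOf v = 2} + 1 := by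
    let e : I ≃ {u : G // u * u = 1} :=
      { toFun := fun x => ⟨h * x, by rw [← mul_assoc, x.2, inv_mul_cancel]⟩
        invFun := fun u => ⟨h * u, by
          rw [← mul_assoc, c.hh, one_mul, mul_inv_rev, c.hinv, show (u : G)⁻¹ = u from inv_eq_of_mul_eq_one_right u.2]⟩
        left_inv := fun x => Subtype.ext (by simp [← mul_assoc, c.hh])
        right_inv := fun u => Subtype.ext (by simp [← mul_assoc, c.hh]) }
    rw [Nat.card_congr e, ← Finite.card_option]
    refine Nat.card_congr ⟨fun u => if hu : (u : G) = 1 then none else some ⟨u, invol_iff.2 ⟨u.2, hu⟩⟩,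
      fun o => o.elim ⟨1, mul_one 1⟩ fun v => ⟨v, (invol_iff.1 v.2).1⟩, fun u => ?_, fun o => ?_⟩
    · by_cases hu : (u : G) = 1
      · simp [hu]; exact Subtype.ext hu.symm
      · simp [hu]
    · rcases o with _ | ⟨v, hv⟩
      · simp
      · simp [(invol_iff.1 hv).2]
  -- four kinds
  set I1 := {x : G // h * x * h = x⁻¹ ∧ x ≠ 1 ∧ x ≠ h ∧ ∃ v, orderOf v = 2 ∧ Commute x v}
  set I3 := {x : G // h * x * h = x⁻¹ ∧ orderOf x = 3}
  set Ip := {x : G // h * x * h = x⁻¹ ∧ orderOf x = p}
  have hp3 : p ≠ 3 := fun e => by have := c.dvd; rw [e] at this; omega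
  have hpart : Nat.card I = 2 + Nat.card I1 + Nat.card I3 + Nat.card Ip := by
    have : Fintype G := Fintype.ofFinite G
    simp only [I, I1, I3, Ip, Nat.card_eq_fintype_card, Fintype.card_subtype]
    obtain ⟨s1, hs1⟩ : ∃ s, s = Finset.univ.filter fun x : G =>
      h * x * h = x⁻¹ ∧ x ≠ 1 ∧ x ≠ h ∧ ∃ v, orderOf v = 2 ∧ Commute x v := ⟨_, rfl⟩
    obtain ⟨s3, hs3⟩ : ∃ s, s = Finset.univ.filter fun x : G => h * x * h = x⁻¹ ∧ orderOf x = 3 := ⟨_, rfl⟩
    obtain ⟨sp, hsp⟩ : ∃ s, s = Finset.univ.filter fun x : G => h * x * h = x⁻¹ ∧ orderOf x = p := ⟨_, rfl⟩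
    have h1h : (1 : G) ≠ h := fun e => (invol_iff.1 c.inv).2 e.symm
    have hpow : ∀ {x : G} {q : ℕ}, orderOf x = q → x ^ q = 1 := fun e => e ▸ pow_orderOf_eq_one _
    have hne : ∀ {x : G} {q : ℕ}, q.Prime → orderOf x = q → x ≠ 1 := fun hq e e' => by
      rw [e', orderOf_one] at e; exact hq.one_lt.ne e
    have hset : (Finset.univ.filter fun x : G => h * x * h = x⁻¹) = {1, h} ∪ s1 ∪ s3 ∪ sp := by
      ext x
      simp only [hs1, hs3, hsp, Finset.mem_filter, Finset.mem_univ, true_and, Finset.mem_union, Finset.mem_insert,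
        Finset.mem_singleton]
      constructor
      · intro hx
        by_cases h1 : x = 1
        · exact Or.inl (Or.inl (Or.inl (Or.inl h1)))
        by_cases hh' : x = h
        · exact Or.inl (Or.inl (Or.inl (Or.inr hh')))
        by_cases hv : ∃ v, orderOf v = 2 ∧ Commute x v
        · exact Or.inl (Or.inl (Or.inr ⟨hx, h1, hh', hv⟩))
        push Not at hv
        by_cases h3 : x ^ 3 = 1
        · exact Or.inl (Or.inr ⟨hx, orderOf_eq_prime h3 h1⟩)
        by_cases hp : x ^ p = 1
        · exact Or.inr ⟨hx, orderOf_eq_prime hp h1⟩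
        exact (c.no_regular hv h3 hp hx).elim
      · rintro ((((rfl | rfl) | hx) | hx) | hx)
        · simp [c.hh]
        · simp [c.hh, c.hinv]
        all_goals exact hx.1
    rw [hset, ← hs1, ← hs3, ← hsp, Finset.card_union_of_disjoint, Finset.card_union_of_disjoint,
      Finset.card_union_of_disjoint, Finset.card_pair h1h]
    all_goals
      rw [Finset.disjoint_left]
      intro x hx hx'
      simp only [hs1, hs3, hsp, Finset.mem_filter, Finset.mem_univ, true_and, Finset.mem_union, Finset.mem_insert,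
        Finset.mem_singleton] at hx hx'
    · rcases hx with rfl | rfl
      · exact hx'.2.1 rfl
      · exact hx'.2.2.1 rfl
    · rcases hx with (rfl | rfl) | ⟨-, -, -, v, hv, hxv⟩
      · exact hne Nat.prime_three hx'.2 rfl
      · rw [c.inv] at hx'; omega
      · exact c.three_free (hpow hx'.2) (hne Nat.prime_three hx'.2) hv hxv
    · rcases hx with ((rfl | rfl) | ⟨-, -, -, v, hv, hxv⟩) | hx
      · exact hne c.prime hx'.2 rfl
      · rw [c.inv] at hx'
        have := c.dvd
        rw [← hx'.2] at this; omega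
      · exact c.p_free (hpow hx'.2) (hne c.prime hx'.2) hv hxv
      · exact hp3 (hx'.2.symm.trans hx.2)
  -- elements commuting with an involution
  have h1 : Nat.card I1 = n * (n - 1) := by
    set S := {v : G // orderOf v = 2 ∧ v ≠ h ∧ Commute v h}
    have hch : ∀ x : I1, ∃ v : S, Commute (x : G) v ∧ ((x : G) * x = 1 → (v : G) = x) := by
      rintro ⟨x, hix, hx1, hxh, v, hv, hxv⟩
      by_cases hxx : x * x = 1
      · refine ⟨⟨x, invol_iff.2 ⟨hxx, hx1⟩, hxh, ?_⟩, Commute.refl _, fun _ => rfl⟩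
        show x * h = h * x
        have := congrArg (h * ·) (hix.trans (inv_eq_of_mul_eq_one_right hxx))
        simpa [mul_assoc, c.hx] using this
      have hvh : orderOf (h * v * h) = 2 := by
        have := MulEquiv.orderOf_eq (MulAut.conj h) v
        rw [MulAut.conj_apply, c.hinv] at this
        rw [this, hv]
      have hxv' : Commute x (h * v * h) := by
        have := commute_conj h hxv
        rw [c.hinv, hix] at this
        simpa using this.inv_left
      have he := c.own_any hv hvh hxv hxv' hxx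
      refine ⟨⟨v, hv, fun e => hxx ?_, ?_⟩, hxv, fun e => absurd e hxx⟩
      · rw [show v = h from e] at hxv
        have : x⁻¹ = x := by rw [← hix, hxv.symm.eq, mul_assoc, c.hh, mul_one]
        calc x * x = x * x⁻¹ := by rw [this]
          _ = 1 := mul_inv_cancel x
      · show v * h = h * v
        have := congrArg (h * ·) he
        first
          | simpa [mul_assoc, c.hx] using this
          | simpa [mul_assoc, c.hx] using this.symm
    choose f hf hf' using hch
    have : Fintype S := Fintype.ofFinite S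
    have hfib : ∀ v : S, Nat.card {x : I1 // f x = v} = n - 1 := by
      rintro ⟨v, hv, hvh, hcv⟩
      let e : {x : I1 // f x = ⟨v, hv, hvh, hcv⟩} ≃ {u : G // (orderOf u = 2 ∧ Commute u v) ∧ u ≠ h ∧ u ≠ v} :=
        { toFun := fun x => ⟨h * (x.1 : G), by
            have hxv : Commute (x.1 : G) v := by
              have := hf x.1; rwa [x.2] at this
            refine ⟨⟨invol_iff.2 ⟨by rw [← mul_assoc, x.1.2.1, inv_mul_cancel], fun e => x.1.2.2.2.1 ?_⟩,
              hcv.symm.mul_left hxv⟩, fun e => x.1.2.2.1 (mul_eq_left.1 e), fun e => ?_⟩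
            · exact (eq_inv_of_mul_eq_one_right e).trans c.hinv
            · have hx : (x.1 : G) = h * v := (c.hx _).symm.trans (congrArg (h * ·) e)
              have hxx : (x.1 : G) * x.1 = 1 := by
                rw [hx, mul_assoc, ← mul_assoc v h v, hcv.eq, mul_assoc h v v, (invol_iff.1 hv).1, mul_one, c.hh]
              have := hf' x.1 hxx
              rw [x.2, hx] at this
              exact (invol_iff.1 c.inv).2 (mul_eq_right.1 this.symm)⟩
          invFun := fun u => ⟨⟨h * u, by
            have hu := invol_iff.1 u.2.1.1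
            refine ⟨?_, fun e => u.2.2.1 ?_, fun e => hu.2 (mul_eq_left.1 e), v, hv,
              hcv.symm.mul_left u.2.1.2⟩
            · rw [← mul_assoc, c.hh, one_mul, mul_inv_rev, c.hinv, inv_eq_of_mul_eq_one_right hu.1]
            · exact (eq_inv_of_mul_eq_one_right e).trans c.hinv⟩, Subtype.ext (by
              obtain ⟨u, ⟨hu2, huv⟩, huh, huv'⟩ := u
              set x : I1 := ⟨h * u, _⟩ with hx
              have hu := invol_iff.1 hu2
              by_cases hxx : h * u * (h * u) = 1
              · refine (hf' x hxx).trans ?_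
                have hch : Commute u h := by
                  show u * h = h * u
                  calc u * h = h * (h * u * (h * u)) * u := by
                        simp [mul_assoc, c.hx, hu.1]
                    _ = h * u := by rw [hxx, mul_one]
                rcases c.two v u hv hvh hcv hch huv with e | e | e | e
                · exact absurd e hu.2
                · exact absurd e huh
                · exact absurd e huv'
                · show h * u = v
                  rw [e, c.hx]
              · exact c.own_any hv (f x).2.1 (hcv.symm.mul_left huv) (hf x) hxx)⟩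
          left_inv := fun x => Subtype.ext (Subtype.ext (c.hx _))
          right_inv := fun u => Subtype.ext (c.hx _) }
      rw [Nat.card_congr e]
      have : Fintype G := Fintype.ofFinite G
      have h' := c.card_commuting hv
      rw [Nat.card_eq_fintype_card, Fintype.card_subtype] at h' ⊢
      have hs : (Finset.univ.filter fun u : G => orderOf u = 2 ∧ Commute u v) =
          insert h (insert v (Finset.univ.filter fun u : G => (orderOf u = 2 ∧ Commute u v) ∧ u ≠ h ∧ u ≠ v)) := by
        ext u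
        simp only [Finset.mem_filter, Finset.mem_univ, true_and, Finset.mem_insert]
        refine ⟨fun hu => by tauto, ?_⟩
        rintro (rfl | rfl | hu)
        exacts [⟨c.inv, hcv.symm⟩, ⟨hv, Commute.refl _⟩, hu.1]
      rw [hs, Finset.card_insert_of_notMem (by simp [Ne.symm hvh]), Finset.card_insert_of_notMem (by simp)] at h'
      omega
    rw [← Nat.card_congr (Equiv.sigmaFiberEquiv f), Nat.card_sigma, Finset.sum_congr rfl fun v _ => hfib v,
      Finset.sum_const, Finset.card_univ, smul_eq_mul, ← Nat.card_eq_fintype_card, c.cardS]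
  -- elements of order three
  obtain ⟨r, hr, hr1⟩ := c.exists_r
  have hro : orderOf r = 3 := orderOf_eq_prime (c.expR r hr) hr1
  have hcentr : Nat.card (Subgroup.centralizer {r}) = 9 := by
    rw [show Subgroup.centralizer {r} = R from le_antisymm
      (fun y hy => c.centR r hr hr1 y (Subgroup.mem_centralizer_singleton_iff.1 hy))
      (fun y hy => Subgroup.mem_centralizer_singleton_iff.2 ?_), c.cardR]
    haveI : IsMulCommutative R := ⟨⟨fun a b => (IsPGroup.commutative_of_card_eq_prime_sq (p := 3) c.cardR) a b⟩⟩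
    exact congrArg Subtype.val (mul_comm' (⟨y, hy⟩ : R) ⟨r, hr⟩)
  set O3 := {x : G // orderOf x = 3}
  have hO3 : Nat.card O3 * 9 = Nat.card G := by
    rw [← card_class r, ← hcentr]
    congr 1
    exact Nat.card_congr (Equiv.subtypeEquivRight fun x => ⟨fun hx => c.conjR x hx r hr hr1, fun hx => by
      obtain ⟨g, rfl⟩ := isConj_iff.1 hx
      rw [← MulAut.conj_apply, MulEquiv.orderOf_eq, hro]⟩)
  have h3 : Nat.card I3 = 4 * n := by
    set P := {z : G × G // orderOf z.1 = 2 ∧ orderOf z.2 = 3 ∧ z.1 * z.2 * z.1 = z.2⁻¹}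
    have : Fintype O3 := Fintype.ofFinite _
    have : Fintype {v : G // orderOf v = 2} := Fintype.ofFinite _
    have hA : Nat.card P = Nat.card O3 * 9 := by
      let e : P ≃ Σ x : O3, {u : G // orderOf u = 2 ∧ u * x * u = (x : G)⁻¹} :=
        ⟨fun z => ⟨⟨z.1.2, z.2.2.1⟩, ⟨z.1.1, z.2.1, z.2.2.2⟩⟩, fun z => ⟨(z.2, z.1), z.2.2.1, z.1.2, z.2.2.2⟩,
          fun z => rfl, fun z => rfl⟩
      rw [Nat.card_congr e, Nat.card_sigma, Finset.sum_congr rfl (g := fun _ => 9), Finset.sum_const,
        Finset.card_univ, smul_eq_mul, Nat.card_eq_fintype_card (α := O3)]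
      rintro ⟨x, hx⟩ -
      obtain ⟨g, rfl⟩ := isConj_iff.1 (c.conjR x hx r hr hr1)
      have hrh : h * r * h = r⁻¹ := c.invR r hr
      let e' : R ≃ {u : G // orderOf u = 2 ∧ u * (g * r * g⁻¹) * u = (g * r * g⁻¹)⁻¹} :=
        { toFun := fun s => ⟨g * (h * s) * g⁻¹, by
            have hs := c.invR s s.2
            have h1 : h * (s : G) * (h * s) = 1 := by rw [← mul_assoc, hs, inv_mul_cancel]
            refine ⟨invol_iff.2 ⟨?_, fun e => ?_⟩, ?_⟩
            · calc g * (h * s) * g⁻¹ * (g * (h * s) * g⁻¹) = g * (h * s * (h * s)) * g⁻¹ := by group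
                _ = 1 := by rw [h1]; group
            · rw [conj_eq_one_iff] at e
              have h4 := c.expR _ s.2
              rw [show (s : G) = h by rw [← c.hinv]; exact eq_inv_of_mul_eq_one_right e,
                pow_succ, pow_two, c.hh, one_mul] at h4
              exact (invol_iff.1 c.inv).2 h4
            · haveI : IsMulCommutative R :=
                ⟨⟨fun a b => (IsPGroup.commutative_of_card_eq_prime_sq (p := 3) c.cardR) a b⟩⟩
              have hsr : (s : G) * r = r * s := congrArg Subtype.val (mul_comm' s ⟨r, hr⟩)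
              calc g * (h * s) * g⁻¹ * (g * r * g⁻¹) * (g * (h * s) * g⁻¹)
                  = g * (h * (s * r) * h * s) * g⁻¹ := by group
                _ = g * ((h * r * h) * (h * s * h) * s) * g⁻¹ := by rw [hsr]; simp [mul_assoc, c.hx]
                _ = _ := by rw [hrh, hs]; group⟩
          invFun := fun u => ⟨h * (g⁻¹ * (u : G) * g), c.centR r hr hr1 _ (by
            show _ = _
            calc h * (g⁻¹ * (u : G) * g) * r = h * (g⁻¹ * ((u : G) * (g * r * g⁻¹) * u) * ((u : G)⁻¹ * g)) := by group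
              _ = h * (r⁻¹ * (g⁻¹ * (u : G) * g)) := by
                rw [u.2.2, inv_eq_of_mul_eq_one_right (invol_iff.1 u.2.1).1]; group
              _ = _ := by rw [← hrh]; simp [mul_assoc, c.hx])⟩
          left_inv := fun s => Subtype.ext (by simp [mul_assoc, c.hx])
          right_inv := fun u => Subtype.ext (by simp [mul_assoc, c.hx]) }
      rw [← Nat.card_congr e', c.cardR]
    have hB : Nat.card P = Nat.card {v : G // orderOf v = 2} * Nat.card I3 := by
      let e : P ≃ Σ u : {v : G // orderOf v = 2}, {x : G // (u : G) * x * u = x⁻¹ ∧ orderOf x = 3} :=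
        ⟨fun z => ⟨⟨z.1.1, z.2.1⟩, ⟨z.1.2, z.2.2.2, z.2.2.1⟩⟩, fun z => ⟨(z.1, z.2), z.1.2, z.2.2.2, z.2.2.1⟩,
          fun z => rfl, fun z => rfl⟩
      rw [Nat.card_congr e, Nat.card_sigma, Finset.sum_congr rfl (g := fun _ => Nat.card I3), Finset.sum_const,
        Finset.card_univ, smul_eq_mul, Nat.card_eq_fintype_card (α := {v : G // orderOf v = 2})]
      rintro ⟨u, hu⟩ -
      obtain ⟨g, rfl⟩ := isConj_iff.1 (c.conj u hu)
      refine Nat.card_congr ((MulAut.conj g).toEquiv.subtypeEquiv fun x => ?_).symm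
      show _ ↔ g * h * g⁻¹ * (g * x * g⁻¹) * (g * h * g⁻¹) = (g * x * g⁻¹)⁻¹ ∧ orderOf (MulAut.conj g x) = 3
      rw [MulEquiv.orderOf_eq,
        show g * h * g⁻¹ * (g * x * g⁻¹) * (g * h * g⁻¹) = g * (h * x * h) * g⁻¹ by group,
        show (g * x * g⁻¹)⁻¹ = g * x⁻¹ * g⁻¹ by group, mul_left_inj, mul_right_inj]
    have ht := c.card_invol
    have hpos : 0 < Nat.card {v : G // orderOf v = 2} := Nat.card_pos_iff.2 ⟨⟨⟨h, c.inv⟩⟩, inferInstance⟩
    exact Nat.eq_of_mul_eq_mul_left hpos (by rw [← hB, hA, hO3, ht])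
  -- elements of order `p` fall into triples
  have hpd : 3 ∣ Nat.card Ip := by
    obtain ⟨w, hw⟩ := exists_prime_orderOf_dvd_card (G := (ZMod p)ˣ) 3 (by rw [ZMod.card_units]; exact c.dvd)
    set m := ((w : ZMod p)).val
    have hm3 : (m ^ 3) % p = 1 := by
      have h1 : ((m ^ 3 : ℕ) : ZMod p) = ((1 : ℕ) : ZMod p) := by
        rw [Nat.cast_pow, ZMod.natCast_zmod_val, ← Units.val_pow_eq_pow_val, ← hw, pow_orderOf_eq_one]
        simp
      rw [ZMod.natCast_eq_natCast_iff] at h1
      exact Eq.trans h1 (Nat.mod_eq_of_lt c.prime.one_lt)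
    have hm1 : m % p ≠ 1 := fun e => by
      rw [Nat.mod_eq_of_lt (ZMod.val_lt _)] at e
      have : w = 1 := Units.ext ((ZMod.natCast_zmod_val (w : ZMod p)).symm.trans (by rw [show _ = _ from e]; simp))
      rw [this, orderOf_one] at hw; omega
    have hpow : ∀ {x : G}, orderOf x = p → ∀ k, x ^ k = x ^ (k % p) := fun hx k => by
      rw [← hx]; exact (pow_mod_orderOf _ k).symm
    have hinvk : ∀ {x : G}, h * x * h = x⁻¹ → ∀ k, h * x ^ k * h = (x ^ k)⁻¹ := fun {x} hx k => by
      have := map_pow (MulAut.conj h) x k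
      rw [MulAut.conj_apply, MulAut.conj_apply, c.hinv] at this
      rw [this, hx, inv_pow]
    let σ : Ip → Ip := fun x => ⟨(x : G) ^ m, hinvk x.2.1 m, by
      refine orderOf_eq_prime (by rw [← pow_mul, mul_comm, pow_mul, (congrArg ((x : G) ^ ·) x.2.2).symm.trans (pow_orderOf_eq_one _), one_pow]) fun e => ?_
      have h1 : (x : G) = ((x : G) ^ m) ^ (m ^ 2) := by
        rw [← pow_mul, show m * m ^ 2 = m ^ 3 by ring, hpow x.2.2, hm3, pow_one]
      rw [e, one_pow] at h1
      have := x.2.2
      rw [h1, orderOf_one] at this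
      exact c.prime.one_lt.ne this⟩
    have hσ3 : ∀ x, σ (σ (σ x)) = x := fun x => Subtype.ext (by
      show (((x : G) ^ m) ^ m) ^ m = x
      rw [← pow_mul, ← pow_mul, show m * (m * m) = m ^ 3 by ring, hpow x.2.2, hm3, pow_one])
    have : Fintype Ip := Fintype.ofFinite _
    let f : Function.End Ip := σ
    have hf : f ^ 3 ^ 1 = 1 := funext hσ3
    have hmod := Equiv.Perm.card_fixedPoints_modEq (f := f) (p := 3) (n := 1) hf
    have : IsEmpty f.fixedPoints := ⟨fun ⟨x, hx⟩ => by
      have hx' : (x : G) ^ m = x := congrArg Subtype.val hx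
      rw [hpow x.2.2] at hx'
      nth_rewrite 2 [← pow_one (x : G)] at hx'
      have h2 := pow_inj_mod.1 hx'
      rw [x.2.2, Nat.mod_mod, Nat.mod_eq_of_lt c.prime.one_lt] at h2
      exact hm1 h2⟩
    rw [Fintype.card_eq_zero (α := f.fixedPoints)] at hmod
    rw [Nat.card_eq_fintype_card]
    exact Nat.modEq_zero_iff_dvd.1 hmod
  -- congruence modulo three
  have ht : 3 ∣ Nat.card {v : G // orderOf v = 2} := by
    have h1 : 3 ∣ Nat.card {v : G // orderOf v = 2} * (4 * n) := by
      rw [c.card_invol, ← hO3]; exact Dvd.dvd.mul_left (by norm_num) _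
    exact (Nat.Coprime.dvd_mul_right ((Nat.Prime.coprime_iff_not_dvd Nat.prime_three).2 fun hd =>
      c.three ((Nat.Coprime.dvd_mul_left (by norm_num : Nat.Coprime 3 4)).1 hd))).1 h1
  obtain ⟨a, ha⟩ := ht
  obtain ⟨b, hb⟩ := hpd
  rw [hI, h1, h3, ha, hb] at hpart
  have hn3 := c.three
  obtain ⟨j, hj⟩ | ⟨j, hj⟩ : (∃ j, n = 3 * j + 1) ∨ ∃ j, n = 3 * j + 2 := by
    rcases (show n % 3 = 1 ∨ n % 3 = 2 by omega) with e | e
    exacts [Or.inl ⟨n / 3, by omega⟩, Or.inr ⟨n / 3, by omega⟩]
  · subst hj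
    rw [show (3 * j + 1) * (3 * j + 1 - 1) = 3 * (j * (3 * j + 1)) by rw [Nat.add_sub_cancel]; ring] at hpart
    omega
  · subst hj
    rw [show (3 * j + 2) * (3 * j + 2 - 1) = 3 * (3 * j * j + 3 * j) + 2 by
      rw [show 3 * j + 2 - 1 = 3 * j + 1 by omega]; ring] at hpart
    omega

end Config

end Cfsg.Agent.Classical.SLThree.Hessian
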