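import Cfsg.Agent.Lib.Classical.SLThree.HessianCover
import Cfsg.Agent.Lib.Classical.SLThree.HessianCount

/-!
A group without transvections which contains the standard group and its quaternion group normalises the standard
group.
-/

set_option autoImplicit false
set_option linter.unusedSectionVars false
set_option maxHeartbeats 1000000

namespace Cfsg.Agent.Classical.SLThree.Hessian

open Matrix MaxTv HeisenbergThree

universe u

variable {F : Type u} [Field F]

local notation "M₃" => Matrix (Fin 3) (Fin 3) F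

/-- A unipotent element without transvection power has a commutative commutant, powers are scalar. -/
theorem pow_scalar_of_unipotent [Fintype F] {p : ℕ} [Fact p.Prime] [CharP F p] (hF : Fintype.card F = p)
    (h2 : (2 : F) ≠ 0) {N : M₃} (hN : N ^ p = 0) (hNN : N * N ≠ 0) {x : M₃} (hx : Commute x N) :
    ∃ a : F, x ^ p = a • 1 := by
  have ht : N.trace = 0 := isNilpotent_iff_eq_zero.1 (Matrix.isNilpotent_trace_of_isNilpotent ⟨p, hN⟩)
  have ht2 : (N * N).trace = 0 := isNilpotent_iff_eq_zero.1 (Matrix.isNilpotent_trace_of_isNilpotent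
    ⟨p, by rw [(Commute.refl N).mul_pow, hN, zero_mul]⟩)
  have hd : N.det = 0 := by
    have := congrArg Matrix.det hN
    rw [Matrix.det_pow, Matrix.det_zero] at this
    exact pow_eq_zero_iff (Fact.out (p := p.Prime)).ne_zero |>.1 this
  have h3 : N * N * N = 0 := by
    have := cayley_three N
    rw [ht, ht2, hd] at this
    simp only [mul_zero, zero_smul, sub_zero, add_zero] at this
    exact (smul_eq_zero.1 this).resolve_left h2
  obtain ⟨v, hv⟩ : ∃ v, (N * N) *ᵥ v ≠ 0 := by
    by_contra hc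
    push Not at hc
    exact hNN (Matrix.ext_iff_mulVec.2 fun v => by rw [hc, Matrix.zero_mulVec])
  rw [← Matrix.mulVec_mulVec] at hv
  have h3v : ∀ z, N *ᵥ (N *ᵥ (N *ᵥ z)) = 0 := fun z => by
    rw [Matrix.mulVec_mulVec, Matrix.mulVec_mulVec, h3, Matrix.zero_mulVec]
  have hli : LinearIndependent F ![v, N *ᵥ v, N *ᵥ (N *ᵥ v)] := by
    refine Fintype.linearIndependent_iff.2 fun c hc => ?_
    rw [Fin.sum_univ_three] at hc
    change c 0 • v + c 1 • (N *ᵥ v) + c 2 • (N *ᵥ (N *ᵥ v)) = 0 at hc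
    have h1 := congrArg (fun z => N *ᵥ (N *ᵥ z)) hc
    simp only [Matrix.mulVec_add, Matrix.mulVec_smul, h3v, Matrix.mulVec_zero, smul_zero, add_zero] at h1
    have c0 := (smul_eq_zero.1 h1).resolve_right hv
    rw [c0, zero_smul, zero_add] at hc
    have h2 := congrArg (fun z => N *ᵥ z) hc
    simp only [Matrix.mulVec_add, Matrix.mulVec_smul, h3v, Matrix.mulVec_zero, smul_zero, add_zero] at h2
    have c1 := (smul_eq_zero.1 h2).resolve_right hv
    rw [c1, zero_smul, zero_add] at hc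
    have c2 := (smul_eq_zero.1 hc).resolve_right hv
    intro i; fin_cases i <;> assumption
  have hspan := hli.span_eq_top_of_card_eq_finrank (by simp)
  have hm : x *ᵥ v ∈ Submodule.span F (Set.range ![v, N *ᵥ v, N *ᵥ (N *ᵥ v)]) := hspan ▸ Submodule.mem_top
  obtain ⟨c, hc⟩ := (Submodule.mem_span_range_iff_exists_fun F).1 hm
  obtain ⟨q, hq⟩ : ∃ q : M₃, q = c 1 • 1 + c 2 • N := ⟨_, rfl⟩
  have hxq : x = c 0 • 1 + N * q := by
    have hcom : Commute (x - (c 0 • 1 + N * q)) N := by
      refine hx.sub_left (((Commute.one_left N).smul_left _).add_left ?_)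
      rw [hq]
      exact (Commute.refl N).mul_left (((Commute.one_left N).smul_left _).add_left ((Commute.refl N).smul_left _))
    have hv0 : (x - (c 0 • 1 + N * q)) *ᵥ v = 0 := by
      rw [Matrix.sub_mulVec, ← hc, Fin.sum_univ_three, hq, sub_eq_zero]
      simp [Matrix.add_mulVec, Matrix.smul_mulVec, Matrix.mul_add, ← Matrix.mulVec_mulVec, add_assoc]
    obtain ⟨D, hD⟩ : ∃ D, D = x - (c 0 • 1 + N * q) := ⟨_, rfl⟩
    rw [← hD] at hcom hv0
    have hmv : ∀ z, D *ᵥ (N *ᵥ z) = N *ᵥ (D *ᵥ z) := fun z => by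
      rw [Matrix.mulVec_mulVec, Matrix.mulVec_mulVec, hcom.eq]
    rw [← sub_eq_zero, ← hD]
    refine Matrix.ext_iff_mulVec.2 fun z => ?_
    rw [Matrix.zero_mulVec]
    have hz : z ∈ Submodule.span F (Set.range ![v, N *ᵥ v, N *ᵥ (N *ᵥ v)]) := hspan ▸ Submodule.mem_top
    induction hz using Submodule.span_induction with
    | mem y hy =>
      obtain ⟨i, rfl⟩ := hy
      fin_cases i
      · exact hv0
      · show D *ᵥ (N *ᵥ v) = 0; rw [hmv, hv0, Matrix.mulVec_zero]
      · show D *ᵥ (N *ᵥ (N *ᵥ v)) = 0; rw [hmv, hmv, hv0, Matrix.mulVec_zero, Matrix.mulVec_zero]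
    | zero => rw [Matrix.mulVec_zero]
    | add u u' _ _ hu hu' => rw [Matrix.mulVec_add, hu, hu', add_zero]
    | smul t u _ hu => rw [Matrix.mulVec_smul, hu, smul_zero]
  refine ⟨c 0, ?_⟩
  have hNq : Commute N q := by
    rw [hq]; exact ((Commute.one_right N).smul_right _).add_right ((Commute.refl N).smul_right _)
  rw [hxq, add_pow_char_of_commute p ((Commute.one_left _).smul_left _), hNq.mul_pow, hN, zero_mul, add_zero,
    smul_pow, one_pow]
  rw [← hF, FiniteField.pow_card]

variable {X : Subgroup (GL (Fin 3) F)} {w : Fˣ} {p : ℕ} [Fintype F]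

namespace Std

variable (c : Std X w p)
include c

theorem bh_ne : c.bh ≠ 1 := fun e => by
  have h1 := c.bR_inv c.bA_mem
  rw [e, one_mul, mul_one] at h1
  have h2 := c.bR_cube c.bA_mem
  rw [pow_succ, pow_two, eq_inv_iff_mul_eq_one.1 h1, one_mul] at h2
  exact c.bA_ne h2

theorem mem_Cn {x : PX X} : x ∈ Cn c.bh ↔ Commute x c.bh := Subgroup.mem_centralizer_singleton_iff

/-- The centraliser of the involution has no element of order three. -/
theorem no_cube {x : PX X} (hx : Commute x c.bh) (hx3 : x ^ 3 = 1) : x = 1 := by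
  classical
  haveI : Finite (GL (Fin 3) F) := Finite.of_injective _ Units.val_injective
  haveI : Finite (Matrix.ProjGenLinGroup (Fin 3) F) := Finite.of_surjective _ Matrix.ProjGenLinGroup.mk_surjective
  haveI : Fact (Nat.Prime 3) := ⟨Nat.prime_three⟩
  by_contra hx1
  obtain ⟨M, _, _, π, β, cov, -, hown, -⟩ := c.exists_cov
  have hxx : x * x ≠ 1 := fun e => hx1 (by rwa [pow_succ, pow_two, e, one_mul] at hx3)
  obtain ⟨x', rfl⟩ : ∃ x' : Cn c.bh, (x' : PX X) = x := ⟨⟨x, c.mem_Cn.2 hx⟩, rfl⟩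
  have hx3' : x' ^ 3 = 1 := Subtype.ext (by rw [SubmonoidClass.coe_pow]; exact hx3)
  have hx1' : x' ≠ 1 := fun e => hx1 (congrArg Subtype.val e)
  -- elements of order three commuting with it
  have key : ∀ z : PX X, z ^ 3 = 1 → Commute z (x' : PX X) → z = 1 ∨ z = x' ∨ z = (x' : PX X)⁻¹ := by
    intro z hz hzx
    have hv : z * c.bh * z⁻¹ * (z * c.bh * z⁻¹) = 1 := by
      rw [show z * c.bh * z⁻¹ * (z * c.bh * z⁻¹) = z * (c.bh * c.bh) * z⁻¹ by group, c.bh_sq]; group
    have hxv : Commute (x' : PX X) (z * c.bh * z⁻¹) := by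
      have h1 := commute_conj z hx
      rwa [hzx.eq, mul_inv_cancel_right] at h1
    have hvC := hown _ _ hx hxx hv hxv
    have he : z * c.bh * z⁻¹ = c.bh := cov.own_cube (y := x') (v := ⟨_, c.mem_Cn.2 hvC⟩) hx3' hx1' hv
      (fun e => c.bh_ne (conj_eq_one_iff.1 e)) (Subtype.ext hxv.eq)
    have hzC : z ∈ Cn c.bh := c.mem_Cn.2 (mul_inv_eq_iff_eq_mul.1 he)
    rcases cov.pow_cube (z := ⟨z, hzC⟩) hx3' hx1' (Subtype.ext (by rw [SubmonoidClass.coe_pow]; exact hz))
      (Subtype.ext hzx.symm.eq) with e | e | e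
    · exact Or.inl (congrArg Subtype.val e)
    · exact Or.inr (Or.inl (congrArg Subtype.val e))
    · exact Or.inr (Or.inr (congrArg Subtype.val e))
  have hzp : IsPGroup 3 (Subgroup.zpowers (x' : PX X)) :=
    IsPGroup.of_card (n := 1) (by rw [Nat.card_zpowers, orderOf_eq_prime hx3 hx1, pow_one])
  obtain ⟨P, hP⟩ := hzp.exists_le_sylow
  have hxP : (x' : PX X) ∈ (P : Subgroup (PX X)) := hP (Subgroup.mem_zpowers _)
  haveI : Nontrivial (P : Subgroup (PX X)) :=
    ⟨⟨⟨x', hxP⟩, 1, fun e => hx1 (congrArg Subtype.val e)⟩⟩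
  haveI := P.isPGroup'.center_nontrivial
  obtain ⟨k, hk⟩ := IsPGroup.iff_card.1 (P.isPGroup'.to_subgroup (Subgroup.center (P : Subgroup (PX X))))
  have hk0 : k ≠ 0 := fun e => by
    have h1 := Finite.one_lt_card (α := Subgroup.center (P : Subgroup (PX X)))
    rw [hk, e, pow_zero] at h1
    exact lt_irrefl _ h1
  obtain ⟨z, hz⟩ := exists_prime_orderOf_dvd_card' (G := Subgroup.center (P : Subgroup (PX X))) 3
    (hk ▸ dvd_pow_self 3 hk0)
  have hzc : ∀ q, q ∈ (P : Subgroup (PX X)) → Commute ((z : (P : Subgroup (PX X))) : PX X) q := fun q hq =>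
    (congrArg Subtype.val (Subgroup.mem_center_iff.1 z.2 ⟨q, hq⟩)).symm
  have hz3 : ((z : (P : Subgroup (PX X))) : PX X) ^ 3 = 1 := by
    have h := pow_orderOf_eq_one ((z : (P : Subgroup (PX X))) : PX X)
    rwa [Subgroup.orderOf_coe, Subgroup.orderOf_coe, hz] at h
  have hz1 : ((z : (P : Subgroup (PX X))) : PX X) ≠ 1 := fun e => by
    have h1 : orderOf z = 1 := by rw [← Subgroup.orderOf_coe, ← Subgroup.orderOf_coe, e, orderOf_one]
    omega
  have hxc : ∀ q ∈ (P : Subgroup (PX X)), Commute (x' : PX X) q := fun q hq => by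
    rcases key _ hz3 (hzc _ hxP) with e | e | e
    · exact absurd e hz1
    · exact e ▸ hzc q hq
    · have h1 := hzc q hq
      rw [e] at h1
      exact Commute.inv_left_iff.1 h1
  obtain ⟨Q, hQ⟩ := (IsPGroup.of_card (n := 2) (p := 3) (G := c.bR) (by rw [c.card_bR]; rfl)).exists_le_sylow
  obtain ⟨g, hg⟩ := MulAction.exists_smul_eq (PX X) Q P
  have hmem : ∀ r : c.bR, g * r * g⁻¹ ∈ ({1, (x' : PX X), (x' : PX X)⁻¹} : Finset (PX X)) := fun r => by
    have h1 : g * (r : PX X) * g⁻¹ ∈ (P : Subgroup (PX X)) := by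
      rw [← hg, Sylow.coe_subgroup_smul]
      exact Subgroup.smul_mem_pointwise_smul _ (MulAut.conj g) _ (hQ r.2)
    simp only [Finset.mem_insert, Finset.mem_singleton]
    exact key _ (by rw [conj_pow, c.bR_cube r.2]; group) (hxc _ h1).symm
  have hcard := Nat.card_le_card_of_injective
    (fun r : c.bR => (⟨g * r * g⁻¹, hmem r⟩ : ({1, (x' : PX X), (x' : PX X)⁻¹} : Finset (PX X))))
    fun r s e => Subtype.ext (by simpa using congrArg Subtype.val e)
  rw [c.card_bR, Nat.card_eq_fintype_card, Fintype.card_coe] at hcard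
  have := hcard.trans Finset.card_le_three
  omega

/-- The configuration of the count is impossible. -/
theorem false : False := by
  classical
  haveI : Finite (GL (Fin 3) F) := Finite.of_injective _ Units.val_injective
  haveI : Finite (Matrix.ProjGenLinGroup (Fin 3) F) := Finite.of_surjective _ Matrix.ProjGenLinGroup.mk_surjective
  haveI : Fact (Nat.Prime 3) := ⟨Nat.prime_three⟩
  haveI : Fact p.Prime := ⟨c.prime⟩
  haveI : CharP F p := charP_of_card_eq_prime c.card
  obtain ⟨M, _, _, π, β, cov, hpM, hown, -⟩ := c.exists_cov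
  have h3 : ¬ 3 ∣ Nat.card (Cn c.bh) := fun hd => by
    obtain ⟨y, hy⟩ := exists_prime_orderOf_dvd_card' 3 hd
    have h1 : (y : PX X) = 1 := c.no_cube (c.mem_Cn.1 y.2) (by
      have h := pow_orderOf_eq_one (y : PX X)
      rwa [Subgroup.orderOf_coe, hy] at h)
    rw [show y = 1 from Subtype.ext h1, orderOf_one] at hy
    norm_num at hy
  obtain ⟨n, hcard, h4, h3n, hS, htwo, hcls⟩ := cov.dihedral_data h3
  have hinv2 : ∀ x : PX X, orderOf x = 2 ↔ x * x = 1 ∧ x ≠ 1 := fun x => invol_iff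
  -- one class of involutions
  obtain ⟨s, hs, hs1, hsh, hsc, hsconj⟩ := c.exists_other
  have hconjC : ∀ v, v * v = 1 → v ≠ 1 → Commute v c.bh → IsConj c.bh v := fun v hv hv1 hvc => by
    by_cases hvh : v = c.bh
    · rw [hvh]
    · exact hsconj.trans (hcls s v hs hs1 hsh hsc hv hv1 hvh hvc)
  have hconj : ∀ u : PX X, u * u = 1 → u ≠ 1 → IsConj c.bh u := by
    intro u hu hu1
    obtain ⟨d, hd⟩ : ∃ d, d = u * c.bh := ⟨_, rfl⟩
    have hui : u⁻¹ = u := inv_eq_of_mul_eq_one_right hu
    have hhi : c.bh⁻¹ = c.bh := inv_eq_of_mul_eq_one_right c.bh_sq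
    have hud : ∀ j : ℕ, u * d ^ j * u = (d ^ j)⁻¹ := fun j => by
      have h1 : u * d * u = d⁻¹ := by rw [hd, _root_.mul_inv_rev, hui, hhi, ← mul_assoc, hu, one_mul]
      have h2 : u * d ^ j * u⁻¹ = (u * d * u⁻¹) ^ j := conj_pow.symm
      rw [hui, h1, inv_pow] at h2
      exact h2
    obtain ⟨k, hk⟩ | ⟨k, hk⟩ := Nat.even_or_odd (orderOf d)
    · -- even order: a common involution
      obtain ⟨v, hv⟩ : ∃ v, v = d ^ k := ⟨_, rfl⟩
      have hk0 : k ≠ 0 := fun e => by have := orderOf_pos d; omega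
      have hvv : v * v = 1 := by rw [hv, ← pow_add, ← hk, pow_orderOf_eq_one]
      have hv1 : v ≠ 1 := fun e => by
        have := Nat.le_of_dvd (by omega) (orderOf_dvd_of_pow_eq_one (hv ▸ e))
        omega
      have hvu : Commute v u := by
        have h1 : u * v * u = v := by rw [hv, hud, inv_eq_of_mul_eq_one_right (hv ▸ hvv)]
        show v * u = u * v
        conv_lhs => rw [← h1, mul_assoc, hu, mul_one]
      have hvh : Commute v c.bh := by
        have h1 : Commute v d := by rw [hv]; exact Commute.pow_self d k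
        have h2 := hvu.mul_right h1
        rwa [hd, ← mul_assoc, hu, one_mul] at h2
      obtain ⟨g, hg⟩ := isConj_iff.1 (hconjC v hvv hv1 hvh)
      refine (hconjC (g⁻¹ * u * g) ?_ ?_ ?_).trans (isConj_iff.2 ⟨g, by group⟩)
      · rw [show g⁻¹ * u * g * (g⁻¹ * u * g) = g⁻¹ * (u * u) * g by group, hu]; group
      · intro e; exact hu1 (by rw [show u = g * (g⁻¹ * u * g) * g⁻¹ by group, e]; group)
      · have h1 := commute_conj g⁻¹ hvu.symm
        rw [← hg] at h1
        simpa [mul_assoc] using h1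
    · refine (isConj_iff.2 ⟨(d ^ (k + 1))⁻¹, ?_⟩ : IsConj u c.bh).symm
      rw [inv_inv, ← hud, show u * d ^ (k + 1) * u * u * d ^ (k + 1) = u * (d ^ (k + 1) * (u * u)) * d ^ (k + 1) by
          simp only [mul_assoc], hu, mul_one, mul_assoc, ← pow_add,
        show k + 1 + (k + 1) = orderOf d + 1 by omega, pow_add, pow_orderOf_eq_one, one_mul, pow_one, hd,
        ← mul_assoc, hu, one_mul]
  have hfree : ∀ y v : PX X, y ^ 3 = 1 → y ≠ 1 → v * v = 1 → v ≠ 1 → ¬ Commute y v := by
    intro y v hy hy1 hv hv1 hyv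
    obtain ⟨g, rfl⟩ := isConj_iff.1 (hconj v hv hv1)
    have h1 := commute_conj g⁻¹ hyv
    have h2 := c.no_cube (x := g⁻¹ * y * g) (by simpa [mul_assoc] using h1)
      (by rw [show g⁻¹ * y * g = g⁻¹ * y * g⁻¹⁻¹ by rw [inv_inv], conj_pow, hy]; group)
    exact hy1 (by rw [show y = g * (g⁻¹ * y * g) * g⁻¹ by group, h2]; group)
  -- the centraliser of the first generator
  have hCA : ∀ x : PX X, Commute x c.bA → x ∈ c.bR := by
    intro x hx
    obtain ⟨m, rfl⟩ := mkX_surjective x
    obtain ⟨k, -, hd⟩ := exists_diag c.hw c.hw1 (g := (m : GL (Fin 3) F)) (hx.map (PX X).subtype)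
    obtain ⟨u, hu⟩ : ∃ u : X, u = m * (⟨cyc, c.hc⟩ : X) ^ k := ⟨_, rfl⟩
    have hud : ∀ i j : Fin 3, i ≠ j → ((u : GL (Fin 3) F) : M₃) i j = 0 := by rw [hu]; exact hd
    have claim : ∀ (g : X) (d : Fin 3 → F), ((g : GL (Fin 3) F) : M₃) = Matrix.diagonal d → d 0 * d 0 = d 1 * d 2 := by
      intro g d hg
      obtain ⟨m', hm'⟩ : ∃ m' : X, m' = g * (⟨negSwap, c.hh⟩ * g * ⟨negSwap, c.hh⟩) := ⟨_, rfl⟩
      have hval : ((m' : GL (Fin 3) F) : M₃) = Matrix.diagonal ![d 0 * d 0, d 1 * d 2, d 1 * d 2] := by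
        rw [hm']
        simp only [Subgroup.coe_mul, Units.val_mul, hg, coe_negSwap, ← mul_assoc]
        ext i j
        fin_cases i <;> fin_cases j <;> simp [Matrix.mul_apply, Matrix.vecMul_diagonal, Fin.sum_univ_three] <;> ring
      have hmh : Commute (mkX X m') c.bh := Subtype.ext (by
        show pr (m' : GL (Fin 3) F) * pr negSwap = pr negSwap * pr (m' : GL (Fin 3) F)
        rw [← map_mul, ← map_mul]
        refine congrArg pr (Units.ext ?_)
        simp only [Units.val_mul, hval, coe_negSwap]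
        ext i j
        fin_cases i <;> fin_cases j <;> simp [Matrix.mul_apply, Fin.sum_univ_three])
      have hmA : Commute (mkX X m') c.bA := Subtype.ext (by
        show pr (m' : GL (Fin 3) F) * pr (dia (A w)) = pr (dia (A w)) * pr (m' : GL (Fin 3) F)
        rw [← map_mul, ← map_mul]
        refine congrArg pr (Units.ext ?_)
        simp only [Units.val_mul, hval, coe_dia, Matrix.diagonal_mul_diagonal]
        congr 1
        funext i
        ring)
      by_contra hne
      have hm1 : mkX X m' ≠ 1 := fun e => hne (by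
        obtain ⟨t, ht⟩ := pr_eq_one.1 (congrArg Subtype.val e)
        rw [hval] at ht
        have e0 := congrFun (congrFun ht 0) 0
        have e1 := congrFun (congrFun ht 1) 1
        simp at e0 e1
        rw [e0, e1])
      by_cases hmm : mkX X m' * mkX X m' = 1
      · exact hfree c.bA _ (c.bR_cube c.bA_mem) c.bA_ne hmm hm1 hmA.symm
      · have hv : c.bA * c.bh * c.bA⁻¹ * (c.bA * c.bh * c.bA⁻¹) = 1 := by
          rw [show c.bA * c.bh * c.bA⁻¹ * (c.bA * c.bh * c.bA⁻¹) = c.bA * (c.bh * c.bh) * c.bA⁻¹ by group, c.bh_sq]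
          group
        have hmv : Commute (mkX X m') (c.bA * c.bh * c.bA⁻¹) := (hmA.mul_right hmh).mul_right hmA.inv_right
        have h1 := hown _ _ hmh hmm hv hmv
        have e : c.bh * (c.bA * c.bh * c.bA⁻¹) = c.bA := by
          rw [← mul_assoc, ← mul_assoc, c.bR_inv c.bA_mem, ← _root_.mul_inv_rev, inv_eq_of_mul_eq_one_right]
          rw [← pow_two, ← pow_succ, c.bR_cube c.bA_mem]
        have h2 : c.bA * c.bA = 1 := by
          calc c.bA * c.bA = c.bh * (c.bA * c.bh * c.bA⁻¹) * (c.bh * (c.bA * c.bh * c.bA⁻¹)) := by rw [e]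
            _ = c.bh * c.bh * (c.bA * c.bh * c.bA⁻¹ * (c.bA * c.bh * c.bA⁻¹)) := h1.mul_mul_mul_comm _ _
            _ = 1 := by rw [c.bh_sq, hv, one_mul]
        refine c.bA_ne ?_
        have h5 := c.bR_cube c.bA_mem
        rwa [pow_succ, pow_two, h2, one_mul] at h5
    obtain ⟨d, hd'⟩ : ∃ d : Fin 3 → F, ((u : GL (Fin 3) F) : M₃) = Matrix.diagonal d := ⟨fun i => ((u : GL (Fin 3) F) : M₃) i i, by
      ext i j
      rcases eq_or_ne i j with rfl | hij
      · rw [Matrix.diagonal_apply_eq]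
      · rw [Matrix.diagonal_apply_ne _ hij, hud i j hij]⟩
    have hrot : ∀ (g : X) (d : Fin 3 → F), ((g : GL (Fin 3) F) : M₃) = Matrix.diagonal d →
        (((⟨cyc, c.hc⟩ * g * ⟨cyc, c.hc⟩⁻¹ : X) : GL (Fin 3) F) : M₃) = Matrix.diagonal ![d 2, d 0, d 1] := by
      intro g d hg
      simp only [Subgroup.coe_mul, Subgroup.coe_inv, Units.val_mul, hg]
      show !![0, 0, 1; 1, 0, 0; 0, 1, 0] * _ * !![0, 1, 0; 0, 0, 1; 1, 0, 0] = _
      ext i j
      fin_cases i <;> fin_cases j <;> simp [Matrix.mul_apply, Matrix.vecMul_diagonal, Fin.sum_univ_three]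
    have e0 := claim u d hd'
    have e1 := claim _ _ (hrot u d hd')
    have e2 := claim _ _ (hrot _ _ (hrot u d hd'))
    simp at e1 e2
    have hne : ∀ i, d i ≠ 0 := fun i e => (u : GL (Fin 3) F).det_ne_zero (by
      rw [hd', Matrix.det_diagonal]
      exact Finset.prod_eq_zero (Finset.mem_univ i) e)
    obtain ⟨a, -, ha⟩ := cases_cube c.hw c.hw1 (t := Units.mk0 (d 1 / d 0) (div_ne_zero (hne 1) (hne 0)))
      (Units.ext (by
        simp only [Units.val_pow_eq_pow_val, Units.val_mk0, Units.val_one, div_pow]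
        rw [div_eq_one_iff_eq (pow_ne_zero 3 (hne 0))]
        linear_combination d 1 * e2 - d 0 * e0))
    have ha' : d 1 = (w : F) ^ a * d 0 := by
      have := congrArg Units.val ha
      simp only [Units.val_mk0, Units.val_pow_eq_pow_val] at this
      rw [← this, div_mul_cancel₀ _ (hne 0)]
    have hd2 : d 2 = (w : F) ^ (2 * a) * d 0 := by
      refine mul_left_cancel₀ (hne 1) ?_
      rw [← e0, ha']
      have h3 : ((w : F) ^ a) ^ 3 = 1 := by
        rw [← pow_mul, mul_comm, pow_mul, (sum_pow c.hw c.hw1).1, one_pow]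
      rw [show (w : F) ^ (2 * a) = ((w : F) ^ a) ^ 2 by rw [← pow_mul, mul_comm]]
      linear_combination (-(d 0 * d 0)) * h3
    rw [c.mem_bR]
    refine ⟨dia (A w) ^ a * (cyc ^ k)⁻¹, mul_mem (pow_mem (dia_A_mem w) a) (inv_mem (pow_mem (cyc_mem w) k)), ?_⟩
    have hmu : (m : GL (Fin 3) F) = (u : GL (Fin 3) F) * ((cyc : GL (Fin 3) F) ^ k)⁻¹ := by
      rw [hu, Subgroup.coe_mul, SubmonoidClass.coe_pow, mul_inv_cancel_right]
    rw [coe_mkX, hmu, map_mul, map_mul, mul_left_inj, eq_comm, pr_eq_pr]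
    refine ⟨d 0, ?_⟩
    rw [hd', ← map_pow, coe_dia, ← Matrix.diagonal_smul]
    congr 1
    funext i
    fin_cases i
    · simp [A]
    · simp [A, ha']; ring
    · simp [A, hd2, ← pow_mul]; ring
  have hcent : ∀ r ∈ c.bR, r ≠ 1 → ∀ x, Commute x r → x ∈ c.bR := by
    intro r hr hr1 x hx
    obtain ⟨g, hg, hgN⟩ := c.isConj_bA hr hr1
    have h1 := hCA (g⁻¹ * x * g) (by
      have h2 := commute_conj g⁻¹ hx
      rw [← hg] at h2
      simpa [mul_assoc] using h2)
    simpa [mul_assoc] using hgN _ h1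
  have hconj3 : ∀ x : PX X, orderOf x = 3 → ∀ r ∈ c.bR, r ≠ 1 → IsConj r x := by
    intro x hx r hr hr1
    obtain ⟨P, hP⟩ := (IsPGroup.of_card (n := 2) (p := 3) (G := c.bR) (by rw [c.card_bR]; rfl)).exists_le_sylow
    obtain ⟨Q, hQ⟩ := (IsPGroup.of_card (n := 1) (p := 3) (G := Subgroup.zpowers x)
      (by rw [Nat.card_zpowers, hx, pow_one])).exists_le_sylow
    obtain ⟨g, hg⟩ := MulAction.exists_smul_eq (PX X) Q P
    have hxP : g * x * g⁻¹ ∈ (P : Subgroup (PX X)) := by
      rw [← hg, Sylow.coe_subgroup_smul]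
      exact Subgroup.smul_mem_pointwise_smul _ (MulAut.conj g) _ (hQ (Subgroup.mem_zpowers x))
    haveI : Nontrivial (P : Subgroup (PX X)) :=
      ⟨⟨⟨_, hP c.bA_mem⟩, 1, fun e => c.bA_ne (congrArg Subtype.val e)⟩⟩
    haveI := P.isPGroup'.center_nontrivial
    obtain ⟨z, hz1⟩ := exists_ne (1 : Subgroup.center (P : Subgroup (PX X)))
    have hzc : ∀ q (hq : q ∈ (P : Subgroup (PX X))), Commute ((z : (P : Subgroup (PX X))) : PX X) q := fun q hq =>
      (congrArg Subtype.val (Subgroup.mem_center_iff.1 z.2 ⟨q, hq⟩)).symm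
    have hz1' : ((z : (P : Subgroup (PX X))) : PX X) ≠ 1 := fun e => hz1 (Subtype.ext (Subtype.ext e))
    have hzR := hCA _ (hzc _ (hP c.bA_mem))
    have hxR := hcent _ hzR hz1' _ (hzc _ hxP).symm
    have hx1 : g * x * g⁻¹ ≠ 1 := fun e => by
      rw [conj_eq_one_iff] at e; rw [e, orderOf_one] at hx; norm_num at hx
    obtain ⟨g₁, hg₁, -⟩ := c.isConj_bA hr hr1
    obtain ⟨g₂, hg₂, -⟩ := c.isConj_bA hxR hx1
    exact ((isConj_iff.2 ⟨g₁, hg₁⟩).symm.trans (isConj_iff.2 ⟨g₂, hg₂⟩)).trans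
      (isConj_iff.2 ⟨g⁻¹, by group⟩)
  have hcop : ¬ p ∣ 4 * n := fun hd => by
    rw [← hcard] at hd
    obtain ⟨y, hy⟩ := exists_prime_orderOf_dvd_card' p hd
    have h1 : orderOf (π y) = 1 := by
      rcases (Nat.dvd_prime c.prime).1 (hy ▸ orderOf_map_dvd π y) with e | e
      · exact e
      · exact absurd (e ▸ orderOf_dvd_natCard (π y)) hpM
    have h2 : orderOf y ∣ 2 := orderOf_dvd_of_pow_eq_one (Subtype.ext (by
      rw [SubmonoidClass.coe_pow, Subgroup.coe_one, pow_two]
      rcases (cov.ker y).1 (orderOf_eq_one_iff.1 h1) with e | e <;> rw [e]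
      · rw [one_mul]
      · exact c.bh_sq))
    rw [hy] at h2
    exact c.p_ne_two ((Nat.prime_dvd_prime_iff_eq c.prime Nat.prime_two).1 h2)
  have hpcent : ∀ x b : PX X, b ^ p = 1 → b ≠ 1 → Commute x b → x ^ p = 1 := by
    intro x b hb hb1 hxb
    obtain ⟨gx, rfl⟩ := mkX_surjective x
    obtain ⟨gb, rfl⟩ := mkX_surjective b
    obtain ⟨z, hz⟩ := pr_eq_one.1 (show pr ((gb : GL (Fin 3) F) ^ p) = 1 by
      rw [map_pow]; exact congrArg Subtype.val hb)
    have hz3 : z ^ 3 = 1 := by
      have h := congrArg Matrix.det hz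
      rw [Units.val_pow_eq_pow_val, Matrix.det_pow, c.det gb gb.2, Matrix.det_smul, Matrix.det_one, Fintype.card_fin,
        one_pow] at h
      simpa using h.symm
    obtain ⟨N, hN⟩ : ∃ N : M₃, N = ((gb : GL (Fin 3) F) : M₃) - z • 1 := ⟨_, rfl⟩
    have hzp : z ^ p = z := by rw [← c.card, FiniteField.pow_card]
    have hNp : N ^ p = 0 := by
      rw [hN, sub_pow_char_of_commute p ((Commute.one_right _).smul_right _), smul_pow, one_pow, hzp,
        ← Units.val_pow_eq_pow_val, hz, sub_self]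
    have hz0 : z ≠ 0 := fun e => by rw [e] at hz3; simp at hz3
    have hN0 : N ≠ 0 := fun e => hb1 (Subtype.ext (by
      rw [coe_mkX, Subgroup.coe_one, pr_eq_one]
      exact ⟨z, sub_eq_zero.1 (hN ▸ e)⟩))
    have hNN : N * N ≠ 0 := fun hsq => by
      -- a power would be a transvection
      have hpow : ∀ k : ℕ, ((gb : GL (Fin 3) F) : M₃) ^ (k + 1) = z ^ (k + 1) • 1 + ((k + 1 : ℕ) * z ^ k : F) • N := by
        intro k
        have e : ((gb : GL (Fin 3) F) : M₃) = z • 1 + N := by rw [hN, add_sub_cancel]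
        induction k with
        | zero => simpa using e
        | succ k ih =>
          rw [pow_succ, ih, e]
          simp only [add_mul, mul_add, Matrix.smul_mul, Matrix.mul_smul, one_mul, mul_one, hsq, smul_zero, add_zero,
            smul_smul]
          push_cast
          module
      have hp2 : p - 1 = p - 2 + 1 := by have := c.prime.two_le; omega
      obtain ⟨t, ht⟩ : ∃ t : F, ((gb : GL (Fin 3) F) : M₃) ^ (p - 1) = 1 + t • N ∧ t ≠ 0 := by
        refine ⟨-(z ^ (p - 2)), ?_, neg_ne_zero.2 (pow_ne_zero _ hz0)⟩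
        rw [hp2, hpow, ← hp2, Nat.cast_sub c.prime.one_le, Nat.cast_one, CharP.cast_eq_zero, zero_sub, neg_one_mul,
          show p - 1 = Fintype.card F - 1 by rw [c.card], FiniteField.pow_card_sub_one_eq_one _ hz0, one_smul]
      obtain ⟨v, φ, hvφ, hform⟩ := exists_rankOne_of_sq (N := t • N)
        (by rw [Matrix.smul_mul, Matrix.mul_smul, hsq, smul_zero, smul_zero])
      have hne : t • N ≠ 0 := smul_ne_zero ht.2 hN0
      refine c.noTv v φ (fun e => hne (Matrix.ext_iff_mulVec.2 fun y => by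
          rw [hform, e, smul_zero, Matrix.zero_mulVec]))
        (fun e => hne (Matrix.ext_iff_mulVec.2 fun y => by
          rw [hform, e, zero_dotProduct, zero_smul, Matrix.zero_mulVec]))
        hvφ ⟨(gb : GL (Fin 3) F) ^ (p - 1), pow_mem gb.2 _, fun y => ?_⟩
      rw [Units.val_pow_eq_pow_val, ht.1, Matrix.add_mulVec, Matrix.one_mulVec, hform]
    have htr : ((gb : GL (Fin 3) F) : M₃).trace ≠ 0 := by
      have ht : N.trace = 0 := isNilpotent_iff_eq_zero.1 (Matrix.isNilpotent_trace_of_isNilpotent ⟨p, hNp⟩)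
      rw [hN, Matrix.trace_sub, Matrix.trace_smul, Matrix.trace_one, Fintype.card_fin, sub_eq_zero] at ht
      rw [ht, smul_eq_mul]
      exact mul_ne_zero hz0 (by exact_mod_cast c.three_ne)
    obtain ⟨ζ, hζ⟩ := commute_pr.1 (hxb.map (PX X).subtype : Commute (pr (gx : GL (Fin 3) F)) (pr (gb : GL (Fin 3) F)))
    have hxN : Commute ((gx : GL (Fin 3) F) : M₃) N := by
      have h1 := congrArg Units.val (commute_of_trace hζ htr)
      rw [Units.val_mul, Units.val_mul] at h1
      rw [hN]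
      exact (show Commute _ _ from h1).sub_right ((Commute.one_right _).smul_right _)
    obtain ⟨a, ha⟩ := pow_scalar_of_unipotent c.card c.two_ne hNp hNN hxN
    refine Subtype.ext ?_
    rw [SubmonoidClass.coe_pow, coe_mkX, ← map_pow, Subgroup.coe_one, pr_eq_one]
    exact ⟨a, by rw [Units.val_pow_eq_pow_val, ha]⟩
  -- the configuration
  refine (show Config (PX X) c.bh n p c.bR from ?_).false_of
  refine ⟨(hinv2 _).2 ⟨c.bh_sq, c.bh_ne⟩, fun x hx => hconj x ((hinv2 x).1 hx).1 ((hinv2 x).1 hx).2, hcard, h4, h3n,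
    ?_, fun v x hv => htwo v x ((hinv2 v).1 hv).1 ((hinv2 v).1 hv).2, ?_, c.card_bR, fun r hr => c.bR_cube hr,
    fun r hr => c.bR_inv hr, hcent, hconj3, c.prime, c.dvd, hcop, hpcent, ?_⟩
  · rw [← hS]
    exact Nat.card_congr (Equiv.subtypeEquivRight fun v => by rw [hinv2])
  · intro x v hxh hxx hv hxv
    obtain ⟨hv2, hv1⟩ := (hinv2 v).1 hv
    have hvh := hown x v hxh hxx hv2 hxv
    by_contra hne
    rcases htwo v x hv2 hv1 hne hvh hxh hxv with e | e | e | e
    · exact hxx (by rw [e, one_mul])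
    · exact hxx (by rw [e, c.bh_sq])
    · exact hxx (by rw [e, hv2])
    · refine hxx ?_
      rw [e, mul_assoc, ← mul_assoc v, hvh.eq, mul_assoc c.bh, hv2, mul_one, c.bh_sq]
  · intro x hfx hx3 hxp hix
    obtain ⟨g₀, rfl⟩ := mkX_surjective x
    -- an exact inversion
    have hpr0 : pr (negSwap * (g₀ : GL (Fin 3) F) * negSwap) = pr ((g₀ : GL (Fin 3) F)⁻¹) := by
      have := congrArg Subtype.val hix
      rw [Subgroup.coe_mul, Subgroup.coe_mul, Subgroup.coe_inv, c.coe_bh, coe_mkX] at this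
      rw [map_mul, map_mul, map_inv]
      exact this
    obtain ⟨z, hz⟩ := pr_eq_pr.1 hpr0
    have hz3 : z ^ 3 = 1 := by
      have h := congrArg Matrix.det hz
      rw [Units.val_mul, Units.val_mul, Matrix.det_mul, Matrix.det_mul, det_negSwap, c.det _ g₀.2, Matrix.det_smul,
        c.det _ (inv_mem g₀.2), Fintype.card_fin] at h
      simpa using h.symm
    have hz0 : z ≠ 0 := fun e => by rw [e] at hz3; simp at hz3
    let s : GL (Fin 3) F := dia fun _ => Units.mk0 z hz0
    have hs : (s : M₃) = z • 1 := by simp [s, coe_dia, Matrix.smul_one_eq_diagonal]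
    obtain ⟨g, hgdef⟩ : ∃ g : X, g = (⟨s, c.sc_mem hs hz3⟩ : X) * g₀ := ⟨_, rfl⟩
    have hgx : mkX X g = mkX X g₀ := Subtype.ext (by
      rw [coe_mkX, coe_mkX, hgdef, Subgroup.coe_mul, map_mul, pr_eq_one.2 ⟨z, hs⟩, one_mul])
    rw [← hgx] at hfx hx3 hxp hix ⊢
    have hinvg : (negSwap : GL (Fin 3) F) * (g : GL (Fin 3) F) * negSwap = (g : GL (Fin 3) F)⁻¹ := by
      refine eq_inv_of_mul_eq_one_left (Units.ext ?_)
      have h4 : (((g₀ : GL (Fin 3) F)⁻¹ : GL (Fin 3) F) : M₃) * ((g₀ : GL (Fin 3) F) : M₃) = 1 := Units.inv_mul _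
      rw [hgdef, Subgroup.coe_mul]
      rw [Units.val_mul, Units.val_mul] at hz
      simp only [Units.val_mul, hs, Matrix.smul_mul, Matrix.mul_smul, one_mul, smul_smul, Units.val_one, hz, h4]
      rw [show z * (z * z) = 1 by linear_combination hz3, one_smul]
    obtain ⟨G₁, hG₁⟩ : ∃ G₁ : M₃, G₁ = ((g : GL (Fin 3) F) : M₃) := ⟨_, rfl⟩
    have hfree' : ¬ Commute (mkX X g) c.bh := hfx _ ((hinv2 _).2 ⟨c.bh_sq, c.bh_ne⟩)
    have hp' : ∀ k : ℕ, ∀ a : F, G₁ ^ k = a • 1 → mkX X g ^ k = 1 := fun k a e => Subtype.ext (by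
      rw [SubmonoidClass.coe_pow, coe_mkX, ← map_pow, Subgroup.coe_one, pr_eq_one]
      exact ⟨a, by rw [Units.val_pow_eq_pow_val, ← hG₁, e]⟩)
    -- members of the algebra of a quadratic element commute with the involution
    have halg : ∀ (y : GL (Fin 3) F) (μ ν : F), μ ≠ ν → ((y : M₃) - μ • 1) * ((y : M₃) - ν • 1) = 0 →
        negSwap * y * negSwap = y⁻¹ → (∀ a : F, (y : M₃) ≠ a • 1) → Commute (negSwap : GL (Fin 3) F) y := by
      intro y μ ν hne hq hy hns
      have hμν : μ * ν ≠ 0 := fun e => by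
        have h1 : (y : M₃) * ((y : M₃) - (μ + ν) • 1) = 0 := by
          simp only [sub_mul, mul_sub, Matrix.smul_mul, Matrix.mul_smul, one_mul, mul_one, smul_smul] at hq ⊢
          linear_combination (norm := skip) hq
          match_scalars <;> first | ring1 | linear_combination e | linear_combination -e
        have h2 := congrArg (fun m => ((y⁻¹ : GL (Fin 3) F) : M₃) * m) h1
        simp only [← mul_assoc, Units.inv_mul, one_mul, mul_zero] at h2
        exact hns _ (sub_eq_zero.1 h2)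
      have hinvy : ((y⁻¹ : GL (Fin 3) F) : M₃) = ((μ + ν) / (μ * ν)) • 1 + (-(μ * ν)⁻¹) • (y : M₃) := by
        have h1 : (y : M₃) * (((μ + ν) / (μ * ν)) • 1 + (-(μ * ν)⁻¹) • (y : M₃)) = 1 := by
          simp only [sub_mul, mul_sub, Matrix.smul_mul, Matrix.mul_smul, one_mul, mul_one, smul_smul] at hq
          rw [mul_add, Matrix.mul_smul, Matrix.mul_smul, mul_one]
          obtain ⟨hμ0, hν0⟩ := mul_ne_zero_iff.1 hμν
          linear_combination (norm := skip) (-(μ * ν)⁻¹) • hq
          match_scalars <;> field_simp <;> ring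
        exact (left_inv_eq_right_inv (Units.inv_mul y) h1)
      have h1 := commute_of_algebra c.two_ne hne hq (a := negSwap) (α := (μ + ν) / (μ * ν)) (β := -(μ * ν)⁻¹) (by
        rw [← hinvy, inv_eq_of_mul_eq_one_right negSwap_mul_self, ← Units.val_mul, ← Units.val_mul, hy])
      exact Units.ext h1.eq
    have hcm : CommCent G₁ := by
      refine (quad_or_commCent c.two_ne G₁).resolve_left ?_
      rintro ⟨μ, ν, hq⟩
      rcases eq_or_ne μ ν with rfl | hne
      · refine hxp (hp' p μ ?_)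
        have h0 : (G₁ - μ • 1) ^ p = 0 := by
          rw [show p = 2 + (p - 2) by have := c.prime.two_le; omega, pow_add, pow_two, hq, zero_mul]
        rw [sub_pow_char_of_commute p ((Commute.one_right _).smul_right _), sub_eq_zero, smul_pow, one_pow,
          show μ ^ p = μ by rw [← c.card, FiniteField.pow_card]] at h0
        exact h0
      · refine hfree' (Subtype.ext ?_)
        show pr (g : GL (Fin 3) F) * pr negSwap = pr negSwap * pr (g : GL (Fin 3) F)
        rw [← map_mul, ← map_mul, (halg _ μ ν hne (hG₁ ▸ hq) hinvg fun a e => hx3 (by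
          rw [show mkX X g = 1 from Subtype.ext (by rw [coe_mkX, Subgroup.coe_one, pr_eq_one]; exact ⟨a, e⟩),
            one_pow])).eq]
    have hexact : ∀ a : X, Commute (mkX X a) (mkX X g) → (a : GL (Fin 3) F) * g = g * a := by
      intro a ha
      obtain ⟨ζ, hζ⟩ := commute_pr.1 (ha.map (PX X).subtype : Commute (pr (a : GL (Fin 3) F)) (pr (g : GL (Fin 3) F)))
      by_cases h1 : ζ = 1
      · rw [h1, one_smul] at hζ; exact Units.ext hζ
      · refine absurd (hp' 3 G₁.det ?_) hx3
        rw [pow_succ, pow_two]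
        exact cube_scalar c.two_ne (cube_of_comm hζ) h1 (hG₁ ▸ hζ)
    have hcomG : ∀ a : X, Commute (mkX X a) (mkX X g) → Commute ((a : GL (Fin 3) F) : M₃) G₁ := fun a ha => by
      rw [hG₁]
      show _ = _
      rw [← Units.val_mul, ← Units.val_mul, hexact a ha]
    refine ⟨fun a b ha hb => ?_, ?_⟩
    · obtain ⟨a, rfl⟩ := mkX_surjective a
      obtain ⟨b, rfl⟩ := mkX_surjective b
      have h1 := hcm _ _ (hcomG a ha) (hcomG b hb)
      refine (show Commute a b from Subtype.ext (Units.ext ?_)).map (mkX X)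
      exact h1.eq
    -- three eigenlines
    rcases split_or_repeated (g : GL (Fin 3) F) with ⟨E, _, f, P, r, hr, hP⟩ | ⟨μ, ν, hrep⟩
    swap
    · exfalso
      rw [← hG₁] at hrep
      obtain ⟨y, hy⟩ : ∃ y : GL (Fin 3) F, y = (g : GL (Fin 3) F) ^ p := ⟨_, rfl⟩
      have hyq : ((y : M₃) - μ • 1) * ((y : M₃) - ν • 1) = 0 := by
        have e : ∀ t : F, (y : M₃) - t • 1 = (G₁ - t • 1) ^ p := fun t => by
          rw [sub_pow_char_of_commute p ((Commute.one_right _).smul_right _), smul_pow, one_pow,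
            show t ^ p = t by rw [← c.card, FiniteField.pow_card], hy, Units.val_pow_eq_pow_val, hG₁]
        rw [e, e]
        obtain ⟨q, hq⟩ : ∃ q, p = q + 2 := ⟨p - 2, by have := c.prime.two_le; omega⟩
        have hcq : Commute (G₁ - μ • 1) (G₁ - ν • 1) :=
          ((Commute.refl _).sub_right ((Commute.one_right _).smul_right _)).sub_left
            ((Commute.one_left _).smul_left _)
        calc (G₁ - μ • 1) ^ p * (G₁ - ν • 1) ^ p
            = (G₁ - μ • 1) ^ q * ((G₁ - μ • 1) * (G₁ - μ • 1) * (G₁ - ν • 1)) * (G₁ - ν • 1) ^ (q + 1) := by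
              rw [hq, pow_add, pow_two, show q + 2 = 1 + (q + 1) by omega, pow_add, pow_one]
              simp only [mul_assoc]
          _ = 0 := by rw [hrep, mul_zero, zero_mul]
      have hyinv : negSwap * y * negSwap = y⁻¹ := by
        have h1 := (conj_pow (a := (negSwap : GL (Fin 3) F)) (b := (g : GL (Fin 3) F)) (i := p)).symm
        rw [inv_eq_of_mul_eq_one_right negSwap_mul_self, hinvg, inv_pow] at h1
        rw [hy]
        exact h1
      rcases eq_or_ne μ ν with rfl | hne
      · have h0 : ((y : M₃) - μ • 1) ^ p = 0 := by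
          rw [show p = 2 + (p - 2) by have := c.prime.two_le; omega, pow_add, pow_two, hyq, zero_mul]
        rw [sub_pow_char_of_commute p ((Commute.one_right _).smul_right _), sub_eq_zero, smul_pow, one_pow,
          hy, Units.val_pow_eq_pow_val, ← pow_mul, ← hG₁] at h0
        exact hxp (hpcent _ (mkX X g ^ p) (by rw [← pow_mul]; exact hp' _ _ h0) hxp
          (Commute.pow_right (Commute.refl _) p))
      · have hy1 : ∀ a : F, (y : M₃) ≠ a • 1 := fun a e => hxp (hp' p a (by
          rw [hG₁, ← Units.val_pow_eq_pow_val, ← hy, e]))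
        have h1 := halg y μ ν hne hyq hyinv hy1
        have hyy : y * y = 1 := by
          rw [h1.eq, mul_assoc, negSwap_mul_self, mul_one] at hyinv
          conv_lhs => arg 1; rw [hyinv]
          exact inv_mul_cancel y
        refine hfx (mkX X g ^ p) ((hinv2 _).2 ⟨Subtype.ext ?_, hxp⟩) (Commute.pow_right (Commute.refl _) p)
        rw [Subgroup.coe_mul, SubmonoidClass.coe_pow, coe_mkX, ← map_pow, ← hy, ← map_mul, hyy, map_one,
          Subgroup.coe_one]
    · obtain ⟨Nn, hNn⟩ : ∃ Nn, Nn = Subgroup.normalizer (Subgroup.centralizer {mkX X g} : Set (PX X)) := ⟨_, rfl⟩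
      rw [← hNn]
      obtain ⟨H, hH⟩ : ∃ H : Subgroup (GL (Fin 3) F), H = (Nn.comap (mkX X)).map X.subtype := ⟨_, rfl⟩
      have hHc : ∀ k ∈ H, Commute (k * (g : GL (Fin 3) F) * k⁻¹) (g : GL (Fin 3) F) := by
        rw [hH]
        rintro _ ⟨k, hk, rfl⟩
        rw [hNn] at hk
        have h1 : mkX X (k * g * k⁻¹) ∈ Subgroup.centralizer {mkX X g} := by
          rw [map_mul, map_mul, map_inv]
          exact ((Subgroup.mem_normalizer_iff.1 hk) _).1 (Subgroup.mem_centralizer_singleton_iff.2 rfl)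
        exact hexact _ (Subgroup.mem_centralizer_singleton_iff.1 h1)
      obtain ⟨φ, hφ⟩ := exists_perm_hom f hr hP H hHc
      choose K hK using fun k : Nn => mkX_surjective (k : PX X)
      have hKH : ∀ k, (K k : GL (Fin 3) F) ∈ H := fun k => by
        rw [hH]
        exact ⟨K k, show mkX X (K k) ∈ Nn by rw [hK]; exact k.2, rfl⟩
      refine ⟨MonoidHom.mk' (fun k => φ ⟨K k, hKH k⟩) fun a b => ?_, fun k => ?_⟩
      · rw [← map_mul, ← mul_inv_eq_one, ← map_inv, ← map_mul, hφ]
        have h1 : mkX X (K (a * b) * (K a * K b)⁻¹) = 1 := by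
          rw [map_mul, map_inv, map_mul, hK, hK, hK, ← Subgroup.coe_mul, mul_inv_cancel]
        exact hexact _ (by rw [h1]; exact Commute.one_left _)
      · rw [MonoidHom.mk'_apply, hφ]
        constructor
        · intro h1
          rw [← hK k]
          exact (show Commute (K k) g from Subtype.ext h1.eq).map (mkX X)
        · intro h1
          exact hexact (K k) (by rw [hK]; exact h1)

end Std

end Cfsg.Agent.Classical.SLThree.Hessian
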