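import Cfsg.Agent.Lib.Classical.SLThree.HessianBlock

/-!
The standard group of order 27: the quaternion group above it, its image in `PGL(3)`, and the homologies at its
involution.
-/

set_option autoImplicit false
set_option linter.unusedSectionVars false

namespace Cfsg.Agent.Classical.SLThree.Hessian

open Matrix MaxTv HeisenbergThree

universe u

variable {F : Type u} [Field F]

local notation "M₃" => Matrix (Fin 3) (Fin 3) F

/-- The image in `PGL(3)`. -/
abbrev pr : GL (Fin 3) F →* Matrix.ProjGenLinGroup (Fin 3) F := Matrix.ProjGenLinGroup.mk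

theorem pr_eq_one {g : GL (Fin 3) F} : pr g = 1 ↔ Sc g := by
  rw [Matrix.ProjGenLinGroup.mk_eq_one, Matrix.GeneralLinearGroup.center_eq_range_scalar]
  constructor
  · rintro ⟨u, rfl⟩
    exact ⟨u, by simp [Matrix.GeneralLinearGroup.scalar, ← Matrix.smul_one_eq_diagonal]⟩
  · rintro ⟨l, hl⟩
    have hl0 : l ≠ 0 := fun e => g.det_ne_zero (by rw [hl, e]; simp)
    exact ⟨Units.mk0 l hl0, Units.ext (by
      rw [hl]; simp [Matrix.GeneralLinearGroup.scalar, ← Matrix.smul_one_eq_diagonal])⟩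

theorem pr_eq_pr {a b : GL (Fin 3) F} : pr a = pr b ↔ ∃ z : F, (a : M₃) = z • (b : M₃) := by
  rw [← mul_inv_eq_one (b := pr b), ← map_inv, ← map_mul, pr_eq_one]
  constructor
  · rintro ⟨z, hz⟩
    refine ⟨z, ?_⟩
    have := congrArg (fun m => m * (b : M₃)) hz
    simpa [mul_assoc] using this
  · rintro ⟨z, hz⟩
    refine ⟨z, ?_⟩
    rw [Units.val_mul, hz, Matrix.smul_mul, Units.mul_inv]

theorem commute_pr {a b : GL (Fin 3) F} :
    Commute (pr a) (pr b) ↔ ∃ z : F, (a : M₃) * b = z • ((b : M₃) * a) := by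
  rw [commute_iff_eq, ← map_mul, ← map_mul, pr_eq_pr]
  simp only [Units.val_mul]

/-- The scalar in a projective commutation is a cube root of unity. -/
theorem cube_of_comm {a b : GL (Fin 3) F} {z : F} (h : (a : M₃) * b = z • ((b : M₃) * a)) : z ^ 3 = 1 := by
  have h1 := congrArg Matrix.det h
  rw [Matrix.det_smul, Fintype.card_fin, Matrix.det_mul, Matrix.det_mul, mul_comm (b : M₃).det] at h1
  exact mul_right_cancel₀ (mul_ne_zero a.det_ne_zero b.det_ne_zero) (by rw [one_mul]; exact h1.symm)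

theorem commute_of_trace {a b : GL (Fin 3) F} {z : F} (h : (a : M₃) * b = z • ((b : M₃) * a))
    (ht : (b : M₃).trace ≠ 0) : a * b = b * a := by
  have e : (a : M₃) * b * ((a⁻¹ : GL (Fin 3) F) : M₃) = z • (b : M₃) := by
    rw [h, Matrix.smul_mul, mul_assoc, Units.mul_inv, mul_one]
  have h1 := congrArg Matrix.trace e
  rw [Matrix.trace_units_conj, Matrix.trace_smul, smul_eq_mul] at h1
  have hz : z = 1 := mul_right_cancel₀ ht (by rw [one_mul]; exact h1.symm)
  rw [hz, one_smul] at h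
  exact Units.ext (by rw [Units.val_mul, Units.val_mul, h])

variable {w : Fˣ}

theorem sum_pow (hw : w ^ 3 = 1) (hw1 : w ≠ 1) : (w : F) ^ 3 = 1 ∧ 1 + (w : F) + (w : F) ^ 2 = 0 := by
  have h3 : (w : F) ^ 3 = 1 := by rw [← Units.val_pow_eq_pow_val, hw, Units.val_one]
  exact ⟨h3, (mul_eq_zero.1 (show ((w : F) - 1) * (1 + (w : F) + (w : F) ^ 2) = 0 by
    linear_combination h3)).resolve_left (sub_ne_zero.2 fun e => hw1 (Units.ext e))⟩

theorem coe_negSwap : ((negSwap : GL (Fin 3) F) : M₃) = !![-1, 0, 0; 0, 0, -1; 0, -1, 0] := rfl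

theorem negSwap_mul_self : (negSwap : GL (Fin 3) F) * negSwap = 1 := Units.ext negSwap.val_inv

theorem det_negSwap : ((negSwap : GL (Fin 3) F) : M₃).det = 1 := by
  simp [coe_negSwap, Matrix.det_fin_three]

theorem trace_negSwap : ((negSwap : GL (Fin 3) F) : M₃).trace = -1 := by
  simp [coe_negSwap, Matrix.trace_fin_three]

theorem fourier_mul (hw : w ^ 3 = 1) (hw1 : w ≠ 1) :
    !![1, 1, 1; 1, (w : F), (w : F) ^ 2; 1, (w : F) ^ 2, (w : F)] *
        !![-1, -1, -1; -1, -(w : F) ^ 2, -(w : F); -1, -(w : F), -(w : F) ^ 2] =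
      ((w : F) - (w : F) ^ 2) ^ 2 • (1 : M₃) ∧
    !![-1, -1, -1; -1, -(w : F) ^ 2, -(w : F); -1, -(w : F), -(w : F) ^ 2] *
        !![1, 1, 1; 1, (w : F), (w : F) ^ 2; 1, (w : F) ^ 2, (w : F)] =
      ((w : F) - (w : F) ^ 2) ^ 2 • (1 : M₃) := by
  obtain ⟨h3, hs⟩ := sum_pow hw hw1
  constructor <;> ext i j <;> fin_cases i <;> fin_cases j <;> simp [Matrix.mul_apply, Fin.sum_univ_three] <;>
    (obtain ⟨a, ha⟩ : ∃ a, a = (w : F) := ⟨_, rfl⟩
     rw [← ha] at h3 hs ⊢
     grind)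

theorem delta_ne (hw1 : w ≠ 1) : (w : F) - (w : F) ^ 2 ≠ 0 := fun e => hw1 (Units.ext (by
  have h0 : (w : F) * (1 - (w : F)) = 0 := by linear_combination e
  rw [mul_eq_zero, or_iff_right w.ne_zero, sub_eq_zero] at h0
  exact h0.symm))

/-- The Fourier element. -/
def four (hw : w ^ 3 = 1) (hw1 : w ≠ 1) : GL (Fin 3) F where
  val := ((w : F) - (w : F) ^ 2)⁻¹ • !![1, 1, 1; 1, (w : F), (w : F) ^ 2; 1, (w : F) ^ 2, (w : F)]
  inv := ((w : F) - (w : F) ^ 2)⁻¹ • !![-1, -1, -1; -1, -(w : F) ^ 2, -(w : F); -1, -(w : F), -(w : F) ^ 2]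
  val_inv := by
    rw [Matrix.smul_mul, Matrix.mul_smul, smul_smul, (fourier_mul hw hw1).1, smul_smul, ← pow_two, inv_pow,
      inv_mul_cancel₀ (pow_ne_zero 2 (delta_ne hw1)), one_smul]
  inv_val := by
    rw [Matrix.smul_mul, Matrix.mul_smul, smul_smul, (fourier_mul hw hw1).2, smul_smul, ← pow_two, inv_pow,
      inv_mul_cancel₀ (pow_ne_zero 2 (delta_ne hw1)), one_smul]

/-- The diagonal element carrying the Fourier element to the third one. -/
def dd (w : Fˣ) : GL (Fin 3) F := dia ![1, w, w]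

/-- The second quaternion generator. -/
def four' (hw : w ^ 3 = 1) (hw1 : w ≠ 1) : GL (Fin 3) F := dd w * four hw hw1 * (dd w)⁻¹

section Quaternion

variable (hw : w ^ 3 = 1) (hw1 : w ≠ 1)
include hw hw1

theorem delta : ((w : F) - (w : F) ^ 2) ^ 2 = -3 ∧ (w : F) - (w : F) ^ 2 ≠ 0 := by
  obtain ⟨h3, hs⟩ := sum_pow hw hw1
  refine ⟨by linear_combination ((w : F) - 2) * h3 + hs, fun e => hw1 (Units.ext ?_)⟩
  have h0 : (w : F) * (1 - (w : F)) = 0 := by linear_combination e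
  rw [mul_eq_zero, or_iff_right w.ne_zero, sub_eq_zero] at h0
  exact h0.symm

theorem four_inv : (four hw hw1)⁻¹ = four hw hw1 * negSwap := by
  refine Units.ext ?_
  show ((w : F) - (w : F) ^ 2)⁻¹ • !![-1, -1, -1; -1, -(w : F) ^ 2, -(w : F); -1, -(w : F), -(w : F) ^ 2] = _
  rw [Units.val_mul, coe_negSwap, four, Matrix.smul_mul]
  congr 1
  ext i j
  fin_cases i <;> fin_cases j <;> simp [Matrix.mul_apply, Fin.sum_univ_three]

theorem four_sq : four hw hw1 * four hw hw1 = negSwap := by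
  have h1 : four hw hw1 * (four hw hw1 * negSwap) = 1 := by rw [← four_inv, mul_inv_cancel]
  rw [← mul_assoc] at h1
  rw [eq_inv_of_mul_eq_one_left h1, inv_eq_of_mul_eq_one_right negSwap_mul_self]

theorem det_four : ((four hw hw1 : GL (Fin 3) F) : M₃).det = 1 := by
  obtain ⟨h3, hs⟩ := sum_pow hw hw1
  obtain ⟨hd, hd0⟩ := delta hw hw1
  have hM : Matrix.det !![1, 1, 1; 1, (w : F), (w : F) ^ 2; 1, (w : F) ^ 2, (w : F)] = ((w : F) - (w : F) ^ 2) ^ 3 := by
    rw [show ((w : F) - (w : F) ^ 2) ^ 3 = ((w : F) - (w : F) ^ 2) ^ 2 * ((w : F) - (w : F) ^ 2) by ring, hd,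
      Matrix.det_fin_three]
    simp
    linear_combination (-(w : F)) * h3
  rw [four, Matrix.det_smul, Fintype.card_fin, hM, inv_pow, inv_mul_cancel₀ (pow_ne_zero 3 hd0)]

theorem dd_comm : dd w * negSwap = negSwap * dd w := by
  refine Units.ext ?_
  rw [Units.val_mul, Units.val_mul, dd, coe_dia, coe_negSwap]
  ext i j
  fin_cases i <;> fin_cases j <;> simp [Matrix.mul_apply, Fin.sum_univ_three]

theorem four'_sq : four' hw hw1 * four' hw hw1 = negSwap := by
  rw [four', show dd w * four hw hw1 * (dd w)⁻¹ * (dd w * four hw hw1 * (dd w)⁻¹) =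
    dd w * (four hw hw1 * four hw hw1) * (dd w)⁻¹ by group, four_sq, dd_comm hw hw1, mul_inv_cancel_right]

theorem det_four' : ((four' hw hw1 : GL (Fin 3) F) : M₃).det = 1 := by
  rw [four', Units.val_mul, Units.val_mul, Matrix.det_units_conj, det_four]

theorem four_conj_A : four hw hw1 * dia (A w) * (four hw hw1)⁻¹ = (cyc : GL (Fin 3) F)⁻¹ := by
  obtain ⟨h3, hs⟩ := sum_pow hw hw1
  rw [mul_inv_eq_iff_eq_mul]
  refine Units.ext ?_
  rw [Units.val_mul, Units.val_mul, coe_dia]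
  show _ = !![0, 1, 0; 0, 0, 1; 1, 0, 0] * _
  rw [four, Matrix.smul_mul, Matrix.mul_smul]
  congr 1
  ext i j
  fin_cases i <;> fin_cases j <;> simp [Matrix.mul_apply, Matrix.vecMul_diagonal, Fin.sum_univ_three, A] <;>
    (first
      | ring1
      | (obtain ⟨a, ha⟩ : ∃ a, a = (w : F) := ⟨_, rfl⟩
         rw [← ha] at h3 ⊢
         grind))

theorem four_conj_cyc : four hw hw1 * cyc * (four hw hw1)⁻¹ = dia (A w) := by
  obtain ⟨h3, hs⟩ := sum_pow hw hw1
  rw [mul_inv_eq_iff_eq_mul]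
  refine Units.ext ?_
  rw [Units.val_mul, Units.val_mul, coe_dia, coe_cyc, four, Matrix.smul_mul, Matrix.mul_smul]
  congr 1
  ext i j
  fin_cases i <;> fin_cases j <;> simp [Matrix.mul_apply, Matrix.vecMul_diagonal, Fin.sum_univ_three, A] <;>
    (first
      | ring1
      | (obtain ⟨a, ha⟩ : ∃ a, a = (w : F) := ⟨_, rfl⟩
         rw [← ha] at h3 ⊢
         grind))

theorem four'_mul_four : four' hw hw1 * four hw hw1 = negSwap * four hw hw1 * four' hw hw1 := by
  obtain ⟨h3, hs⟩ := sum_pow hw hw1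
  have key : dd w * four hw hw1 * (dd w)⁻¹ * four hw hw1 =
      negSwap * four hw hw1 * (dd w * four hw hw1 * (dd w)⁻¹) := by
    refine Units.ext ?_
    rw [dd, ← map_inv]
    simp only [Units.val_mul, coe_dia, coe_negSwap]
    rw [four]
    simp only [Matrix.smul_mul, Matrix.mul_smul, smul_smul]
    congr 1
    ext i j
    fin_cases i <;> fin_cases j <;>
      simp [Matrix.mul_apply, Matrix.vecMul_diagonal, Fin.sum_univ_three, Matrix.diagonal] <;> field_simp <;>
      (obtain ⟨a, ha⟩ : ∃ a, a = (w : F) := ⟨_, rfl⟩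
       rw [← ha] at h3 hs ⊢
       grind)
  exact key

theorem four_mem_normalizer [Finite F] : four hw hw1 ∈ Subgroup.normalizer (std w : Set (GL (Fin 3) F)) := by
  refine mem_normalizer_of_gen (S := {dia (A w), cyc}) rfl ?_
  rintro s (rfl | rfl)
  · rw [four_conj_A]; exact inv_mem (cyc_mem w)
  · rw [four_conj_cyc]; exact dia_A_mem w

theorem four'_mem_normalizer [Finite F] : four' hw hw1 ∈ Subgroup.normalizer (std w : Set (GL (Fin 3) F)) := by
  have hd : dd w ∈ Subgroup.normalizer (std w : Set (GL (Fin 3) F)) :=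
    dia_mem_normalizer hw hw1 (z := 1) fun i => by fin_cases i <;> simp [hw]
  exact mul_mem (mul_mem hd (four_mem_normalizer hw hw1)) (inv_mem hd)

end Quaternion

section Bar

variable (hw : w ^ 3 = 1) (hw1 : w ≠ 1)
include hw hw1

theorem pr_cyc_mul : pr (cyc : GL (Fin 3) F) * pr (dia (A w)) = pr (dia (A w)) * pr cyc := by
  obtain ⟨h3, -⟩ := sum_pow hw hw1
  rw [← map_mul, ← map_mul, cyc_mul_dia, pr_eq_pr]
  refine ⟨(w : F) ^ 2, ?_⟩
  rw [Units.val_mul, Units.val_mul, ← Matrix.smul_mul]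
  congr 1
  rw [coe_dia, coe_dia, ← Matrix.diagonal_smul]
  congr 1
  funext i
  fin_cases i <;> simp [prev, A]
  · linear_combination -h3
  · linear_combination (-(w : F)) * h3

theorem pr_pow_three : pr (dia (A w) : GL (Fin 3) F) ^ 3 = 1 ∧ pr (cyc : GL (Fin 3) F) ^ 3 = 1 := by
  obtain ⟨h3, -⟩ := sum_pow hw hw1
  refine ⟨?_, ?_⟩
  · rw [← map_pow, ← map_pow, show A w ^ 3 = 1 from ?_, map_one, map_one]
    funext i
    rw [Pi.pow_apply, A, ← pow_mul, mul_comm, pow_mul, hw, one_pow, Pi.one_apply]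
  · rw [← map_pow, show (cyc : GL (Fin 3) F) ^ 3 = 1 from ?_, map_one]
    refine Units.ext ?_
    rw [Units.val_pow_eq_pow_val, coe_cyc, Units.val_one, _root_.pow_three]
    ext i j
    fin_cases i <;> fin_cases j <;> simp [Matrix.mul_apply, Fin.sum_univ_three]

/-- The elements of the image of the standard group. -/
theorem exists_form {g : GL (Fin 3) F} (hg : g ∈ std w) :
    ∃ i j : ℕ, i < 3 ∧ j < 3 ∧ pr g = pr (dia (A w)) ^ i * pr cyc ^ j := by
  obtain ⟨ha3, hb3⟩ := pr_pow_three hw hw1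
  have hc : Commute (pr (cyc : GL (Fin 3) F)) (pr (dia (A w))) := pr_cyc_mul hw hw1
  suffices ∃ i j : ℕ, pr g = pr (dia (A w)) ^ i * pr cyc ^ j by
    obtain ⟨i, j, h⟩ := this
    exact ⟨i % 3, j % 3, Nat.mod_lt _ (by norm_num), Nat.mod_lt _ (by norm_num), by
      rw [h, pow_eq_pow_mod i ha3, pow_eq_pow_mod j hb3]⟩
  induction hg using Subgroup.closure_induction with
  | mem x hx =>
    rcases hx with rfl | rfl
    · exact ⟨1, 0, by simp⟩
    · exact ⟨0, 1, by simp⟩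
  | one => exact ⟨0, 0, by simp⟩
  | mul x y _ _ hx hy =>
    obtain ⟨i, j, h⟩ := hx
    obtain ⟨k, l, h'⟩ := hy
    refine ⟨i + k, j + l, ?_⟩
    rw [map_mul, h, h', pow_add, pow_add, mul_assoc, ← mul_assoc (pr cyc ^ j), (hc.pow_pow j k).eq]
    simp only [mul_assoc]
  | inv x _ hx =>
    obtain ⟨i, j, h⟩ := hx
    refine ⟨2 * i, 2 * j, ?_⟩
    have e1 : (pr (dia (A w))) ^ (2 * i) * pr cyc ^ (2 * j) * (pr (dia (A w)) ^ i * pr (cyc : GL (Fin 3) F) ^ j) = 1 := by
      rw [mul_assoc, ← mul_assoc (pr cyc ^ (2 * j)), (hc.pow_pow (2 * j) i).eq, mul_assoc, ← pow_add, ← mul_assoc,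
        ← pow_add, show 2 * i + i = 3 * i by ring, show 2 * j + j = 3 * j by ring, pow_mul, pow_mul, ha3, hb3,
        one_pow, one_pow, one_mul]
    rw [map_inv, h, inv_eq_of_mul_eq_one_left e1]

theorem pr_form_eq_one {i j : ℕ} (hi : i < 3) (hj : j < 3)
    (h : pr (dia (A w) : GL (Fin 3) F) ^ i * pr cyc ^ j = 1) : i = 0 ∧ j = 0 := by
  obtain ⟨h3, hs⟩ := sum_pow hw hw1
  rw [← map_pow, ← map_pow, ← map_pow, ← map_mul, pr_eq_one] at h
  obtain ⟨z, hz⟩ := h
  rw [Units.val_mul, coe_dia, Units.val_pow_eq_pow_val, coe_cyc] at hz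
  have e := fun a b => congrFun (congrFun hz a) b
  have hω : (w : F) ≠ 1 := fun e => hw1 (Units.ext e)
  have e00 := e 0 0
  have e11 := e 1 1
  have e22 := e 2 2
  have e10 := e 1 0
  have e20 := e 2 0
  interval_cases j
  · refine ⟨?_, rfl⟩
    simp [A] at e00 e11
    interval_cases i
    · rfl
    · try simp at e00 e11
      exact absurd (e11.trans e00.symm) hω
    · try simp at e00 e11
      refine absurd ?_ hω
      have h2 : (w : F) ^ 2 = 1 := by rw [e11, ← e00]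
      linear_combination h3 - (w : F) * h2
  · simp [pow_two, Matrix.mul_apply, Fin.sum_univ_three, A] at e10
  · simp [pow_two, Matrix.mul_apply, Fin.sum_univ_three, A] at e20

/-- An element commuting with the diagonal generator in `PGL(3)` is monomial. -/
theorem exists_diag {g : GL (Fin 3) F} (hg : Commute (pr g) (pr (dia (A w)))) :
    ∃ k < 3, ∀ a b : Fin 3, a ≠ b → ((g * cyc ^ k : GL (Fin 3) F) : M₃) a b = 0 := by
  obtain ⟨h3, -⟩ := sum_pow hw hw1
  obtain ⟨z, hz⟩ := commute_pr.1 hg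
  obtain ⟨k, hk, hzk⟩ := cases_cube hw hw1
    (t := Units.mk0 z fun e => by
      rw [e, zero_smul] at hz
      have := congrArg Matrix.det hz
      rw [Matrix.det_mul, Matrix.det_zero] at this
      exact mul_ne_zero g.det_ne_zero (dia (A w)).det_ne_zero this)
    (Units.ext (by simpa using cube_of_comm hz))
  have hzk' : z = (w : F) ^ k := by simpa using congrArg Units.val hzk
  have hω : ∀ a b : Fin 3, a ≠ b → (A w a : F) ≠ A w b := fun a b hab e => hab (by
    have e' : w ^ (a : ℕ) = w ^ (b : ℕ) := Units.ext e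
    have ho : orderOf w = 3 := by
      haveI : Fact (Nat.Prime 3) := ⟨Nat.prime_three⟩
      exact orderOf_eq_prime hw hw1
    have h := pow_inj_mod.1 e'
    rw [ho, Nat.mod_eq_of_lt a.2, Nat.mod_eq_of_lt b.2] at h
    exact Fin.ext h)
  have hzero : ∀ a b : Fin 3, (g : M₃) a b * ((A w b : F) - z * A w a) = 0 := fun a b => by
    have h1 := congrFun (congrFun hz a) b
    rw [coe_dia, Matrix.mul_diagonal, Matrix.smul_apply, Matrix.diagonal_mul, smul_eq_mul] at h1
    linear_combination h1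
  rw [hzk'] at hzero
  have key : ∀ a b : Fin 3, (b : ℕ) ≠ ((a : ℕ) + k) % 3 → (g : M₃) a b = 0 := fun a b hab =>
    (mul_eq_zero.1 (hzero a b)).resolve_right fun e => by
      rw [sub_eq_zero] at e
      refine hω b ⟨((a : ℕ) + k) % 3, Nat.mod_lt _ (by norm_num)⟩ (fun e2 => hab (congrArg Fin.val e2)) ?_
      rw [e]
      show (w : F) ^ k * ((w ^ (a : ℕ) : Fˣ) : F) = ((w ^ (((a : ℕ) + k) % 3) : Fˣ) : F)
      rw [← pow_mod_three hw, ← Units.val_pow_eq_pow_val, ← Units.val_mul, ← pow_add, add_comm]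
  refine ⟨k, hk, fun a b hab => ?_⟩
  rw [Units.val_mul, Units.val_pow_eq_pow_val, coe_cyc]
  interval_cases k <;> fin_cases a <;> fin_cases b <;>
    first
      | exact absurd rfl hab
      | simp [pow_two, Matrix.mul_apply, Fin.sum_univ_three, key]

/-- The image of the standard group is its own centraliser. -/
theorem mem_bar_of_commute {g : GL (Fin 3) F} (h1 : Commute (pr g) (pr (dia (A w))))
    (h2 : Commute (pr g) (pr cyc)) : ∃ r ∈ std w, pr g = pr r := by
  obtain ⟨h3, hs⟩ := sum_pow hw hw1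
  obtain ⟨k, -, hd⟩ := exists_diag hw hw1 h1
  obtain ⟨u, hu⟩ : ∃ u, u = g * cyc ^ k := ⟨_, rfl⟩
  rw [← hu] at hd
  have hc : Commute (pr u) (pr cyc) := by
    rw [hu, map_mul, map_pow]
    exact h2.mul_left ((Commute.refl _).pow_left k)
  obtain ⟨z, hz⟩ := commute_pr.1 hc
  have hz3 := cube_of_comm hz
  have e := fun a b => congrFun (congrFun hz a) b
  have e1 := e 0 2
  have e2 := e 1 0
  simp [coe_cyc, Matrix.mul_apply, Matrix.vecMul, dotProduct, Fin.sum_univ_three, hd] at e1 e2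
  -- `e1 : u 0 0 = z * u 2 2`, `e2 : u 1 1 = z * u 0 0`
  have hu0 : (u : M₃) 0 0 ≠ 0 := fun e0 => u.det_ne_zero (by
    rw [Matrix.det_fin_three]; simp [hd, e0])
  have hz0 : z ≠ 0 := fun e0 => hu0 (by rw [e1, e0, zero_mul])
  obtain ⟨i, -, hi⟩ := cases_cube hw hw1 (t := Units.mk0 z hz0) (Units.ext (by simpa using hz3))
  have hi' : z = (w : F) ^ i := by simpa using congrArg Units.val hi
  refine ⟨dia (A w) ^ i * (cyc ^ k)⁻¹,
    mul_mem (pow_mem (dia_A_mem w) i) (inv_mem (pow_mem (cyc_mem w) k)), ?_⟩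
  rw [map_mul, map_inv, eq_mul_inv_iff_mul_eq, ← map_mul, ← hu, pr_eq_pr]
  refine ⟨(u : M₃) 0 0, ?_⟩
  rw [← map_pow, coe_dia, ← Matrix.diagonal_smul]
  ext a b
  rcases eq_or_ne a b with rfl | hab
  · rw [Matrix.diagonal_apply_eq]
    fin_cases a
    · simp [A]
    · simp [A, e2, hi']; ring
    · simp [A]
      rw [e1, hi', ← pow_mul]
      have : ((w : F) ^ i) ^ 3 = 1 := by rw [← hi']; exact hz3
      linear_combination (-(u : M₃) 2 2) * this
  · rw [Matrix.diagonal_apply_ne _ hab, hd a b hab]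

end Bar

section Transitive

variable (hw : w ^ 3 = 1) (hw1 : w ≠ 1)
include hw hw1

theorem neg_conj :
    pr negSwap * pr (dia (A w)) * (pr negSwap)⁻¹ = pr (dia (A w) : GL (Fin 3) F) ^ 2 ∧
    pr negSwap * pr cyc * (pr negSwap)⁻¹ = pr (cyc : GL (Fin 3) F) ^ 2 := by
  obtain ⟨h3, -⟩ := sum_pow hw hw1
  constructor <;> rw [mul_inv_eq_iff_eq_mul, ← map_pow, ← map_mul, ← map_mul] <;> congr 1 <;> refine Units.ext ?_
  · simp only [Units.val_mul, Units.val_pow_eq_pow_val, coe_dia, coe_negSwap, pow_two]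
    ext i j
    fin_cases i <;> fin_cases j <;> simp [Matrix.mul_apply, Matrix.vecMul_diagonal, Fin.sum_univ_three, A] <;>
      (first
      | ring1
      | (obtain ⟨a, ha⟩ : ∃ a, a = (w : F) := ⟨_, rfl⟩
         rw [← ha] at h3 ⊢
         grind))
  · simp only [Units.val_mul, Units.val_pow_eq_pow_val, coe_cyc, coe_negSwap, pow_two]
    ext i j
    fin_cases i <;> fin_cases j <;> simp [Matrix.mul_apply, Fin.sum_univ_three]

theorem four'_conj :
    pr (four' hw hw1) * pr (dia (A w)) * (pr (four' hw hw1))⁻¹ = pr (dia (A w)) * pr (cyc : GL (Fin 3) F) ^ 2 := by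
  obtain ⟨h3, -⟩ := sum_pow hw hw1
  have e1 : (dd w)⁻¹ * dia (A w) * dd w = (dia (A w) : GL (Fin 3) F) := by
    rw [dd, ← map_inv, ← map_mul, ← map_mul]
    congr 1
    rw [mul_comm _ (A w), inv_mul_cancel_right]
  have hc2 : (cyc : GL (Fin 3) F)⁻¹ = cyc ^ 2 := by
    refine Units.ext ?_
    show !![0, 1, 0; 0, 0, 1; 1, 0, 0] = _
    rw [Units.val_pow_eq_pow_val, coe_cyc, pow_two]
    ext i j
    fin_cases i <;> fin_cases j <;> simp [Matrix.mul_apply, Fin.sum_univ_three]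
  have e2 : four' hw hw1 * dia (A w) * (four' hw hw1)⁻¹ = dd w * cyc ^ 2 * (dd w)⁻¹ := by
    rw [four', ← hc2, ← four_conj_A hw hw1]
    conv_rhs => rw [← e1]
    group
  rw [← map_inv, ← map_mul, ← map_mul, e2, ← map_pow, ← map_mul, pr_eq_pr]
  refine ⟨(w : F) ^ 2, ?_⟩
  rw [dd, ← map_inv]
  simp only [Units.val_mul, Units.val_pow_eq_pow_val, coe_dia, coe_cyc, pow_two]
  ext i j
  fin_cases i <;> fin_cases j <;> simp [Matrix.mul_apply, Matrix.vecMul_diagonal, Fin.sum_univ_three, A] <;>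
    field_simp <;>
    (first
      | ring1
      | (obtain ⟨a, ha⟩ : ∃ a, a = (w : F) := ⟨_, rfl⟩
         rw [← ha] at h3 ⊢
         grind))

/-- Every non-trivial element of the image is conjugate to the diagonal generator above the group. -/
theorem exists_conj_A {r : GL (Fin 3) F} (hr : r ∈ std w) (hr1 : pr r ≠ 1)
    {N : Subgroup (GL (Fin 3) F)} (hh : negSwap ∈ N) (hf : four hw hw1 ∈ N) (hf' : four' hw hw1 ∈ N) :
    ∃ g ∈ N, pr g * pr (dia (A w)) * (pr g)⁻¹ = pr r := by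
  obtain ⟨i, j, hi, hj, e⟩ := exists_form hw hw1 hr
  obtain ⟨hna, hnb⟩ := neg_conj hw hw1
  obtain ⟨ha3, hb3⟩ := pr_pow_three hw hw1
  have hc : Commute (pr (cyc : GL (Fin 3) F)) (pr (dia (A w))) := pr_cyc_mul hw hw1
  have hfa : pr (four hw hw1) * pr (dia (A w)) * (pr (four hw hw1))⁻¹ = pr (cyc : GL (Fin 3) F) ^ 2 := by
    rw [← map_inv, ← map_mul, ← map_mul, four_conj_A, map_inv, inv_eq_of_mul_eq_one_left (a := pr cyc ^ 2)]
    rw [← pow_succ, hb3]
  have hfb : pr (four hw hw1) * pr cyc * (pr (four hw hw1))⁻¹ = pr (dia (A w)) := by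
    rw [← map_inv, ← map_mul, ← map_mul, four_conj_cyc]
  have hf'a := four'_conj hw hw1
  have step : ∀ g m : GL (Fin 3) F, ∀ x : Matrix.ProjGenLinGroup (Fin 3) F,
      pr m * pr (dia (A w)) * (pr m)⁻¹ = x →
      pr (g * m) * pr (dia (A w)) * (pr (g * m))⁻¹ = pr g * x * (pr g)⁻¹ := fun g m x h => by
    rw [← h, map_mul]; group
  have cm : ∀ (g : GL (Fin 3) F) (p q : ℕ),
      pr g * (pr (dia (A w)) ^ p * pr (cyc : GL (Fin 3) F) ^ q) * (pr g)⁻¹ =
        (pr g * pr (dia (A w)) * (pr g)⁻¹) ^ p * (pr g * pr cyc * (pr g)⁻¹) ^ q := fun g p q => by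
    rw [conj_pow, conj_pow]; group
  interval_cases i <;> interval_cases j
  · exact absurd (by simpa using e) hr1
  · -- the conjugate of the cycle squared
    refine ⟨negSwap * four hw hw1, mul_mem hh hf, ?_⟩
    rw [step _ _ _ hfa, ← one_mul (pr (cyc : GL (Fin 3) F) ^ 2), ← pow_zero (pr (dia (A w))), cm, hna, hnb, e,
      ← pow_mul, ← pow_mul, pow_eq_pow_mod (2 * 2) hb3]
  · exact ⟨four hw hw1, hf, by rw [hfa, e, pow_zero, one_mul]⟩
  · exact ⟨1, one_mem N, by rw [map_one, e]; simp⟩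
  · -- the fourth line
    refine ⟨negSwap * (four hw hw1 * four' hw hw1), mul_mem hh (mul_mem hf hf'), ?_⟩
    rw [step _ _ _ (step _ _ _ hf'a), ← pow_one (pr (dia (A w))), cm, hfa, hfb, pow_one, ← pow_one (pr (cyc : GL (Fin 3) F) ^ 2)]
    rw [pow_one, (hc.pow_pow 2 2).eq, cm, hna, hnb, e, ← pow_mul, ← pow_mul, pow_eq_pow_mod (2 * 2) ha3,
      pow_eq_pow_mod (2 * 2) hb3]
  · refine ⟨four' hw hw1, hf', ?_⟩
    rw [hf'a, e, pow_one]
  · exact ⟨negSwap, hh, by rw [hna, e, pow_zero, mul_one]⟩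
  · refine ⟨negSwap * four' hw hw1, mul_mem hh hf', ?_⟩
    rw [step _ _ _ hf'a, ← pow_one (pr (dia (A w))), cm, hna, hnb, e, ← pow_mul, ← pow_mul, mul_one,
      pow_eq_pow_mod (2 * 2) hb3]
  · refine ⟨four hw hw1 * four' hw hw1, mul_mem hf hf', ?_⟩
    rw [step _ _ _ hf'a, ← pow_one (pr (dia (A w))), cm, hfa, hfb, e, pow_one, (hc.pow_pow 2 2).eq]

end Transitive

section Homology

variable [Fintype F] (h2 : (2 : F) ≠ 0)

/-- The frame of the involution. -/
def frame : GL (Fin 3) F where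
  val := !![0, 1, 0; 1, 0, 1; -1, 0, 1]
  inv := !![0, (2 : F)⁻¹, -(2 : F)⁻¹; 1, 0, 0; 0, (2 : F)⁻¹, (2 : F)⁻¹]
  val_inv := by
    ext i j
    fin_cases i <;> fin_cases j <;> simp [Matrix.mul_apply, Fin.sum_univ_three] <;> field_simp <;> ring
  inv_val := by
    ext i j
    fin_cases i <;> fin_cases j <;> simp [Matrix.mul_apply, Fin.sum_univ_three] <;> field_simp <;> ring

theorem frame_J₀ : frame h2 * J₀ * (frame h2)⁻¹ = (negSwap : GL (Fin 3) F) := by
  rw [mul_inv_eq_iff_eq_mul]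
  refine Units.ext ?_
  rw [Units.val_mul, Units.val_mul, coe_J₀, coe_negSwap]
  show !![0, 1, 0; 1, 0, 1; -1, 0, 1] * _ = _ * !![0, 1, 0; 1, 0, 1; -1, 0, 1]
  ext i j
  fin_cases i <;> fin_cases j <;> simp [Matrix.mul_apply, Fin.sum_univ_three]

theorem frame_diag (χ l : F) :
    ((frame h2 : GL (Fin 3) F) : M₃) * Matrix.diagonal ![χ, l, l] * (((frame h2)⁻¹ : GL (Fin 3) F) : M₃) =
      !![l, 0, 0; 0, (χ + l) / 2, (l - χ) / 2; 0, (l - χ) / 2, (χ + l) / 2] := by
  show !![0, 1, 0; 1, 0, 1; -1, 0, 1] * _ * !![0, (2 : F)⁻¹, -(2 : F)⁻¹; 1, 0, 0; 0, (2 : F)⁻¹, (2 : F)⁻¹] = _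
  ext i j
  fin_cases i <;> fin_cases j <;> simp [Matrix.mul_apply, Matrix.vecMul_diagonal, Fin.sum_univ_three] <;> field_simp <;> ring

variable {X : Subgroup (GL (Fin 3) F)}

/-- The homologies at the involution. -/
theorem homology (hw : w ^ 3 = 1) (hw1 : w ≠ 1) (hX : NoTv X) {p : ℕ} (hp : p.Prime) (hF : Fintype.card F = p)
    (hA : dia (A w) ∈ X) (hh : (negSwap : GL (Fin 3) F) ∈ X)
    {g : Subgroup.centralizer ({frame h2 * J₀ * (frame h2)⁻¹} : Set (GL (Fin 3) F))} (hg : (g : GL (Fin 3) F) ∈ X)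
    (hg1 : blockHom h2 (frame h2) g = 1) :
    pr (g : GL (Fin 3) F) = 1 ∨ pr (g : GL (Fin 3) F) = pr negSwap := by
  classical
  obtain ⟨χ, l, hD⟩ := (blockHom_eq_one h2).1 hg1
  obtain ⟨K, hK⟩ : ∃ K : GL (Fin 3) F, K = (frame h2)⁻¹ * (g : GL (Fin 3) F) * frame h2 := ⟨_, rfl⟩
  rw [← hK] at hD
  have hgK : (g : GL (Fin 3) F) = frame h2 * K * (frame h2)⁻¹ := by rw [hK]; group
  have hχ0 : χ ≠ 0 := fun e => K.det_ne_zero (by rw [hD, Matrix.det_diagonal, Fin.prod_univ_three]; simp [e])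
  have hl0 : l ≠ 0 := fun e => K.det_ne_zero (by rw [hD, Matrix.det_diagonal, Fin.prod_univ_three]; simp [e])
  have hneg : ((negSwap : GL (Fin 3) F) : M₃) =
      ((frame h2 : GL (Fin 3) F) : M₃) * Matrix.diagonal ![1, -1, -1] * (((frame h2)⁻¹ : GL (Fin 3) F) : M₃) := by
    rw [← coe_J₀, ← Units.val_mul, ← Units.val_mul, frame_J₀]
  have hval : ((g : GL (Fin 3) F) : M₃) =
      ((frame h2 : GL (Fin 3) F) : M₃) * Matrix.diagonal ![χ, l, l] * (((frame h2)⁻¹ : GL (Fin 3) F) : M₃) := by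
    rw [hgK, Units.val_mul, Units.val_mul, hD]
  rcases eq_or_ne (l / χ) 1 with h1 | h1
  · left
    rw [div_eq_one_iff_eq hχ0] at h1
    refine pr_eq_one.2 ⟨χ, ?_⟩
    rw [hval, h1, show Matrix.diagonal ![χ, χ, χ] = χ • (1 : M₃) by
      rw [Matrix.smul_one_eq_diagonal]; congr 1; funext i; fin_cases i <;> simp]
    simp
  rcases eq_or_ne (l / χ) (-1) with hm1 | hm1
  · right
    rw [div_eq_iff hχ0, neg_one_mul] at hm1
    refine pr_eq_pr.2 ⟨χ, ?_⟩
    rw [hval, hneg, hm1, ← Matrix.smul_mul, ← Matrix.mul_smul, ← Matrix.diagonal_smul]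
    congr 3
    funext i
    fin_cases i <;> simp
  exfalso
  -- adjust the ratio to even order
  obtain ⟨K', χ', l', hK'X, hD', hev, hsq⟩ : ∃ (K' : GL (Fin 3) F) (χ' l' : F),
      frame h2 * K' * (frame h2)⁻¹ ∈ X ∧ (K' : M₃) = Matrix.diagonal ![χ', l', l'] ∧
      Even (orderOf (l' / χ')) ∧ (l' / χ') ^ 2 ≠ 1 := by
    have hne2 : (l / χ) ^ 2 ≠ 1 := fun e => by
      rcases sq_eq_one_iff.1 e with e | e
      exacts [h1 e, hm1 e]
    by_cases hev : Even (orderOf (l / χ))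
    · exact ⟨K, χ, l, hgK ▸ hg, hD, hev, hne2⟩
    · refine ⟨K * J₀, χ, -l, ?_, ?_, ?_, by rwa [neg_div, neg_sq]⟩
      · have e : frame h2 * (K * J₀) * (frame h2)⁻¹ = (g : GL (Fin 3) F) * negSwap := by
          rw [hgK, ← frame_J₀ h2]; group
        rw [e]; exact mul_mem hg hh
      · rw [Units.val_mul, hD, coe_J₀, Matrix.diagonal_mul_diagonal]
        congr 1
        funext i
        fin_cases i <;> simp
      · by_contra hodd
        rw [Nat.not_even_iff_odd] at hev hodd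
        rw [neg_div] at hodd
        have e1 : (l / χ) ^ (orderOf (-l / χ) * orderOf (l / χ)) = 1 := by rw [mul_comm, pow_mul, pow_orderOf_eq_one, one_pow]
        have e2 : (-l / χ) ^ (orderOf (-l / χ) * orderOf (l / χ)) = 1 := by rw [pow_mul, pow_orderOf_eq_one, one_pow]
        rw [neg_div] at e1
        rw [neg_div, (hodd.mul hev).neg_pow, e1] at e2
        exact h2 (by linear_combination -e2)
  have hχ' : χ' ≠ 0 := fun e => K'.det_ne_zero (by rw [hD', Matrix.det_diagonal, Fin.prod_univ_three]; simp [e])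
  have hl' : l' ≠ 0 := fun e => K'.det_ne_zero (by rw [hD', Matrix.det_diagonal, Fin.prod_univ_three]; simp [e])
  obtain ⟨m, hm⟩ := hev
  have hord : 0 < orderOf (l' / χ') :=
    orderOf_pos_iff.2 (isOfFinOrder_iff_pow_eq_one.2 ⟨Fintype.card F - 1,
      by have := Fintype.one_lt_card (α := F); omega, FiniteField.pow_card_sub_one_eq_one _ (div_ne_zero hl' hχ')⟩)
  have hm2 : 2 ≤ m := by
    by_contra hlt
    exact hsq (orderOf_dvd_iff_pow_eq_one.1 (by rw [hm, show m = 1 by omega]))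
  have hhalf : (l' / χ') ^ m = -1 := by
    refine (sq_eq_one_iff.1 ?_).resolve_left fun e => ?_
    · rw [← pow_mul, mul_comm, two_mul, ← hm, pow_orderOf_eq_one]
    · have := Nat.le_of_dvd (by omega) (orderOf_dvd_of_pow_eq_one e)
      omega
  -- the two elements in the block of the first basis vector
  obtain ⟨E, _, _, _, f, hf, hpH⟩ := exists_psl h2 hX hp hF (1 : GL (Fin 3) F)
  haveI : Fact p.Prime := ⟨hp⟩
  have hp2 : p ≠ 2 := fun e => h2 (by
    haveI : CharP F p := charP_of_card_eq_prime hF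
    rw [e] at *
    exact_mod_cast CharP.cast_eq_zero F 2)
  have hcent : ∀ x : GL (Fin 3) F, x * J₀ = J₀ * x →
      x ∈ Subgroup.centralizer ({(1 : GL (Fin 3) F) * J₀ * 1⁻¹} : Set (GL (Fin 3) F)) := fun x hx => by
    rw [Subgroup.mem_centralizer_singleton_iff]; simpa using hx
  obtain ⟨G₁, hG₁⟩ : ∃ G₁, G₁ = frame h2 * K' * (frame h2)⁻¹ := ⟨_, rfl⟩
  have hG₁v : ∀ i : ℕ, ((G₁ ^ i : GL (Fin 3) F) : M₃) = !![l' ^ i, 0, 0; 0, (χ' ^ i + l' ^ i) / 2, (l' ^ i - χ' ^ i) / 2;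
      0, (l' ^ i - χ' ^ i) / 2, (χ' ^ i + l' ^ i) / 2] := fun i => by
    rw [hG₁, conj_pow, Units.val_mul, Units.val_mul, Units.val_pow_eq_pow_val, hD', Matrix.diagonal_pow,
      ← frame_diag h2]
    congr 3
    funext a
    fin_cases a <;> simp
  have hG₁J : G₁ * J₀ = J₀ * G₁ := by
    refine Units.ext ?_
    rw [Units.val_mul, Units.val_mul, ← pow_one G₁, hG₁v, coe_J₀]
    ext i j
    fin_cases i <;> fin_cases j <;> simp [Matrix.mul_apply, Fin.sum_univ_three]
  have hAJ : dia (A w) * (J₀ : GL (Fin 3) F) = J₀ * dia (A w) := by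
    rw [J₀, ← map_mul, ← map_mul, mul_comm]
  have hNJ : (negSwap : GL (Fin 3) F) * J₀ = J₀ * negSwap := by
    refine Units.ext ?_
    rw [Units.val_mul, Units.val_mul, coe_negSwap, coe_J₀]
    ext i j
    fin_cases i <;> fin_cases j <;> simp [Matrix.mul_apply, Fin.sum_univ_three]
  let a' : Subgroup.centralizer ({(1 : GL (Fin 3) F) * J₀ * 1⁻¹} : Set (GL (Fin 3) F)) := ⟨G₁, hcent _ hG₁J⟩
  let r' : Subgroup.centralizer ({(1 : GL (Fin 3) F) * J₀ * 1⁻¹} : Set (GL (Fin 3) F)) := ⟨dia (A w), hcent _ hAJ⟩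
  let n' : Subgroup.centralizer ({(1 : GL (Fin 3) F) * J₀ * 1⁻¹} : Set (GL (Fin 3) F)) := ⟨negSwap, hcent _ hNJ⟩
  have haX : a' ∈ X.subgroupOf _ := Subgroup.mem_subgroupOf.2 (show G₁ ∈ X by rw [hG₁]; exact hK'X)
  have hrX : r' ∈ X.subgroupOf _ := Subgroup.mem_subgroupOf.2 (show dia (A w) ∈ X from hA)
  let α : Subgroup.map f (X.subgroupOf _) := ⟨f a', a', haX, rfl⟩
  let ρ : Subgroup.map f (X.subgroupOf _) := ⟨f r', r', hrX, rfl⟩
  have hscal : ∀ i : ℕ, f a' ^ i = 1 ↔ (l' / χ') ^ i = 1 := fun i => by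
    rw [← map_pow, hf, blockHom_eq_one h2]
    simp only [SubmonoidClass.coe_pow, inv_one, one_mul, mul_one]
    rw [show ((a' : GL (Fin 3) F)) = G₁ from rfl, hG₁v, div_pow, div_eq_one_iff_eq (pow_ne_zero _ hχ')]
    constructor
    · rintro ⟨c, d, e⟩
      have e1 := congrFun (congrFun e 1) 2
      simp at e1
      exact (sub_eq_zero.1 (e1.resolve_right h2))
    · intro e
      refine ⟨l' ^ i, χ' ^ i, ?_⟩
      rw [e]
      ext a b
      fin_cases a <;> fin_cases b <;> simp <;> field_simp <;> ring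
  have hoa : orderOf α = 2 * m := by
    rw [← Subgroup.orderOf_coe, show (α : Matrix.ProjectiveSpecialLinearGroup (Fin 2) E) = f a' from rfl,
      orderOf_eq_orderOf_iff.2 hscal, hm, two_mul]
  have hcomm := commute_halves p hp2 hpH (a := α) (b := ρ * α * ρ⁻¹) hm2 hoa ((MulEquiv.orderOf_eq (MulAut.conj ρ) α).trans hoa)
  have hfn : f a' ^ m = f n' := by
    rw [← mul_inv_eq_one, ← map_pow, ← map_inv, ← map_mul, hf, blockHom_eq_one h2]
    refine ⟨χ' ^ m, χ' ^ m, ?_⟩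
    have e0 : l' ^ m = -(χ' ^ m) := by
      rw [div_pow, div_eq_iff (pow_ne_zero _ hχ')] at hhalf
      linear_combination hhalf
    simp only [Subgroup.coe_mul, SubmonoidClass.coe_pow, Subgroup.coe_inv, inv_one, one_mul, mul_one]
    rw [show ((a' : GL (Fin 3) F)) = G₁ from rfl, show ((n' : GL (Fin 3) F)) = negSwap from rfl,
      inv_eq_of_mul_eq_one_right negSwap_mul_self, Units.val_mul, hG₁v, coe_negSwap, e0]
    ext i j
    fin_cases i <;> fin_cases j <;> simp [Matrix.mul_apply, Fin.sum_univ_three] <;> field_simp <;> ring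
  have hc := congrArg Subtype.val hcomm.eq
  rw [conj_pow] at hc
  simp only [Subgroup.coe_mul, SubmonoidClass.coe_pow, Subgroup.coe_inv] at hc
  rw [show (α : Matrix.ProjectiveSpecialLinearGroup (Fin 2) E) = f a' from rfl,
    show (ρ : Matrix.ProjectiveSpecialLinearGroup (Fin 2) E) = f r' from rfl, hfn, ← map_inv, ← map_mul, ← map_mul,
    ← map_mul, ← map_mul, ← mul_inv_eq_one, ← map_inv, ← map_mul, hf, blockHom_eq_one h2] at hc
  obtain ⟨c, d, e⟩ := hc
  have hnn : (negSwap : GL (Fin 3) F) * (dia (A w) * negSwap * (dia (A w))⁻¹) = dia (A w) := by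
    have h1 := (neg_A hw hw1)
    rw [show negSwap * (dia (A w) * negSwap * (dia (A w))⁻¹) = negSwap * dia (A w) * negSwap * (dia (A w))⁻¹ by
      group, h1, mul_inv_cancel_right]
  simp only [Subgroup.coe_mul, Subgroup.coe_inv, inv_one, one_mul, mul_one] at e
  rw [show ((n' : GL (Fin 3) F)) = negSwap from rfl, show ((r' : GL (Fin 3) F)) = dia (A w) from rfl, hnn,
    show dia (A w) * (negSwap : GL (Fin 3) F) * (dia (A w))⁻¹ * negSwap = (dia (A w))⁻¹ from by
      simpa [mul_assoc, inv_eq_of_mul_eq_one_right negSwap_mul_self] using congrArg (·⁻¹) hnn,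
    inv_inv, ← map_mul, coe_dia] at e
  have e11 := congrFun (congrFun e 1) 1
  have e22 := congrFun (congrFun e 2) 2
  simp [A] at e11 e22
  refine hw1 (Units.ext ?_)
  obtain ⟨h3, -⟩ := sum_pow hw hw1
  have h4 : (w : F) * (w : F) = (w : F) ^ 2 * (w : F) ^ 2 := by rw [e11, e22]
  rw [Units.val_one]
  linear_combination (w : F) ^ 2 * h4 - (w : F) * h3 + ((w : F) ^ 3 + 1) * h3
where
  neg_A {w : Fˣ} (hw : w ^ 3 = 1) (hw1 : w ≠ 1) :
      (negSwap : GL (Fin 3) F) * dia (A w) * negSwap = dia (A w) * dia (A w) := by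
    obtain ⟨h3, -⟩ := sum_pow hw hw1
    refine Units.ext ?_
    simp only [Units.val_mul, coe_dia, coe_negSwap]
    ext i j
    fin_cases i <;> fin_cases j <;> simp [Matrix.mul_apply, Matrix.vecMul_diagonal, Fin.sum_univ_three, A] <;>
      (first
      | ring1
      | (obtain ⟨a, ha⟩ : ∃ a, a = (w : F) := ⟨_, rfl⟩
         rw [← ha] at h3 ⊢
         grind))

end Homology

end Cfsg.Agent.Classical.SLThree.Hessian
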