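import Cfsg.Agent.Lib.Classical.SLThree.Basic
import Cfsg.Agent.Lib.Classical.MaxMonomial

/-!
Three by three matrices: either a quadratic relation or a commutative commutant; relations `a x a⁻¹ = ζ y` with
`y` in the algebra of `x`; the permutation of the eigenlines of a semisimple element.
-/

set_option autoImplicit false
set_option linter.unusedSectionVars false

namespace Cfsg.Agent.Classical.SLThree.Hessian

open Matrix Module

universe u

variable {F : Type u} [Field F]

local notation "V" => (Fin 3 → F)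
local notation "M₃" => Matrix (Fin 3) (Fin 3) F

/-- A quadratic relation with roots in the field. -/
def Quad (x : Matrix (Fin 3) (Fin 3) F) : Prop := ∃ μ ν : F, (x - μ • 1) * (x - ν • 1) = 0

/-- The commutant is commutative. -/
def CommCent (x : Matrix (Fin 3) (Fin 3) F) : Prop :=
  ∀ a b : Matrix (Fin 3) (Fin 3) F, Commute a x → Commute b x → Commute a b

theorem commCent_of_cyclic {x : M₃} {v : V} (h : LinearIndependent F ![v, x *ᵥ v, x *ᵥ (x *ᵥ v)]) :
    CommCent x := by
  have hspan := h.span_eq_top_of_card_eq_finrank (by simp)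
  intro a b ha hb
  have hw : ∀ c : M₃, Commute c x → ∀ w, c *ᵥ (x *ᵥ w) = x *ᵥ (c *ᵥ w) := fun c hc w => by
    rw [Matrix.mulVec_mulVec, Matrix.mulVec_mulVec, hc.eq]
  have hext : ∀ c d : M₃, Commute c x → Commute d x → c *ᵥ v = d *ᵥ v → c = d := by
    intro c d hc hd hv
    refine Matrix.ext_iff_mulVec.2 fun w => ?_
    have hm : w ∈ Submodule.span F (Set.range ![v, x *ᵥ v, x *ᵥ (x *ᵥ v)]) := hspan ▸ Submodule.mem_top
    induction hm using Submodule.span_induction with
    | mem z hz =>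
      obtain ⟨i, rfl⟩ := hz
      fin_cases i
      · exact hv
      · show c *ᵥ (x *ᵥ v) = d *ᵥ (x *ᵥ v); rw [hw c hc, hw d hd, hv]
      · show c *ᵥ (x *ᵥ (x *ᵥ v)) = d *ᵥ (x *ᵥ (x *ᵥ v)); rw [hw c hc, hw d hd, hw c hc, hw d hd, hv]
    | zero => rw [Matrix.mulVec_zero, Matrix.mulVec_zero]
    | add u u' _ _ hu hu' => rw [Matrix.mulVec_add, Matrix.mulVec_add, hu, hu']
    | smul t u _ hu => rw [Matrix.mulVec_smul, Matrix.mulVec_smul, hu]
  have hm : b *ᵥ v ∈ Submodule.span F (Set.range ![v, x *ᵥ v, x *ᵥ (x *ᵥ v)]) := hspan ▸ Submodule.mem_top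
  obtain ⟨c, hc⟩ := (Submodule.mem_span_range_iff_exists_fun F).1 hm
  obtain ⟨q, hq⟩ : ∃ q : M₃, q = c 0 • 1 + c 1 • x + c 2 • (x * x) := ⟨_, rfl⟩
  have hqc : ∀ d : M₃, Commute d x → Commute d q := fun d hd => by
    rw [hq]
    exact (((Commute.one_right d).smul_right _).add_right (hd.smul_right _)).add_right
      ((hd.mul_right hd).smul_right _)
  have hbq : b = q := hext b q hb (hqc x (Commute.refl x)).symm (by
    rw [← hc, hq, Fin.sum_univ_three]
    simp [Matrix.add_mulVec, Matrix.smul_mulVec, Matrix.mulVec_mulVec])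
  rw [hbq]
  exact hqc a ha

theorem exists_eigen_or {x : M₃} (hall : ∀ v : V, ¬ LinearIndependent F ![v, x *ᵥ v, x *ᵥ (x *ᵥ v)]) :
    ∃ μ : F, (x - μ • 1).det = 0 := by
  obtain ⟨v, hv⟩ : ∃ v : V, v ≠ 0 := ⟨Pi.single 0 1, fun e => one_ne_zero (α := F) (Pi.single_eq_zero_iff.1 e)⟩
  by_cases h2 : LinearIndependent F ![v, x *ᵥ v]
  · -- a functional with the plane in its kernel
    have hi : Indep v (x *ᵥ v) := indep_iff.2 h2
    obtain ⟨φ, hφ⟩ : ∃ φ, φ = crossProduct v (x *ᵥ v) := ⟨_, rfl⟩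
    have hφ0 : φ ≠ 0 := hφ ▸ hi
    have hφv : φ ⬝ᵥ v = 0 := hφ ▸ cross_dot_left _ _
    have hφw : φ ⬝ᵥ (x *ᵥ v) = 0 := hφ ▸ cross_dot_right _ _
    have hφu : φ ⬝ᵥ (x *ᵥ (x *ᵥ v)) = 0 := by
      by_contra hne
      refine hall v (Fintype.linearIndependent_iff.2 fun c hc => ?_)
      rw [Fin.sum_univ_three] at hc
      change c 0 • v + c 1 • (x *ᵥ v) + c 2 • (x *ᵥ (x *ᵥ v)) = 0 at hc
      have h1 := congrArg (φ ⬝ᵥ ·) hc
      simp only [dotProduct_add, dotProduct_smul, hφv, hφw, smul_zero, mul_zero, zero_add, dotProduct_zero, smul_eq_mul,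
        mul_eq_zero, or_iff_left hne] at h1
      rw [h1, zero_smul, add_zero] at hc
      obtain ⟨h3, h4⟩ := LinearIndependent.pair_iff.1 h2 _ _ hc
      intro i; fin_cases i <;> assumption
    obtain ⟨t, ht⟩ := hi.functional hφ0 hφv hφw (ψ := φ ᵥ* x)
      (by rw [← Matrix.dotProduct_mulVec]; exact hφw) (by rw [← Matrix.dotProduct_mulVec]; exact hφu)
    exact ⟨t, Matrix.exists_vecMul_eq_zero_iff.1 ⟨φ, hφ0, by
      rw [Matrix.vecMul_sub, ht, Matrix.vecMul_smul, Matrix.vecMul_one, sub_self]⟩⟩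
  · rw [LinearIndependent.pair_iff' hv] at h2
    push Not at h2
    obtain ⟨μ, hμ⟩ := h2
    exact ⟨μ, Matrix.exists_mulVec_eq_zero_iff.1 ⟨v, hv, by
      rw [Matrix.sub_mulVec, Matrix.smul_mulVec, Matrix.one_mulVec, hμ, sub_self]⟩⟩

/-- A quadratic relation or a commutative commutant. -/
theorem quad_or_commCent (h2 : (2 : F) ≠ 0) (x : M₃) : Quad x ∨ CommCent x := by
  by_cases hall : ∀ v : V, ¬ LinearIndependent F ![v, x *ᵥ v, x *ᵥ (x *ᵥ v)]
  swap
  · push Not at hall
    obtain ⟨v, hv⟩ := hall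
    exact Or.inr (commCent_of_cyclic hv)
  left
  obtain ⟨μ, hμ⟩ := exists_eigen_or hall
  obtain ⟨N, hN⟩ : ∃ N : M₃, N = x - μ • 1 := ⟨_, rfl⟩
  rw [← hN] at hμ
  have hxN : ∀ v, x *ᵥ v = N *ᵥ v + μ • v := fun v => by
    rw [hN, Matrix.sub_mulVec, Matrix.smul_mulVec, Matrix.one_mulVec, sub_add_cancel]
  -- outside the image, images are eigenvectors
  have key : ∀ v : V, (∀ u, v ≠ N *ᵥ u) → N *ᵥ v ≠ 0 → ∃ a : F, N *ᵥ (N *ᵥ v) = a • (N *ᵥ v) := by
    intro v hv hNv
    obtain ⟨c, hc, hc0⟩ := Fintype.not_linearIndependent_iff.1 (hall v)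
    rw [Fin.sum_univ_three] at hc
    change c 0 • v + c 1 • (x *ᵥ v) + c 2 • (x *ᵥ (x *ᵥ v)) = 0 at hc
    rw [hxN v, hxN (N *ᵥ v + μ • v), Matrix.mulVec_add, Matrix.mulVec_smul] at hc
    obtain ⟨a0, ha0⟩ : ∃ a, a = c 0 + c 1 * μ + c 2 * μ * μ := ⟨_, rfl⟩
    obtain ⟨a1, ha1⟩ : ∃ a, a = c 1 + 2 * c 2 * μ := ⟨_, rfl⟩
    have hc' : a0 • v + (a1 • (N *ᵥ v) + c 2 • (N *ᵥ (N *ᵥ v))) = 0 := by
      rw [← hc, ha0, ha1]; module
    by_cases h00 : a0 = 0
    · rw [h00, zero_smul, zero_add] at hc'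
      by_cases hc2 : c 2 = 0
      · rw [hc2, zero_smul, add_zero, smul_eq_zero, or_iff_left hNv] at hc'
        obtain ⟨i, hi⟩ := hc0
        refine absurd ?_ hi
        have h1 : c 1 = 0 := by rw [hc'] at ha1; rw [hc2] at ha1; linear_combination -ha1
        have h0 : c 0 = 0 := by rw [h00, h1, hc2] at ha0; linear_combination -ha0
        fin_cases i <;> assumption
      · exact ⟨-a1 / c 2, by linear_combination (norm := skip) (c 2)⁻¹ • hc'; match_scalars <;> field_simp <;> ring⟩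
    · refine absurd ?_ (hv (-(a0⁻¹) • (a1 • v + c 2 • (N *ᵥ v))))
      rw [Matrix.mulVec_smul, Matrix.mulVec_add, Matrix.mulVec_smul, Matrix.mulVec_smul]
      linear_combination (norm := skip) a0⁻¹ • hc'
      match_scalars <;> field_simp <;> ring
  by_cases hN0 : N = 0
  · exact ⟨μ, μ, by rw [← hN, hN0, zero_mul]⟩
  obtain ⟨v₀, hv₀, hw₀⟩ : ∃ v, (∀ u, v ≠ N *ᵥ u) ∧ N *ᵥ v ≠ 0 := by
    by_contra hcon
    push Not at hcon
    obtain ⟨v, hv⟩ : ∃ v, ∀ u, v ≠ N *ᵥ u := by
      by_contra hc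
      push Not at hc
      obtain ⟨w, hw0, hw⟩ := Matrix.exists_vecMul_eq_zero_iff.2 hμ
      refine hw0 (dotProduct_eq_zero _ fun z => ?_)
      obtain ⟨u, rfl⟩ := hc z
      rw [Matrix.dotProduct_mulVec, hw, zero_dotProduct]
    refine hN0 (Matrix.ext_iff_mulVec.2 fun z => ?_)
    rw [Matrix.zero_mulVec]
    by_cases hz : ∀ u, z ≠ N *ᵥ u
    · exact hcon z hz
    push Not at hz
    obtain ⟨u, hu⟩ := hz
    have h1 := hcon (v + z) (fun u' e => hv (u' - u) (by rw [Matrix.mulVec_sub, ← e, ← hu, add_sub_cancel_right]))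
    rwa [Matrix.mulVec_add, hcon v hv, zero_add] at h1
  obtain ⟨τ, hτ⟩ := key v₀ hv₀ hw₀
  -- the image is an eigenspace
  have step : ∀ u : V, (∀ c : F, c ≠ 0 → ∀ z, u + c • v₀ ≠ N *ᵥ z) → N *ᵥ (N *ᵥ u) = τ • (N *ᵥ u) := by
    intro u hu
    by_cases hi : LinearIndependent F ![N *ᵥ u, N *ᵥ v₀]
    swap
    · rw [LinearIndependent.pair_iff] at hi
      push Not at hi
      obtain ⟨s, t, hst, hne⟩ := hi
      by_cases hs : s = 0
      · exact absurd ((smul_eq_zero.1 (by simpa [hs] using hst)).resolve_right hw₀) (hne hs)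
      have e : N *ᵥ u = (-(t / s)) • (N *ᵥ v₀) := by
        linear_combination (norm := skip) s⁻¹ • hst
        match_scalars <;> field_simp <;> ring
      rw [e, Matrix.mulVec_smul, hτ, smul_comm]
    have hc : ∀ c : F, c ≠ 0 → ∃ a : F, N *ᵥ (N *ᵥ u) = a • (N *ᵥ u) + (c * (a - τ)) • (N *ᵥ v₀) := by
      intro c hc
      have hne : N *ᵥ (u + c • v₀) ≠ 0 := fun e => by
        rw [Matrix.mulVec_add, Matrix.mulVec_smul] at e
        exact one_ne_zero (LinearIndependent.pair_iff.1 hi 1 c (by rw [one_smul]; exact e)).1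
      obtain ⟨a, ha⟩ := key _ (hu c hc) hne
      refine ⟨a, ?_⟩
      rw [Matrix.mulVec_add, Matrix.mulVec_smul, Matrix.mulVec_add, Matrix.mulVec_smul, hτ] at ha
      linear_combination (norm := module) ha
    obtain ⟨a, ha⟩ := hc 1 one_ne_zero
    obtain ⟨b, hb⟩ := hc 2 h2
    obtain ⟨e1, e2⟩ := LinearIndependent.pair_iff.1 hi (a - b) (1 * (a - τ) - 2 * (b - τ))
      (by linear_combination (norm := module) hb - ha)
    have ha' : a = τ := by linear_combination 2 * e1 - e2
    rw [ha, ha', sub_self, mul_zero, zero_smul, add_zero]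
  have hall' : ∀ u : V, N *ᵥ (N *ᵥ u) = τ • (N *ᵥ u) := by
    intro u
    by_cases hu : ∀ c : F, c ≠ 0 → ∀ z, u + c • v₀ ≠ N *ᵥ z
    · exact step u hu
    push Not at hu
    obtain ⟨c, hc, z, hz⟩ := hu
    have h1 := step (N *ᵥ z) fun c' hc' z' e => hv₀ (c'⁻¹ • (z' - z)) (by
      rw [Matrix.mulVec_smul, Matrix.mulVec_sub, ← e, add_sub_cancel_left, smul_smul, inv_mul_cancel₀ hc', one_smul])
    rw [← hz, Matrix.mulVec_add, Matrix.mulVec_smul, Matrix.mulVec_add, Matrix.mulVec_smul, hτ] at h1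
    linear_combination (norm := module) h1
  refine ⟨μ, μ + τ, Matrix.ext_iff_mulVec.2 fun u => ?_⟩
  rw [← hN, Matrix.zero_mulVec, show x - (μ + τ) • (1 : M₃) = N - τ • 1 by rw [hN, add_smul, sub_sub],
    ← Matrix.mulVec_mulVec, Matrix.sub_mulVec, Matrix.smul_mulVec, Matrix.one_mulVec, Matrix.mulVec_sub,
    Matrix.mulVec_smul, hall', sub_self]

/-- Cayley–Hamilton in dimension three. -/
theorem cayley_three (x : M₃) :
    (2 : F) • (x * x * x) - (2 * x.trace) • (x * x) + (x.trace * x.trace - (x * x).trace) • x - (2 * x.det) • 1 = 0 := by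
  ext i j
  fin_cases i <;> fin_cases j <;>
    simp [Matrix.mul_apply, Fin.sum_univ_three, Matrix.trace_fin_three, Matrix.det_fin_three] <;> ring

/-- A non-trivial scaling by a cube root of unity makes the cube scalar. -/
theorem cube_scalar (h2 : (2 : F) ≠ 0) {x : M₃} {a : GL (Fin 3) F} {ζ : F} (hζ : ζ ^ 3 = 1) (hζ1 : ζ ≠ 1)
    (h : (a : M₃) * x = ζ • (x * (a : M₃))) : x * x * x = x.det • 1 := by
  have e : (a : M₃) * x * ((a⁻¹ : GL (Fin 3) F) : M₃) = ζ • x := by
    rw [h, Matrix.smul_mul, mul_assoc, Units.mul_inv, mul_one]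
  have e2 : (a : M₃) * (x * x) * ((a⁻¹ : GL (Fin 3) F) : M₃) = (ζ * ζ) • (x * x) := by
    have := congrArg (fun z => z * z) e
    simp only [Matrix.smul_mul, Matrix.mul_smul, smul_smul] at this
    rw [← this]
    simp [mul_assoc]
  have t1 : x.trace = 0 := by
    have h1 := congrArg Matrix.trace e
    rw [Matrix.trace_units_conj, Matrix.trace_smul, smul_eq_mul] at h1
    exact (mul_eq_zero.1 (by linear_combination -h1 : (ζ - 1) * x.trace = 0)).resolve_left (sub_ne_zero.2 hζ1)
  have t2 : (x * x).trace = 0 := by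
    have h1 := congrArg Matrix.trace e2
    rw [Matrix.trace_units_conj, Matrix.trace_smul, smul_eq_mul] at h1
    refine (mul_eq_zero.1 (by linear_combination -h1 : (ζ * ζ - 1) * (x * x).trace = 0)).resolve_left fun h' =>
      hζ1 ?_
    linear_combination hζ - ζ * h'
  have := cayley_three x
  rw [t1, t2] at this
  simp only [mul_zero, zero_smul, sub_zero, add_zero] at this
  have h' : (2 : F) • (x * x * x - x.det • 1) = 0 := by rw [smul_sub, smul_smul]; exact this
  exact sub_eq_zero.1 ((smul_eq_zero.1 h').resolve_left h2)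

/-- An element sending a semisimple element with a quadratic relation into its algebra centralises it. -/
theorem commute_of_algebra (h2 : (2 : F) ≠ 0) {x : M₃} {μ ν : F} (hμν : μ ≠ ν)
    (hx : (x - μ • 1) * (x - ν • 1) = 0) {a : GL (Fin 3) F} {α β : F}
    (h : (a : M₃) * x * ((a⁻¹ : GL (Fin 3) F) : M₃) = α • 1 + β • x) : Commute (a : M₃) x := by
  obtain ⟨E, hE⟩ : ∃ E : M₃, E = (μ - ν)⁻¹ • (x - ν • 1) := ⟨_, rfl⟩
  have hd : μ - ν ≠ 0 := sub_ne_zero.2 hμν
  have hxE : x = μ • E + ν • (1 - E) := by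
    rw [hE]; match_scalars <;> field_simp <;> ring
  have hEE : E * E = E := by
    have : x * x = (μ + ν) • x - (μ * ν) • 1 := by
      simp only [sub_mul, mul_sub, Matrix.smul_mul, Matrix.mul_smul, one_mul, mul_one, smul_smul] at hx
      linear_combination (norm := module) hx
    rw [hE]
    simp only [sub_mul, mul_sub, Matrix.smul_mul, Matrix.mul_smul, one_mul, mul_one, smul_smul, this]
    match_scalars <;> field_simp <;> ring
  obtain ⟨E', hE'⟩ : ∃ E', E' = (a : M₃) * E * ((a⁻¹ : GL (Fin 3) F) : M₃) := ⟨_, rfl⟩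
  have hE'E' : E' * E' = E' := by
    rw [hE']
    calc (a : M₃) * E * ((a⁻¹ : GL (Fin 3) F) : M₃) * ((a : M₃) * E * ((a⁻¹ : GL (Fin 3) F) : M₃))
        = (a : M₃) * (E * E) * ((a⁻¹ : GL (Fin 3) F) : M₃) := by simp [mul_assoc]
      _ = _ := by rw [hEE]
  obtain ⟨s, t, hst⟩ : ∃ s t : F, E' = s • E + t • (1 - E) := by
    refine ⟨(μ - ν)⁻¹ * (α + β * μ - ν), (μ - ν)⁻¹ * (α + β * ν - ν), ?_⟩
    rw [hE', hE, Matrix.mul_smul, Matrix.smul_mul, mul_sub, sub_mul, h, Matrix.mul_smul, mul_one, Matrix.smul_mul,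
      Units.mul_inv]
    match_scalars <;> field_simp <;> ring
  have hsq : (s * s - s) • E + (t * t - t) • (1 - E) = 0 := by
    have h1 := hE'E'
    rw [hst] at h1
    simp only [add_mul, mul_add, sub_mul, mul_sub, Matrix.smul_mul, Matrix.mul_smul, one_mul, mul_one, hEE] at h1
    linear_combination (norm := module) h1
  have hback : E' = E → Commute (a : M₃) x := fun e => by
    have h1 : (a : M₃) * E = E * (a : M₃) := by
      conv_rhs => rw [← e, hE', mul_assoc, Units.inv_mul, mul_one]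
    show _ = _
    rw [hxE]
    simp only [mul_add, add_mul, Matrix.mul_smul, Matrix.smul_mul, mul_sub, sub_mul, mul_one, one_mul, h1]
  have hconj : ∀ c : M₃, E' = c → E = ((a⁻¹ : GL (Fin 3) F) : M₃) * c * (a : M₃) := fun c e => by
    rw [← e, hE']; simp [mul_assoc]
  by_cases hE0 : E = 0
  · exact hback (by rw [hE', hE0]; simp)
  by_cases hE1 : (1 : M₃) - E = 0
  · rw [sub_eq_zero] at hE1
    exact hback (by rw [hE', ← hE1]; simp)
  have hs : s * s - s = 0 := by
    have h1 := congrArg (· * E) hsq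
    simp only [add_mul, Matrix.smul_mul, sub_mul, one_mul, hEE, sub_self, smul_zero, add_zero, zero_mul] at h1
    exact (smul_eq_zero.1 h1).resolve_right hE0
  have ht : t * t - t = 0 := by
    rw [hs, zero_smul, zero_add] at hsq
    exact (smul_eq_zero.1 hsq).resolve_right hE1
  rcases mul_eq_zero.1 (show s * (s - 1) = 0 by linear_combination hs) with s0 | s1 <;>
    rcases mul_eq_zero.1 (show t * (t - 1) = 0 by linear_combination ht) with t0 | t1
  · exact absurd (hconj 0 (by rw [hst, s0, t0]; simp)) (by simpa using hE0)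
  · -- the two projections are not conjugate
    exfalso
    have he : E' = 1 - E := by rw [hst, s0, sub_eq_zero.1 t1]; simp
    have h1 : ((1 : M₃) - (2 : F) • E') = (a : M₃) * (1 - (2 : F) • E) * ((a⁻¹ : GL (Fin 3) F) : M₃) := by
      rw [hE']; simp [mul_sub, sub_mul]
    have h3 := congrArg Matrix.det h1
    rw [Matrix.det_units_conj, he, show (1 : M₃) - (2 : F) • (1 - E) = -(1 - (2 : F) • E) by module,
      Matrix.det_neg, Fintype.card_fin] at h3
    have h4 : ((1 : M₃) - (2 : F) • E) * (1 - (2 : F) • E) = 1 := by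
      simp only [sub_mul, mul_sub, Matrix.smul_mul, Matrix.mul_smul, one_mul, mul_one, hEE]
      module
    have h5 := congrArg Matrix.det h4
    rw [Matrix.det_mul, Matrix.det_one] at h5
    exact h2 (by linear_combination (-(((1 : M₃) - (2 : F) • E).det)) * h3 - 2 * h5)
  · exact hback (by rw [hst, sub_eq_zero.1 s1, t0]; simp)
  · refine absurd ((hconj 1 ?_).trans (show ((a⁻¹ : GL (Fin 3) F) : M₃) * 1 * (a : M₃) = 1 by simp)) fun e => hE1 (by rw [e, sub_self])
    rw [hst, sub_eq_zero.1 s1, sub_eq_zero.1 t1]; simp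

/-- A nilpotent square-zero matrix has rank at most one. -/
theorem exists_rankOne_of_sq {N : M₃} (h : N * N = 0) :
    ∃ v φ : V, φ ⬝ᵥ v = 0 ∧ ∀ z, N *ᵥ z = (φ ⬝ᵥ z) • v := by
  by_cases hN : N = 0
  · exact ⟨0, 0, by simp, fun z => by simp [hN]⟩
  obtain ⟨v, u, hu, hv⟩ : ∃ v u, N *ᵥ u = v ∧ v ≠ 0 := by
    by_contra hc
    push Not at hc
    exact hN (Matrix.ext_iff_mulVec.2 fun z => by rw [Matrix.zero_mulVec]; exact hc _ z rfl)
  have hk : ∀ z, N *ᵥ (N *ᵥ z) = 0 := fun z => by rw [Matrix.mulVec_mulVec, h, Matrix.zero_mulVec]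
  let T := Matrix.toLin' N
  have hle : LinearMap.range T ≤ LinearMap.ker T := by
    rintro _ ⟨z, rfl⟩
    rw [LinearMap.mem_ker, Matrix.toLin'_apply, Matrix.toLin'_apply]; exact hk z
  have hsum := LinearMap.finrank_range_add_finrank_ker T
  rw [finrank_fin_fun] at hsum
  have h1 : finrank F (LinearMap.range T) ≤ 1 := by
    have := Submodule.finrank_mono hle; omega
  have hspan : (F ∙ v) = LinearMap.range T := Submodule.eq_of_le_of_finrank_le
    ((Submodule.span_singleton_le_iff_mem _ _).2 ⟨u, by rw [Matrix.toLin'_apply, hu]⟩)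
    (by rw [finrank_span_singleton hv]; exact h1)
  obtain ⟨i, hi⟩ : ∃ i, v i ≠ 0 := by
    by_contra hc
    push Not at hc
    exact hv (funext hc)
  have hform : ∀ z, N *ᵥ z = (((v i)⁻¹ • N i) ⬝ᵥ z) • v := fun z => by
    obtain ⟨c, hc⟩ := Submodule.mem_span_singleton.1
      (show N *ᵥ z ∈ F ∙ v from hspan ▸ ⟨z, Matrix.toLin'_apply _ _⟩)
    have h2 : c * v i = N i ⬝ᵥ z := congrFun hc i
    rw [← hc, smul_dotProduct, ← h2, smul_eq_mul]
    congr 1
    field_simp
  refine ⟨v, (v i)⁻¹ • N i, ?_, hform⟩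
  have h3 : N *ᵥ v = 0 := by rw [← hu]; exact hk u
  rw [hform] at h3
  exact (smul_eq_zero.1 h3).resolve_right hv

section Eigenlines

variable {E : Type*} [Field E] (f : F →+* E)

local notation "M₃'" => Matrix (Fin 3) (Fin 3) E

theorem diag_of_commute {D c : Matrix (Fin 3) (Fin 3) E} {r : Fin 3 → E} (hr : Function.Injective r)
    (hD : D = Matrix.diagonal r) (h : Commute c D) : ∀ i j, i ≠ j → c i j = 0 := fun i j hij => by
  have h1 := congrFun (congrFun h.eq i) j
  rw [hD, Matrix.mul_diagonal, Matrix.diagonal_mul] at h1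
  exact (mul_eq_zero.1 (show c i j * (r j - r i) = 0 by linear_combination h1)).resolve_right
    (sub_ne_zero.2 fun e => hij (hr e).symm)

/-- The permutation of the eigenlines of an element with three eigenvalues in an extension. -/
theorem exists_perm_hom {x : GL (Fin 3) F} {P : GL (Fin 3) E} {r : Fin 3 → E} (hr : Function.Injective r)
    (hP : ((P⁻¹ : GL (Fin 3) E) : M₃') * (x : M₃).map f * (P : M₃') = Matrix.diagonal r)
    (H : Subgroup (GL (Fin 3) F)) (hH : ∀ k ∈ H, Commute (k * x * k⁻¹) x) :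
    ∃ φ : H →* Equiv.Perm (Fin 3), ∀ k : H, φ k = 1 ↔ Commute (k : GL (Fin 3) F) x := by
  classical
  obtain ⟨T, hT⟩ : ∃ T : GL (Fin 3) F →* GL (Fin 3) E,
      T = (MulAut.conj P⁻¹).toMonoidHom.comp (Matrix.GeneralLinearGroup.map f) := ⟨_, rfl⟩
  have hTx : (T x : M₃') = Matrix.diagonal r := by
    rw [hT, MonoidHom.comp_apply, MulEquiv.coe_toMonoidHom, MulAut.conj_apply, inv_inv, Units.val_mul, Units.val_mul]
    exact hP
  have hTinj : Function.Injective T := by
    rw [hT]
    exact (MulAut.conj P⁻¹).injective.comp fun a b e => Units.ext (Matrix.map_injective f.injective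
      (congrArg (fun z : GL (Fin 3) E => (z : M₃')) e))
  have hcoe : ∀ a b : GL (Fin 3) E, Commute a b → Commute (a : M₃') (b : M₃') := fun a b h => by
    show _ = _; rw [← Units.val_mul, ← Units.val_mul, h.eq]
  have hmon : ∀ k ∈ H, MaxMon.IsMon (T k : M₃') := by
    intro k hk
    have hd := diag_of_commute hr hTx (hcoe _ _ ((hH k hk).map T))
    rw [map_mul, map_mul, map_inv] at hd
    obtain ⟨K, hK⟩ : ∃ K : GL (Fin 3) E, K = (T k)⁻¹ := ⟨_, rfl⟩
    obtain ⟨D', hD'⟩ : ∃ D' : GL (Fin 3) E, D' = T k * T x * (T k)⁻¹ := ⟨_, rfl⟩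
    rw [← hD'] at hd
    have hKD : ∀ i j, r i * (K : M₃') i j = (K : M₃') i j * (D' : M₃') j j := fun i j => by
      have h1 : (T x : M₃') * (K : M₃') = (K : M₃') * (D' : M₃') := by
        rw [← Units.val_mul, ← Units.val_mul, hK, hD']; congr 1; group
      have h2 := congrFun (congrFun h1 i) j
      rw [hTx, Matrix.diagonal_mul, Matrix.mul_apply,
        Finset.sum_eq_single j (fun t _ ht => by rw [hd t j ht, mul_zero]) (by simp)] at h2
      exact h2
    have hmK : MaxMon.IsMon (K : M₃') := fun j => by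
      by_cases hex : ∃ i, (K : M₃') i j ≠ 0
      · obtain ⟨i, hi⟩ := hex
        refine ⟨i, fun l hl => by_contra fun hne => hl (hr ?_)⟩
        have e1 : r i = (D' : M₃') j j := mul_right_cancel₀ hi (by rw [hKD]; ring)
        have e2 : r l = (D' : M₃') j j := mul_right_cancel₀ hne (by rw [hKD]; ring)
        rw [e1, e2]
      · push Not at hex
        exact ⟨0, fun l _ => hex l⟩
    have := hmK.inv
    rwa [hK, inv_inv] at this
  choose π c hc hπ using fun k : H => (hmon k k.2).exists_perm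
  have huniq : ∀ (k : H) (σ : Fin 3 → Fin 3) (d : Fin 3 → E),
      (∀ j, (T k : M₃') *ᵥ Pi.single j 1 = Pi.single (σ j) (d j)) → ∀ j, π k j = σ j := fun k σ d h j => by
    by_contra hne
    have := congrFun ((hπ k j).symm.trans (h j)) (π k j)
    rw [Pi.single_eq_same, Pi.single_eq_of_ne hne] at this
    exact hc k j this
  refine ⟨MonoidHom.mk' π fun a b => Equiv.ext fun j => ?_, fun k => ?_⟩
  · rw [Equiv.Perm.mul_apply]
    refine huniq (a * b) (fun j => π a (π b j)) (fun j => c a (π b j) * c b j) (fun j => ?_) j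
    rw [Subgroup.coe_mul, map_mul, Units.val_mul, ← Matrix.mulVec_mulVec, hπ b,
      show (Pi.single (π b j) (c b j) : Fin 3 → E) = c b j • Pi.single (π b j) 1 by
        rw [← Pi.single_smul, smul_eq_mul, mul_one], Matrix.mulVec_smul, hπ a, ← Pi.single_smul, smul_eq_mul,
      mul_comm]
  · show π k = 1 ↔ _
    constructor
    · intro h1
      refine (?_ : Commute (T k) (T x)).of_map hTinj
      refine Units.ext (Matrix.ext_iff_mulVec.2 fun z => funext fun j => ?_)
      have hj : ∀ z, ((T k : M₃') *ᵥ z) j = c k j * z j := fun z => by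
        simpa [h1] using MaxMon.mon_apply (hπ k) z j
      rw [Units.val_mul, Units.val_mul, ← Matrix.mulVec_mulVec, ← Matrix.mulVec_mulVec, hj, hTx,
        Matrix.mulVec_diagonal, Matrix.mulVec_diagonal, hj]
      ring
    · intro hcom
      have hd := diag_of_commute hr hTx (hcoe _ _ (hcom.map T))
      refine Equiv.ext (huniq k id (fun j => (T k : M₃') j j) fun j => funext fun i => ?_)
      rw [MaxMon.col_apply]
      rcases eq_or_ne i j with rfl | hij
      · rw [id, Pi.single_eq_same]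
      · rw [id, Pi.single_eq_of_ne hij, hd i j hij]

end Eigenlines

/-- A repeated eigenvalue in a perfect field is rational; otherwise there are three eigenlines. -/
theorem split_or_repeated [PerfectField F] (x : GL (Fin 3) F) :
    (∃ (E : Type u) (_ : Field E) (f : F →+* E) (P : GL (Fin 3) E) (r : Fin 3 → E), Function.Injective r ∧
      ((P⁻¹ : GL (Fin 3) E) : Matrix (Fin 3) (Fin 3) E) * (x : M₃).map f * (P : Matrix (Fin 3) (Fin 3) E) =
        Matrix.diagonal r) ∨
    ∃ μ ν : F, ((x : M₃) - μ • 1) * ((x : M₃) - μ • 1) * ((x : M₃) - ν • 1) = 0 := by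
  classical
  open Polynomial in
  obtain ⟨χ, hχ⟩ : ∃ χ, χ = (x : M₃).charpoly := ⟨_, rfl⟩
  have hm : χ.Monic := hχ ▸ Matrix.charpoly_monic _
  have hdeg : χ.natDegree = 3 := by rw [hχ, Matrix.charpoly_natDegree_eq_dim, Fintype.card_fin]
  by_cases hsq : Squarefree χ
  · left
    have hsep : χ.Separable := PerfectField.separable_iff_squarefree.2 hsq
    obtain ⟨f, hf⟩ : ∃ f, f = algebraMap F (AlgebraicClosure F) := ⟨_, rfl⟩
    have hsplit : (χ.map f).Splits := IsAlgClosed.splits _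
    have hnd : (χ.map f).roots.Nodup := Polynomial.nodup_roots (hf ▸ hsep.map)
    have hlen : (χ.map f).roots.toList.length = 3 := by
      rw [Multiset.length_toList, ← hsplit.natDegree_eq_card_roots, Polynomial.natDegree_map, hdeg]
    let r : Fin 3 → AlgebraicClosure F := fun i => (χ.map f).roots.toList[(i : ℕ)]'(by omega)
    have hr : Function.Injective r := fun i j e =>
      Fin.ext ((List.Nodup.getElem_inj_iff (Multiset.coe_nodup.1 (by rwa [Multiset.coe_toList]))).1 e)
    have hroot : ∀ i, ∃ v : Fin 3 → AlgebraicClosure F, v ≠ 0 ∧ (x : M₃).map f *ᵥ v = r i • v := fun i => by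
      have hr0 := Polynomial.isRoot_of_mem_roots (Multiset.mem_toList.1 (List.getElem_mem (n := (i : ℕ))
        (show (i : ℕ) < (χ.map f).roots.toList.length by omega)))
      have hr1 : Polynomial.eval (r i) ((x : M₃).map f).charpoly = 0 := by
        rw [Matrix.charpoly_map, ← hχ]; exact hr0
      rw [Matrix.eval_charpoly] at hr1
      obtain ⟨v, hv, hv'⟩ := Matrix.exists_mulVec_eq_zero_iff.2 hr1
      refine ⟨v, hv, ?_⟩
      rw [Matrix.sub_mulVec, sub_eq_zero] at hv'
      rw [← hv']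
      funext t
      simp [Matrix.scalar_apply, Matrix.mulVec_diagonal, r, hχ, Matrix.charpoly_map]
    choose v hv0 hv using hroot
    have hli : LinearIndependent (AlgebraicClosure F) v :=
      Module.End.eigenvectors_linearIndependent' (Matrix.toLin' ((x : M₃).map f)) r hr v fun i =>
        ⟨Module.End.mem_eigenspace_iff.2 (by rw [Matrix.toLin'_apply]; exact hv i), hv0 i⟩
    obtain ⟨P, hP⟩ := Matrix.linearIndependent_cols_iff_isUnit.1
      (show LinearIndependent (AlgebraicClosure F) (Matrix.of fun i j => v j i).col from hli)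
    refine ⟨AlgebraicClosure F, inferInstance, f, P, r, hr, ?_⟩
    rw [mul_assoc, show (x : M₃).map f * (P : Matrix (Fin 3) (Fin 3) (AlgebraicClosure F)) =
      (P : Matrix (Fin 3) (Fin 3) (AlgebraicClosure F)) * Matrix.diagonal r from ?_, ← mul_assoc, Units.inv_mul, one_mul]
    ext i j
    rw [Matrix.mul_diagonal, hP]
    have := congrFun (hv j) i
    simp only [Pi.smul_apply, smul_eq_mul] at this
    show ((x : M₃).map f *ᵥ v j) i = v j i * r j
    rw [this]; ring
  · right
    open Polynomial in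
    obtain ⟨g, hg, hgd⟩ : ∃ g : F[X], Irreducible g ∧ g * g ∣ χ := by
      by_contra hc
      push Not at hc
      exact hsq ((squarefree_iff_irreducible_sq_not_dvd_of_ne_zero hm.ne_zero).2 hc)
    have hg1 : g.natDegree = 1 := by
      have h1 := Polynomial.natDegree_le_of_dvd hgd hm.ne_zero
      rw [Polynomial.natDegree_mul hg.ne_zero hg.ne_zero, hdeg] at h1
      have := hg.natDegree_pos
      omega
    obtain ⟨μ, hμ⟩ : ∃ μ, g.IsRoot μ :=
      Polynomial.exists_root_of_degree_eq_one ((Polynomial.degree_eq_iff_natDegree_eq hg.ne_zero).2 hg1)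
    have hdvd : (Polynomial.X - Polynomial.C μ) * (Polynomial.X - Polynomial.C μ) ∣ χ :=
      (mul_dvd_mul (Polynomial.dvd_iff_isRoot.2 hμ) (Polynomial.dvd_iff_isRoot.2 hμ)).trans hgd
    obtain ⟨q, hq⟩ := hdvd
    have hqm : q.Monic := ((Polynomial.monic_X_sub_C μ).mul (Polynomial.monic_X_sub_C μ)).of_mul_monic_left (hq ▸ hm)
    have hq1 : q.natDegree = 1 := by
      have := hdeg
      rw [hq, ((Polynomial.monic_X_sub_C μ).mul (Polynomial.monic_X_sub_C μ)).natDegree_mul hqm,
        (Polynomial.monic_X_sub_C μ).natDegree_mul (Polynomial.monic_X_sub_C μ), Polynomial.natDegree_X_sub_C] at this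
      omega
    obtain ⟨ν, hν⟩ : ∃ ν, q = Polynomial.X - Polynomial.C ν :=
      ⟨-q.coeff 0, by rw [map_neg, sub_neg_eq_add]; exact hqm.eq_X_add_C hq1⟩
    refine ⟨μ, ν, ?_⟩
    have h1 := (x : M₃).aeval_self_charpoly
    rw [← hχ, hq, hν] at h1
    simpa [Algebra.algebraMap_eq_smul_one] using h1

end Cfsg.Agent.Classical.SLThree.Hessian
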