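import Cfsg.Agent.Lib.Classical.SLThree.Field
import Cfsg.Agent.Lib.Classical.MaxMonomialLines

/-!
The monomial subgroup of `SL(3, F)` is maximal over fields of at least five elements. A larger group has an
entry zero together with the symmetric entry of the inverse, and conjugates of diagonal elements then force the
products of symmetric entries to be powers of a cube root of unity, which a further conjugate contradicts.
-/

set_option autoImplicit false
set_option linter.unusedSectionVars false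

namespace Cfsg.Agent.Classical.SLThree

open Matrix Module MaxTv MaxMon

variable {F : Type*} [Field F]

local notation "V" => (Fin 3 → F)
local notation "M₃" => Matrix (Fin 3) (Fin 3) F

/-- Three distinct indices. -/
def Dist (a b c : Fin 3) : Prop := a ≠ b ∧ a ≠ c ∧ b ≠ c

theorem Dist.rot {a b c : Fin 3} (h : Dist a b c) : Dist b c a := ⟨h.2.2, h.1.symm, h.2.1.symm⟩

theorem Dist.swap {a b c : Fin 3} (h : Dist a b c) : Dist a c b := ⟨h.2.1, h.1, h.2.2.symm⟩

theorem exists_dist (c : Fin 3) : ∃ a b, Dist c a b := by revert c; unfold Dist; decide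

theorem exists_dist₂ {a b : Fin 3} (h : a ≠ b) : ∃ c, Dist a b c := by
  obtain ⟨c, h1, h2⟩ := exists_third a b
  exact ⟨c, h, h1.symm, h2.symm⟩

theorem Dist.all {a b c : Fin 3} (h : Dist a b c) (i : Fin 3) : i = a ∨ i = b ∨ i = c := by
  revert h; unfold Dist; revert a b c i; decide

theorem Dist.sum {A : Type*} [AddCommMonoid A] {a b c : Fin 3} (h : Dist a b c) (φ : Fin 3 → A) :
    ∑ i, φ i = φ a + φ b + φ c := by
  obtain ⟨h1, h2, h3⟩ := h
  have : (Finset.univ : Finset (Fin 3)) = {a, b, c} := by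
    ext i
    simpa using Dist.all ⟨h1, h2, h3⟩ i
  rw [this, Finset.sum_insert (by simp [h1, h2]), Finset.sum_pair h3, add_assoc]

theorem Dist.prod {a b c : Fin 3} (h : Dist a b c) (φ : Fin 3 → F) : ∏ i, φ i = φ a * φ b * φ c := by
  obtain ⟨h1, h2, h3⟩ := h
  have : (Finset.univ : Finset (Fin 3)) = {a, b, c} := by
    ext i
    simpa using Dist.all ⟨h1, h2, h3⟩ i
  rw [this, Finset.prod_insert (by simp [h1, h2]), Finset.prod_pair h3, mul_assoc]

theorem inv_mul_apply (g : GL (Fin 3) F) (i j : Fin 3) :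
    ∑ t, ((g⁻¹ : GL (Fin 3) F) : M₃) i t * (g : M₃) t j = if i = j then 1 else 0 := by
  rw [← Matrix.mul_apply, ← Units.val_mul, inv_mul_cancel, Units.val_one, Matrix.one_apply]

theorem mul_inv_apply (g : GL (Fin 3) F) (i j : Fin 3) :
    ∑ t, (g : M₃) i t * ((g⁻¹ : GL (Fin 3) F) : M₃) t j = if i = j then 1 else 0 := by
  rw [← Matrix.mul_apply, ← Units.val_mul, mul_inv_cancel, Units.val_one, Matrix.one_apply]

theorem conj_diag_apply {g d : GL (Fin 3) F} {f : Fin 3 → F} (hd : (d : M₃) = Matrix.diagonal f) (i j : Fin 3) :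
    ((g * d * g⁻¹ : GL (Fin 3) F) : M₃) i j =
      ∑ t, (g : M₃) i t * f t * ((g⁻¹ : GL (Fin 3) F) : M₃) t j := by
  rw [Units.val_mul, Units.val_mul, hd, Matrix.mul_apply]
  simp [Matrix.mul_diagonal]

theorem single_of_two {g : M₃} {i j k c : Fin 3} (h : Dist i j k) (hj : g j c = 0) (hk : g k c = 0) :
    g *ᵥ Pi.single c 1 = Pi.single i (g i c) := by
  funext t
  rw [MaxMon.col_apply]
  rcases h.all t with rfl | rfl | rfl
  · rw [Pi.single_eq_same]
  · rw [Pi.single_eq_of_ne h.1.symm, hj]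
  · rw [Pi.single_eq_of_ne h.2.1.symm, hk]

/-- A diagonal element of determinant one with a repeated entry. -/
theorem exists_homology {M : Subgroup (GL (Fin 3) F)} (hM : MonLe M) {μ : F} (hμ : μ ≠ 0) (i : Fin 3) :
    ∃ d ∈ M, ∀ z : V, (d : M₃) *ᵥ z = μ • z + ((μ⁻¹ ^ 2 - μ) * z i) • Pi.single i 1 := by
  obtain ⟨a, b, hab⟩ := exists_dist i
  obtain ⟨f, hf⟩ : ∃ f, f = fun t => if t = i then μ⁻¹ ^ 2 else μ := ⟨_, rfl⟩
  obtain ⟨d, hdM, hd⟩ := hM.diag f (fun t => by rw [hf]; dsimp only; split_ifs <;> simp [hμ]) (by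
    rw [hab.prod, hf]
    simp [hab.1.symm, hab.2.1.symm]
    field_simp)
  refine ⟨d, hdM, fun z => ?_⟩
  funext t
  rw [hd, Matrix.mulVec_diagonal, hf]
  rcases eq_or_ne t i with rfl | ht
  · simp; ring
  · simp [ht]

variable [Fintype F] {M : Subgroup (GL (Fin 3) F)}

/-- A transvection with coordinate centre. -/
theorem specialLinear_le_of_coord (hM : MonLe M) (hq : 5 ≤ Fintype.card F) {c : Fin 3} {φ : V}
    (h : InT M (Pi.single c 1) φ) (hc : φ c = 0) (hφ : φ ≠ 0) : Geo.specialLinear (Fin 3) F ≤ M := by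
  classical
  obtain ⟨a, b, hd, t, ht, hroot⟩ : ∃ a b, Dist c a b ∧ ∃ t : F, t ≠ 0 ∧
      InT M (Pi.single c 1) (t • Pi.single a 1) := by
    obtain ⟨a, b, hd⟩ := exists_dist c
    by_cases ha : φ a = 0
    · refine ⟨b, a, hd.swap, φ b, fun e' => hφ (funext fun l => ?_), ?_⟩
      · rcases hd.all l with rfl | rfl | rfl <;> assumption
      · convert h using 1
        funext l
        rcases hd.all l with rfl | rfl | rfl
        · simp [hc, hd.2.1]
        · simp [ha, hd.2.2]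
        · simp
    obtain ⟨s, hs0, -, hs3⟩ := exists_generic hq
    obtain ⟨f, hf⟩ : ∃ f, f = fun l => if l = a then s⁻¹ ^ 2 else s := ⟨_, rfl⟩
    have hfn : ∀ l, f l ≠ 0 := fun l => by rw [hf]; dsimp only; split_ifs <;> simp [hs0]
    obtain ⟨d, hdM, hdd⟩ := hM.diag f hfn (by
      rw [hd.prod, hf]; simp [hd.1, hd.2.2.symm]; field_simp)
    have h1 := torus_conj h hfn hdM hdd
    rw [show f * Pi.single c 1 = s • (Pi.single c 1 : V) by
      funext l; rw [hf]; rcases eq_or_ne l c with rfl | hl <;> simp_all [hd.1]] at h1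
    refine ⟨a, b, hd, (s ^ 3 - 1) * φ a, mul_ne_zero (sub_ne_zero.2 hs3) ha, ?_⟩
    have h2 := h1.scale_right.add_right (h.neg (by rw [dotProduct_single, mul_one, hc])) (by
      rw [smul_dotProduct, dotProduct_single, mul_one, Pi.div_apply, hc, zero_div, smul_zero])
    convert h2 using 1
    funext l
    rcases hd.all l with rfl | rfl | rfl
    · simp [hd.1, hc]
    · simp [hf]; field_simp; ring
    · simp [hf, hd.2.2.symm]; field_simp; ring
  have hscale : ∀ μ : F, InT M (Pi.single c 1) (μ • Pi.single a 1) := by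
    intro μ
    rcases eq_or_ne μ 0 with rfl | hμ
    · rw [zero_smul]; exact InT.zero_right _
    have hμt : μ / t ≠ 0 := div_ne_zero hμ ht
    obtain ⟨d, hdM, hdd⟩ := hM.diag (pairFun c b (μ / t)) (pairFun_ne hμt) (pairFun_prod hd.2.1 hμt)
    have h1 := torus_conj hroot (pairFun_ne hμt) hdM hdd
    rw [show pairFun c b (μ / t) * Pi.single c 1 = (μ / t) • (Pi.single c 1 : V) by
      funext l; rcases eq_or_ne l c with rfl | hl <;> simp_all [pairFun]] at h1
    convert h1.scale_right using 1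
    funext l
    rcases eq_or_ne l a with rfl | hl
    · simp [pairFun_other hd.1.symm hd.2.2]; field_simp
    · simp [hl]
  refine Exact.top fun i j hij x => ⟨fun _ => trivial, fun _ => ?_⟩
  show InT M (Pi.single i 1) (x • Pi.single j 1)
  obtain ⟨σ, hσc, hσa⟩ : ∃ σ : Equiv.Perm (Fin 3), σ c = i ∧ σ a = j := by
    have := hd.1
    revert hij this; clear * -; revert c a i j; decide
  set ε : F := ((Equiv.Perm.sign σ : ℤ) : F) with hε
  have hε2 : ε * ε = 1 := by rcases Int.units_eq_one_or (Equiv.Perm.sign σ) with h | h <;> simp [hε, h]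
  obtain ⟨m, hm, hmm, hmd⟩ := exists_mon σ (Function.update (1 : V) b ε) (fun l => by
    by_cases hl : l = b
    · subst hl; simpa using left_ne_zero_of_mul_eq_one hε2
    · simp [hl])
  have hmM : m ∈ M := hM m hmm (by
    rw [hmd, Finset.prod_update_of_mem (Finset.mem_univ b)]; simpa [← hε] using hε2)
  have h1 := (hscale x).conj hmM
  convert h1 using 1
  · rw [hm, hσc, Function.update_of_ne hd.2.1, Pi.one_apply]
  · refine dotProduct_eq _ _ fun z => ?_
    obtain ⟨w, rfl⟩ : ∃ w, z = (m : M₃) *ᵥ w := ⟨_, (mulVec_inv_cancel m z).symm⟩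
    rw [vecMul_inv_dot, smul_dotProduct, smul_dotProduct, single_dotProduct, single_dotProduct, ← hσa,
      mon_apply hm w a, Function.update_of_ne hd.2.2, Pi.one_apply, one_mul]

/-- An element fixing a coordinate line with something outside the block. -/
theorem specialLinear_le_of_upper (hM : MonLe M) (hq : 5 ≤ Fintype.card F) {k : GL (Fin 3) F} (hk : k ∈ M)
    {c j : Fin 3} {ν : F} (hkc : (k : M₃) *ᵥ Pi.single c 1 = Pi.single c ν) (hj : j ≠ c)
    (hkj : (k : M₃) c j ≠ 0) : Geo.specialLinear (Fin 3) F ≤ M := by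
  classical
  obtain ⟨K, hK⟩ : ∃ K : M₃, K = ((k⁻¹ : GL (Fin 3) F) : M₃) := ⟨_, rfl⟩
  obtain ⟨μ, hμ0, -, hμ3⟩ := exists_generic hq
  obtain ⟨d, hdM, hd⟩ := exists_homology hM hμ0 c
  obtain ⟨d', hd'M, hd'⟩ := exists_homology hM (inv_ne_zero hμ0) c
  have hk0 : ∀ i, i ≠ c → (k : M₃) i c = 0 := fun i hi => by
    rw [← MaxMon.col_apply (k : M₃) i c, hkc, Pi.single_eq_of_ne hi]
  have hcc : (k : M₃) c c = ν := by rw [← MaxMon.col_apply (k : M₃) c c, hkc, Pi.single_eq_same]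
  obtain ⟨a, b, hab⟩ := exists_dist c
  have hKc : K c c * ν = 1 := by
    have := inv_mul_apply k c c
    rwa [hab.sum, hk0 a hab.1.symm, hk0 b hab.2.1.symm, mul_zero, mul_zero, add_zero, add_zero, hcc, if_pos rfl,
      ← hK] at this
  obtain ⟨φ, hφ⟩ : ∃ φ : V, φ = ((1 - μ ^ 3) * ν) • K c + (μ ^ 3 - 1) • Pi.single c 1 := ⟨_, rfl⟩
  refine specialLinear_le_of_coord hM hq (c := c) (φ := φ)
    ⟨d' * (k * d * k⁻¹), mul_mem hd'M (mul_mem (mul_mem hk hdM) (inv_mem hk)), fun z => ?_⟩ ?_ ?_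
  · obtain ⟨w, hw⟩ : ∃ w, w = (K *ᵥ z) c := ⟨_, rfl⟩
    have hdot : φ ⬝ᵥ z = (1 - μ ^ 3) * ν * w + (μ ^ 3 - 1) * z c := by
      rw [hφ, add_dotProduct, smul_dotProduct, smul_dotProduct, single_dotProduct, hw, smul_eq_mul, smul_eq_mul,
        one_mul]
      rfl
    rw [hdot, Units.val_mul, Units.val_mul, Units.val_mul, ← Matrix.mulVec_mulVec, ← Matrix.mulVec_mulVec,
      ← Matrix.mulVec_mulVec, hd, Matrix.mulVec_add, Matrix.mulVec_smul, Matrix.mulVec_smul, mulVec_inv_cancel,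
      hkc, ← hK, ← hw, show (Pi.single c ν : V) = ν • Pi.single c 1 by rw [← Pi.single_smul, smul_eq_mul, mul_one],
      hd']
    funext l
    rcases eq_or_ne l c with rfl | hl
    · simp; field_simp; ring
    · simp [hl]; field_simp
  · rw [hφ]; simp; linear_combination (1 - μ ^ 3) * hKc
  · intro h0
    obtain ⟨l, hl⟩ := exists_dist₂ hj.symm
    have hKj : ∀ t, t ≠ c → K c t = 0 := fun t ht => by
      have := congrFun h0 t
      simpa [hφ, ht, sub_eq_zero, Ne.symm hμ3, left_ne_zero_of_mul_eq_one ((mul_comm _ _).trans hKc)] using this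
    have := inv_mul_apply k c j
    rw [hl.sum, ← hK, hKj j hj, hKj l hl.2.1.symm, zero_mul, zero_mul, add_zero, add_zero, if_neg hj.symm,
      mul_eq_zero] at this
    exact hkj (this.resolve_left (left_ne_zero_of_mul_eq_one hKc))

/-- Symmetric zeros. -/
theorem zero_symm (hM : MonLe M) (hq : 5 ≤ Fintype.card F) (hS : ¬ Geo.specialLinear (Fin 3) F ≤ M)
    {g : GL (Fin 3) F} (hg : g ∈ M) {i c : Fin 3} (h0 : (g : M₃) i c = 0) :
    ((g⁻¹ : GL (Fin 3) F) : M₃) c i = 0 := by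
  classical
  by_contra hne
  obtain ⟨μ, hμ0, -, hμ3⟩ := exists_generic hq
  obtain ⟨d, hdM, hd⟩ := exists_homology hM hμ0 i
  have hk : ∀ z : V, ((g⁻¹ * d * g : GL (Fin 3) F) : M₃) *ᵥ z =
      μ • z + ((μ⁻¹ ^ 2 - μ) * ((g : M₃) *ᵥ z) i) • (((g⁻¹ : GL (Fin 3) F) : M₃) *ᵥ Pi.single i 1) := fun z => by
    rw [Units.val_mul, Units.val_mul, ← Matrix.mulVec_mulVec, ← Matrix.mulVec_mulVec, hd, Matrix.mulVec_add,
      Matrix.mulVec_smul, Matrix.mulVec_smul, inv_mulVec_cancel]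
  obtain ⟨j, hj, hgj⟩ : ∃ j, j ≠ c ∧ (g : M₃) i j ≠ 0 := by
    by_contra hc
    push Not at hc
    have := mul_inv_apply g i i
    rw [Finset.sum_eq_zero (fun t _ => by
      rcases eq_or_ne t c with rfl | ht
      · rw [h0, zero_mul]
      · rw [hc t ht, zero_mul]), if_pos rfl] at this
    exact zero_ne_one this
  refine hS (specialLinear_le_of_upper hM hq (mul_mem (mul_mem (inv_mem hg) hdM) hg) (c := c) (ν := μ) ?_ hj ?_)
  · rw [hk, MaxMon.col_apply, h0, mul_zero, zero_smul, add_zero, ← Pi.single_smul, smul_eq_mul, mul_one]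
  · rw [← MaxMon.col_apply ((g⁻¹ * d * g : GL (Fin 3) F) : M₃) c j, hk]
    simp only [Pi.add_apply, Pi.smul_apply, MaxMon.col_apply, smul_eq_mul, Pi.single_eq_of_ne hj.symm, mul_zero,
      zero_add]
    refine mul_ne_zero (mul_ne_zero ?_ hgj) hne
    intro h
    rw [sub_eq_zero, inv_pow] at h
    exact hμ3 (by field_simp at h; linear_combination -h)

/-- A vanishing diagonal entry vanishes in the inverse. -/
theorem diag_symm (hM : MonLe M) (hq : 5 ≤ Fintype.card F) (hS : ¬ Geo.specialLinear (Fin 3) F ≤ M)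
    {g : GL (Fin 3) F} (hg : g ∈ M) {f : V} (hf : ∀ i, f i ≠ 0) (hp : ∏ i, f i = 1) {c : Fin 3}
    (h : ∑ t, ((g⁻¹ : GL (Fin 3) F) : M₃) c t * f t * (g : M₃) t c = 0) :
    ∑ t, ((g⁻¹ : GL (Fin 3) F) : M₃) c t * (f t)⁻¹ * (g : M₃) t c = 0 := by
  classical
  obtain ⟨d, hdM, hd⟩ := hM.diag f hf hp
  obtain ⟨d', hd'M, hd'⟩ := hM.diag (fun t => (f t)⁻¹) (fun t => inv_ne_zero (hf t))
    (by rw [Finset.prod_inv_distrib, hp, inv_one])
  have hdd : d * d' = 1 := Units.ext (by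
    rw [Units.val_mul, hd, hd', Matrix.diagonal_mul_diagonal]
    simp [hf])
  have e : (g⁻¹ * d * g)⁻¹ = g⁻¹ * d' * g⁻¹⁻¹ := by
    rw [show d' = d⁻¹ from eq_inv_of_mul_eq_one_right hdd]; simp [mul_assoc]
  have := zero_symm hM hq hS (mul_mem (mul_mem (inv_mem hg) hdM) hg) (i := c) (c := c) (by
    have := conj_diag_apply (g := g⁻¹) hd c c
    rw [inv_inv] at this
    rwa [this])
  rw [e, conj_diag_apply hd', inv_inv] at this
  exact this

/-- The products at a zero are halves. -/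
theorem half (hM : MonLe M) (hq : 5 ≤ Fintype.card F) (hS : ¬ Geo.specialLinear (Fin 3) F ≤ M)
    {g : GL (Fin 3) F} (hg : g ∈ M) {i a b c : Fin 3} (hd : Dist i a b) (h0 : (g : M₃) i c = 0)
    (hP : ((g⁻¹ : GL (Fin 3) F) : M₃) c a * (g : M₃) a c ≠ 0)
    (hP' : ((g⁻¹ : GL (Fin 3) F) : M₃) c b * (g : M₃) b c ≠ 0) :
    2 * (((g⁻¹ : GL (Fin 3) F) : M₃) c a * (g : M₃) a c) = 1 ∧
      2 * (((g⁻¹ : GL (Fin 3) F) : M₃) c b * (g : M₃) b c) = 1 := by
  obtain ⟨p, hp⟩ : ∃ p, p = ((g⁻¹ : GL (Fin 3) F) : M₃) c a * (g : M₃) a c := ⟨_, rfl⟩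
  obtain ⟨p', hp'⟩ : ∃ p', p' = ((g⁻¹ : GL (Fin 3) F) : M₃) c b * (g : M₃) b c := ⟨_, rfl⟩
  rw [← hp] at hP ⊢
  rw [← hp'] at hP' ⊢
  have hs : p + p' = 1 := by
    have := inv_mul_apply g c c
    rwa [hd.sum, h0, mul_zero, zero_add, ← hp, ← hp', if_pos rfl] at this
  obtain ⟨r, hr⟩ : ∃ r, r = -(p' / p) := ⟨_, rfl⟩
  have hr0 : r ≠ 0 := hr ▸ neg_ne_zero.2 (div_ne_zero hP' hP)
  have := diag_symm hM hq hS hg (pairFun_ne hr0) (pairFun_prod (a := a) (b := i) hd.1.symm hr0) (c := c) (by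
    rw [hd.sum, h0, mul_zero, zero_add, pairFun_left, pairFun_other hd.2.2.symm hd.2.1.symm, mul_one, ← hp',
      mul_right_comm, ← hp, hr]
    field_simp
    ring)
  rw [hd.sum, h0, mul_zero, zero_add, pairFun_left, pairFun_other hd.2.2.symm hd.2.1.symm, inv_one, mul_one,
    ← hp', mul_right_comm, ← hp, hr] at this
  have h2 : p * p = p' * p' := by field_simp at this; linear_combination -this
  have h3 : p = p' := by linear_combination h2 - (p - p') * hs
  exact ⟨by linear_combination h3 + hs, by linear_combination hs - h3⟩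

/-- The pattern a half and two quarters is impossible over five or seven elements. -/
theorem quarter_false (hM : MonLe M) (hq : 5 ≤ Fintype.card F) (hS : ¬ Geo.specialLinear (Fin 3) F ≤ M)
    (hsmall : (5 : F) = 0 ∨ (7 : F) = 0) {g : GL (Fin 3) F} (hg : g ∈ M) {i a b x : Fin 3} (hd : Dist i a b)
    (hi : 2 * (((g⁻¹ : GL (Fin 3) F) : M₃) x i * (g : M₃) i x) = 1)
    (ha : 4 * (((g⁻¹ : GL (Fin 3) F) : M₃) x a * (g : M₃) a x) = 1) : False := by
  have hb : 4 * (((g⁻¹ : GL (Fin 3) F) : M₃) x b * (g : M₃) b x) = 1 := by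
    have := inv_mul_apply g x x
    rw [hd.sum, if_pos rfl] at this
    linear_combination 4 * this - 2 * hi - ha
  have key : ∀ u v w u' v' w' : F, u * u' = 1 → v * v' = 1 → w * w' = 1 → u * v * w = 1 →
      2 * u + v + w = 0 → 2 * u' + v' + w' ≠ 0 → False := fun u v w u' v' w' e1 e2 e3 e4 e5 e6 => by
    obtain ⟨f, hf⟩ : ∃ f : V, f = fun t => if t = i then u else if t = a then v else w := ⟨_, rfl⟩
    have fi : f i = u := by simp [hf]
    have fa : f a = v := by simp [hf, hd.1.symm]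
    have fb : f b = w := by simp [hf, hd.2.1.symm, hd.2.2.symm]
    have hfn : ∀ t, f t ≠ 0 := fun t => by
      rcases hd.all t with rfl | rfl | rfl
      · rw [fi]; exact left_ne_zero_of_mul_eq_one e1
      · rw [fa]; exact left_ne_zero_of_mul_eq_one e2
      · rw [fb]; exact left_ne_zero_of_mul_eq_one e3
    have h4 : (4 : F) ≠ 0 := left_ne_zero_of_mul_eq_one ha
    have := diag_symm hM hq hS hg hfn (by rw [hd.prod, fi, fa, fb]; exact e4) (c := x) (by
      rw [hd.sum, fi, fa, fb]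
      refine (mul_eq_zero.1 (?_ : (4 : F) * _ = 0)).resolve_left h4
      linear_combination e5 + 2 * u * hi + v * ha + w * hb)
    rw [hd.sum, fi, fa, fb, inv_eq_of_mul_eq_one_right e1, inv_eq_of_mul_eq_one_right e2,
      inv_eq_of_mul_eq_one_right e3] at this
    exact e6 (by linear_combination 4 * this - 2 * u' * hi - v' * ha - w' * hb)
  rcases hsmall with h | h
  · refine key 2 2 4 3 3 4 (by linear_combination h) (by linear_combination h) (by linear_combination 3 * h)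
      (by linear_combination 3 * h) (by linear_combination 2 * h) fun e => ?_
    have h2 : (2 : F) ≠ 0 := left_ne_zero_of_mul_eq_one hi
    exact h2 (by linear_combination 3 * h - e)
  · refine key 6 4 5 6 2 3 (by linear_combination 5 * h) (by linear_combination h) (by linear_combination 2 * h)
      (by linear_combination 17 * h) (by linear_combination 3 * h) fun e => ?_
    exact one_ne_zero (α := F) (by linear_combination 5 * h - 2 * e)

/-- Every element fixing a coordinate line is monomial. -/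
theorem fixMon_three (hM : MonLe M) (hq : 5 ≤ Fintype.card F) (hS : ¬ Geo.specialLinear (Fin 3) F ≤ M) :
    FixMon M := by
  classical
  intro k hk c ν hkc
  obtain ⟨a, b, hd⟩ := exists_dist c
  obtain ⟨K, hK⟩ : ∃ K : M₃, K = ((k⁻¹ : GL (Fin 3) F) : M₃) := ⟨_, rfl⟩
  have hν : ν ≠ 0 := fun e => by
    have h1 := congrArg (fun z => ((k⁻¹ : GL (Fin 3) F) : M₃) *ᵥ z) hkc
    have h2 := congrFun h1 c
    simp only [inv_mulVec_cancel, e, Pi.single_zero, Matrix.mulVec_zero, Pi.single_eq_same, Pi.zero_apply] at h2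
    exact one_ne_zero h2
  have hk0 : ∀ t, t ≠ c → (k : M₃) t c = 0 := fun t ht => by
    rw [← MaxMon.col_apply (k : M₃) t c, hkc, Pi.single_eq_of_ne ht]
  have hkr : ∀ t, t ≠ c → (k : M₃) c t = 0 := fun t ht => by
    by_contra hne
    exact hS (specialLinear_le_of_upper hM hq hk hkc ht hne)
  have hKc0 : ∀ t, t ≠ c → K c t = 0 ∧ K t c = 0 := fun t ht =>
    ⟨by rw [hK]; exact zero_symm hM hq hS hk (hk0 t ht), by rw [hK]; exact zero_symm hM hq hS hk (hkr t ht)⟩
  -- a zero in the block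
  have hdiag : ∀ {a b}, Dist c a b → (k : M₃) b a = 0 → IsMon (k : M₃) := by
    intro a b hd h0
    have hcol : (k : M₃) *ᵥ Pi.single a 1 = Pi.single a ((k : M₃) a a) :=
      single_of_two hd.rot h0 (hkr a hd.1.symm)
    have hab : (k : M₃) a b = 0 := by
      by_contra hne
      exact hS (specialLinear_le_of_upper hM hq hk hcol hd.2.2.symm hne)
    refine isMon_of_cols fun t => ?_
    rcases hd.all t with rfl | rfl | rfl
    · exact ⟨_, _, hkc⟩
    · exact ⟨_, _, hcol⟩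
    · exact ⟨t, _, single_of_two hd.rot.rot (hkr t hd.2.1.symm) hab⟩
  have hanti : ∀ {a b}, Dist c a b → (k : M₃) a a = 0 → IsMon (k : M₃) := by
    intro a b hd h0
    have hKaa : K a a = 0 := by rw [hK]; exact zero_symm hM hq hS hk h0
    have h1 := mul_inv_apply k a a
    rw [hd.sum, hk0 a hd.1.symm, h0, zero_mul, zero_mul, zero_add, zero_add, if_pos rfl, ← hK] at h1
    have h2 := mul_inv_apply k b a
    rw [hd.sum, hk0 b hd.2.1.symm, ← hK, hKaa, zero_mul, mul_zero, zero_add, zero_add, if_neg hd.2.2.symm,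
      mul_eq_zero, or_iff_left (right_ne_zero_of_mul_eq_one h1)] at h2
    refine isMon_of_cols fun t => ?_
    rcases hd.all t with rfl | rfl | rfl
    · exact ⟨_, _, hkc⟩
    · exact ⟨b, _, single_of_two hd.rot.rot (hkr t hd.1.symm) h0⟩
    · exact ⟨a, _, single_of_two hd.rot h2 (hkr t hd.2.1.symm)⟩
  by_contra hmon
  have hba : (k : M₃) b a ≠ 0 := fun e => hmon (hdiag hd e)
  have hab : (k : M₃) a b ≠ 0 := fun e => hmon (hdiag hd.swap e)
  have haa : (k : M₃) a a ≠ 0 := fun e => hmon (hanti hd e)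
  have hne : ∀ {s t}, (k : M₃) s t ≠ 0 → K t s ≠ 0 := fun {s t} h e => h (by
    have := zero_symm hM hq hS (inv_mem hk) (i := t) (c := s) (by rw [← hK, e])
    rwa [inv_inv] at this)
  obtain ⟨h2a, h2b⟩ := half hM hq hS hk hd (c := a) (hkr a hd.1.symm)
    (mul_ne_zero (hK ▸ hne haa) haa) (mul_ne_zero (hK ▸ hne hba) hba)
  obtain ⟨-, h2c⟩ := half hM hq hS (inv_mem hk) hd (c := a) (hK ▸ (hKc0 a hd.1.symm).1)
    (by rw [inv_inv, ← hK]; exact mul_ne_zero haa (hne haa))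
    (by rw [inv_inv, ← hK]; exact mul_ne_zero hab (hne hab))
  rw [inv_inv, ← hK] at h2c
  rw [← hK] at h2a h2b
  have h2 : (2 : F) ≠ 0 := left_ne_zero_of_mul_eq_one h2a
  by_cases hρ : ∃ ρ : F, ρ ≠ 0 ∧ ρ ^ 4 ≠ 1
  · obtain ⟨ρ, hρ0, hρ4⟩ := hρ
    obtain ⟨z, hz⟩ : ∃ z, z = (k : M₃) a b * (k : M₃) b a / (k : M₃) a a ^ 2 := ⟨_, rfl⟩
    have hz0 : z ≠ 0 := hz ▸ div_ne_zero (mul_ne_zero hab hba) (pow_ne_zero _ haa)
    obtain ⟨f, hf⟩ : ∃ f : V, f = fun t => if t = c then z / ρ else if t = a then 1 else ρ / z := ⟨_, rfl⟩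
    have fc : f c = z / ρ := by simp [hf]
    have fa : f a = 1 := by simp [hf, hd.1.symm]
    have fb : f b = ρ / z := by simp [hf, hd.2.1.symm, hd.2.2.symm]
    have hfn : ∀ t, f t ≠ 0 := fun t => by
      rcases hd.all t with rfl | rfl | rfl <;> simp [fc, fa, fb, hz0, hρ0]
    obtain ⟨d, hdM, hdd⟩ := hM.diag f hfn (by rw [hd.prod, fc, fa, fb]; field_simp)
    obtain ⟨d', hd'⟩ := exists_diag (fun t => (f t)⁻¹) fun t => inv_ne_zero (hfn t)
    have hinv : d⁻¹ = d' := inv_eq_of_mul_eq_one_right (Units.ext (by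
      rw [Units.val_mul, hdd, hd', Matrix.diagonal_mul_diagonal]; simp [hfn]))
    have hgapp : ∀ s t, ((k * d * k : GL (Fin 3) F) : M₃) s t = ∑ l, (k : M₃) s l * f l * (k : M₃) l t := by
      intro s t
      rw [Units.val_mul, Units.val_mul, hdd, Matrix.mul_apply]
      simp [Matrix.mul_diagonal]
    have hGapp : ∀ s t, (((k * d * k)⁻¹ : GL (Fin 3) F) : M₃) s t = ∑ l, K s l * (f l)⁻¹ * K l t := by
      intro s t
      rw [_root_.mul_inv_rev, _root_.mul_inv_rev, hinv, Units.val_mul, Units.val_mul, hd', ← hK, ← mul_assoc,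
        Matrix.mul_apply]
      simp [Matrix.mul_diagonal]
    have hg0 : ((k * d * k : GL (Fin 3) F) : M₃) c a = 0 := by
      rw [hgapp, hd.sum, hkr a hd.1.symm, hkr b hd.2.1.symm]; ring
    have hP : 4 * ρ * ((((k * d * k)⁻¹ : GL (Fin 3) F) : M₃) a a * ((k * d * k : GL (Fin 3) F) : M₃) a a) =
        (1 + ρ) ^ 2 := by
      rw [hgapp, hGapp, hd.sum, hd.sum, hk0 a hd.1.symm, (hKc0 a hd.1.symm).2, fa, fb]
      have e1 : K a a = 1 / (2 * (k : M₃) a a) := by field_simp; linear_combination h2a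
      have e2 : K a b = 1 / (2 * (k : M₃) b a) := by field_simp; linear_combination h2b
      have e3 : K b a = 1 / (2 * (k : M₃) a b) := by field_simp; linear_combination h2c
      rw [e1, e2, e3, hz]
      field_simp
      ring
    have hPne : ((((k * d * k)⁻¹ : GL (Fin 3) F) : M₃) a a * ((k * d * k : GL (Fin 3) F) : M₃) a a) ≠ 0 :=
      fun e => hρ4 (by
        rw [e, mul_zero, eq_comm, sq_eq_zero_iff] at hP
        linear_combination (ρ ^ 3 - ρ ^ 2 + ρ - 1) * hP)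
    have hsum := inv_mul_apply (k * d * k) a a
    rw [hd.sum, hg0, mul_zero, zero_add, if_pos rfl] at hsum
    have h := (half hM hq hS (mul_mem (mul_mem hk hdM) hk) hd hg0 hPne (fun e => hρ4 (by
      rw [e, add_zero] at hsum
      rw [hsum, mul_one] at hP
      have : (ρ - 1) ^ 2 = 0 := by linear_combination -hP
      rw [sq_eq_zero_iff, sub_eq_zero] at this
      rw [this, one_pow]))).1
    exact hρ4 (by linear_combination (ρ ^ 2 - 1) * (2 * ρ * h - hP))
  push Not at hρ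
  have h5 : (5 : F) = 0 := by
    obtain ⟨u, hu⟩ := IsCyclic.exists_ofOrder_eq_natCard (α := Fˣ)
    have h4 : orderOf u ∣ 4 := orderOf_dvd_of_pow_eq_one (Units.ext (by simpa using hρ u u.ne_zero))
    rw [hu, Nat.card_units, Nat.card_eq_fintype_card] at h4
    have := Nat.le_of_dvd (by norm_num) h4
    have h5 : Fintype.card F = 5 := by omega
    have := FiniteField.cast_card_eq_zero F
    rw [h5] at this
    exact_mod_cast this
  -- a signed transposition in the middle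
  obtain ⟨m, hm, hmm, hmd⟩ := exists_mon (Equiv.swap c a) (Function.update (1 : V) a (-1)) (fun l => by
    by_cases hl : l = a
    · subst hl; simp
    · simp [hl])
  have hmM : m ∈ M := hM m hmm (by
    rw [hmd, Finset.prod_update_of_mem (Finset.mem_univ a), Equiv.Perm.sign_swap hd.1]
    simp)
  have m1 : (m : M₃) *ᵥ Pi.single c 1 = Pi.single a 1 := by
    rw [hm, Equiv.swap_apply_left, Function.update_of_ne hd.1, Pi.one_apply]
  have m2 : (m : M₃) *ᵥ Pi.single a 1 = -Pi.single c 1 := by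
    rw [hm, Equiv.swap_apply_right, Function.update_self, Pi.single_neg]
  have m3 : (m : M₃) *ᵥ Pi.single b 1 = Pi.single b 1 := by
    rw [hm, Equiv.swap_apply_of_ne_of_ne hd.2.1.symm hd.2.2.symm, Function.update_of_ne hd.2.2.symm, Pi.one_apply]
  have n1 : ((m⁻¹ : GL (Fin 3) F) : M₃) *ᵥ Pi.single a 1 = Pi.single c 1 := by rw [← m1, inv_mulVec_cancel]
  have n2 : ((m⁻¹ : GL (Fin 3) F) : M₃) *ᵥ Pi.single c 1 = -Pi.single a 1 := by
    rw [← neg_neg (Pi.single c 1 : V), ← m2, Matrix.mulVec_neg, inv_mulVec_cancel]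
  have n3 : ((m⁻¹ : GL (Fin 3) F) : M₃) *ᵥ Pi.single b 1 = Pi.single b 1 := by
    conv_lhs => rw [← m3]
    rw [inv_mulVec_cancel]
  have hcolv : ∀ (g : M₃) (t : Fin 3), g *ᵥ Pi.single t 1 =
      g c t • Pi.single c 1 + g a t • Pi.single a 1 + g b t • Pi.single b 1 := fun g t => by
    funext l
    rw [MaxMon.col_apply]
    rcases hd.all l with rfl | rfl | rfl <;>
      simp [hd.1, hd.1.symm, hd.2.1, hd.2.1.symm, hd.2.2, hd.2.2.symm]
  have hga : ((k * m * k : GL (Fin 3) F) : M₃) *ᵥ Pi.single a 1 =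
      -((k : M₃) a a • Pi.single c ν) + (k : M₃) b a • ((k : M₃) *ᵥ Pi.single b 1) := by
    rw [Units.val_mul, Units.val_mul, ← Matrix.mulVec_mulVec, ← Matrix.mulVec_mulVec, hcolv (k : M₃) a,
      hkr a hd.1.symm, zero_smul, zero_add, Matrix.mulVec_add, Matrix.mulVec_smul, Matrix.mulVec_smul, m2, m3,
      Matrix.mulVec_add, Matrix.mulVec_smul, Matrix.mulVec_smul, Matrix.mulVec_neg, hkc, smul_neg]
  have hGt : ∀ t, (((k * m * k)⁻¹ : GL (Fin 3) F) : M₃) a t =
      -(K c t * K a a) + K a t * K a c + K b t * K a b := fun t => by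
    rw [← MaxMon.col_apply ((((k * m * k)⁻¹ : GL (Fin 3) F)) : M₃) a t, _root_.mul_inv_rev, _root_.mul_inv_rev,
      Units.val_mul, Units.val_mul, ← Matrix.mulVec_mulVec, ← Matrix.mulVec_mulVec, ← hK, hcolv K t]
    simp only [Matrix.mulVec_add, Matrix.mulVec_smul, n1, n2, n3, Matrix.mulVec_neg, Pi.add_apply, Pi.smul_apply,
      Pi.neg_apply, MaxMon.col_apply, smul_eq_mul]
    ring
  refine quarter_false hM hq hS (Or.inl h5) (mul_mem (mul_mem hk hmM) hk) hd (x := a) ?_ ?_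
  · rw [hGt, ← MaxMon.col_apply ((k * m * k : GL (Fin 3) F) : M₃) c a, hga]
    have hcc : K c c * ν = 1 := by
      have := inv_mul_apply k c c
      rwa [hd.sum, hk0 a hd.1.symm, hk0 b hd.2.1.symm, mul_zero, mul_zero, add_zero, add_zero, ← hK,
        ← MaxMon.col_apply (k : M₃) c c, hkc, Pi.single_eq_same, if_pos rfl] at this
    simp [(hKc0 a hd.1.symm).2, (hKc0 b hd.2.1.symm).2, hkr b hd.2.1.symm]
    linear_combination h2a + 2 * K a a * (k : M₃) a a * hcc
  · rw [hGt, ← MaxMon.col_apply ((k * m * k : GL (Fin 3) F) : M₃) a a, hga]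
    simp [(hKc0 a hd.1.symm).1, (hKc0 a hd.1.symm).2, hd.1.symm]
    linear_combination h2b + 2 * (k : M₃) b a * K a b * h2c

/-- No column of a non-monomial element is a coordinate column. -/
theorem no_single (hM : MonLe M) (hF : FixMon M) {g : GL (Fin 3) F} (hg : g ∈ M) (hmon : ¬ IsMon (g : M₃))
    {i j k c : Fin 3} (h : Dist i j k) (hj : (g : M₃) j c = 0) (hk : (g : M₃) k c = 0) : False := by
  obtain ⟨μ, hh⟩ : ∃ μ, (g : M₃) *ᵥ Pi.single c 1 = Pi.single i μ := ⟨_, single_of_two h hj hk⟩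
  set ε : F := ((Equiv.Perm.sign (Equiv.swap i c) : ℤ) : F) with hε
  have hε2 : ε * ε = 1 := by
    rcases Int.units_eq_one_or (Equiv.Perm.sign (Equiv.swap i c)) with h | h <;> simp [hε, h]
  obtain ⟨m, hm, hmm, hmd⟩ := exists_mon (Equiv.swap i c) (Function.update (1 : V) i ε) (fun l => by
    by_cases hl : l = i
    · subst hl; simpa using left_ne_zero_of_mul_eq_one hε2
    · simp [hl])
  have hmM : m ∈ M := hM m hmm (by
    rw [hmd, Finset.prod_update_of_mem (Finset.mem_univ i), ← hε]; simpa using hε2)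
  have h1 : ((m * g : GL (Fin 3) F) : M₃) *ᵥ Pi.single c 1 = Pi.single c (μ * ε) := by
    rw [Units.val_mul, ← Matrix.mulVec_mulVec, hh, show (Pi.single i μ : V) = μ • Pi.single i 1 by
      rw [← Pi.single_smul, smul_eq_mul, mul_one], Matrix.mulVec_smul, hm, Function.update_self,
      Equiv.swap_apply_left, ← Pi.single_smul, smul_eq_mul]
  have h2 := hmm.inv.mul (hF _ (mul_mem hmM hg) c _ h1)
  rw [← Units.val_mul, inv_mul_cancel_left] at h2
  exact hmon h2

/-- A non-monomial element has no zero. -/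
theorem entry_ne_zero (hM : MonLe M) (hq : 5 ≤ Fintype.card F) (hS : ¬ Geo.specialLinear (Fin 3) F ≤ M)
    {g : GL (Fin 3) F} (hg : g ∈ M) (hmon : ¬ IsMon (g : M₃)) (i c : Fin 3) : (g : M₃) i c ≠ 0 := by
  classical
  intro h0
  have hF := fixMon_three hM hq hS
  obtain ⟨G, hG⟩ : ∃ G : M₃, G = ((g⁻¹ : GL (Fin 3) F) : M₃) := ⟨_, rfl⟩
  have hG' : ∀ {s t}, (g : M₃) s t = 0 → G t s = 0 := fun e => hG ▸ zero_symm hM hq hS hg e
  have hg' : ∀ {s t}, G s t = 0 → (g : M₃) t s = 0 := fun {s t} e => by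
    have := zero_symm hM hq hS (inv_mem hg) (hG ▸ e)
    rwa [inv_inv] at this
  have hmon' : ¬ IsMon ((g⁻¹ : GL (Fin 3) F) : M₃) := fun h => hmon (by simpa using h.inv)
  obtain ⟨a, b, hd⟩ := exists_dist i
  obtain ⟨x, y, he⟩ := exists_dist c
  have hrow : ∀ {s t}, Dist c s t → (g : M₃) i s ≠ 0 ∧ G s i ≠ 0 := fun {s t} h => by
    have h1 : G s i ≠ 0 := fun e =>
      no_single hM hF (inv_mem hg) hmon' h.rot.rot (hG ▸ hG' h0) (hG ▸ e)
    exact ⟨fun e => h1 (hG' e), h1⟩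
  have hcol : ∀ {s t}, Dist i s t → (g : M₃) s c ≠ 0 ∧ G c s ≠ 0 := fun {s t} h => by
    have h1 : (g : M₃) s c ≠ 0 := fun e => no_single hM hF hg hmon h.rot.rot h0 e
    exact ⟨h1, fun e => h1 (hg' e)⟩
  by_cases hμ : ∃ μ : F, μ ≠ 0 ∧ μ ^ 6 ≠ 1
  · obtain ⟨μ, hμ0, hμ6⟩ := hμ
    obtain ⟨d, hdM, hdd⟩ := exists_homology hM hμ0 i
    have hk : ∀ s t, ((g⁻¹ * d * g : GL (Fin 3) F) : M₃) s t =
        (if s = t then μ else 0) + (μ⁻¹ ^ 2 - μ) * (g : M₃) i t * G s i := fun s t => by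
      rw [← MaxMon.col_apply ((g⁻¹ * d * g : GL (Fin 3) F) : M₃) s t, Units.val_mul, Units.val_mul,
        ← Matrix.mulVec_mulVec, ← Matrix.mulVec_mulVec, hdd, Matrix.mulVec_add, Matrix.mulVec_smul,
        Matrix.mulVec_smul, inv_mulVec_cancel]
      simp [hG, Pi.single_apply, MaxMon.col_apply]
    have hkc : ((g⁻¹ * d * g : GL (Fin 3) F) : M₃) *ᵥ Pi.single c 1 = Pi.single c μ := by
      funext s
      rw [MaxMon.col_apply, hk, h0, mul_zero, zero_mul, add_zero, Pi.single_apply]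
    have hδ : μ⁻¹ ^ 2 - μ ≠ 0 := fun e => hμ6 (by
      rw [sub_eq_zero, inv_pow] at e
      field_simp at e
      linear_combination (-(μ ^ 3) - 1) * e)
    have hkm := hF _ (mul_mem (mul_mem (inv_mem hg) hdM) hg) c μ hkc
    have hz : ∀ {s t}, Dist c s t → μ + (μ⁻¹ ^ 2 - μ) * ((g : M₃) i t * G t i) = 0 := fun {s t} h => by
      obtain ⟨r, hr⟩ := hkm t
      have hst : ((g⁻¹ * d * g : GL (Fin 3) F) : M₃) s t ≠ 0 := by
        rw [hk, if_neg h.2.2, zero_add]
        exact mul_ne_zero (mul_ne_zero hδ (hrow h.swap).1) (hrow h).2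
      have hrs : r = s := by_contra fun e => hst (hr s (Ne.symm e))
      have := hr t (hrs ▸ h.2.2.symm)
      rw [hk, if_pos rfl] at this
      rw [← mul_assoc]; exact this
    have h1 := mul_inv_apply g i i
    rw [he.sum, h0, zero_mul, zero_add, if_pos rfl, ← hG] at h1
    have h3 : μ⁻¹ ^ 2 + μ = 0 := by
      linear_combination hz he + hz he.swap - (μ⁻¹ ^ 2 - μ) * h1
    rw [inv_pow] at h3
    field_simp at h3
    exact hμ6 (by linear_combination (μ ^ 3 - 1) * h3)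
  push Not at hμ
  have h7 : (7 : F) = 0 := by
    obtain ⟨u, hu⟩ := IsCyclic.exists_ofOrder_eq_natCard (α := Fˣ)
    have h6 : orderOf u ∣ 6 := orderOf_dvd_of_pow_eq_one (Units.ext (by simpa using hμ u u.ne_zero))
    rw [hu, Nat.card_units, Nat.card_eq_fintype_card] at h6
    have := Nat.le_of_dvd (by norm_num) h6
    have h7 : Fintype.card F = 7 := by
      rcases (show Fintype.card F = 5 ∨ Fintype.card F = 6 ∨ Fintype.card F = 7 by omega) with e | e | e <;>
        first | exact e | (rw [e] at h6; norm_num at h6)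
    have := FiniteField.cast_card_eq_zero F
    rw [h7] at this
    exact_mod_cast this
  obtain ⟨d, hdM, hdd⟩ := exists_homology hM (neg_ne_zero.2 (one_ne_zero (α := F))) x
  obtain ⟨k, hk⟩ : ∃ k : GL (Fin 3) F, k = g * d * g⁻¹ := ⟨_, rfl⟩
  have hkM : k ∈ M := hk ▸ mul_mem (mul_mem hg hdM) (inv_mem hg)
  have hk2 : k⁻¹ = k := by
    refine inv_eq_of_mul_eq_one_right ?_
    have : d * d = 1 := Units.ext (Matrix.ext_iff_mulVec.2 fun z => by
      rw [Units.val_mul, ← Matrix.mulVec_mulVec, hdd, hdd, Units.val_one, Matrix.one_mulVec]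
      funext t
      rcases eq_or_ne t x with rfl | ht
      · simp; ring
      · simp [ht])
    rw [hk, show g * d * g⁻¹ * (g * d * g⁻¹) = g * (d * d) * g⁻¹ by group, this, mul_one, mul_inv_cancel]
  have hka : ∀ s t, (k : M₃) s t = (if s = t then -1 else 0) + 2 * (g : M₃) s x * G x t := fun s t => by
    rw [← MaxMon.col_apply (k : M₃) s t, hk, Units.val_mul, Units.val_mul, ← Matrix.mulVec_mulVec,
      ← Matrix.mulVec_mulVec, hdd, Matrix.mulVec_add, Matrix.mulVec_smul, Matrix.mulVec_smul, mulVec_inv_cancel]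
    simp [hG, Pi.single_apply, MaxMon.col_apply]
    split_ifs <;> ring
  obtain ⟨hx, -⟩ := half hM hq hS (inv_mem hg) he (c := i) (hG ▸ hG' h0)
    (by rw [inv_inv, ← hG]; exact mul_ne_zero (hrow he).1 (hrow he).2)
    (by rw [inv_inv, ← hG]; exact mul_ne_zero (hrow he.swap).1 (hrow he.swap).2)
  rw [inv_inv, ← hG] at hx
  have hnox : ∀ {s t}, Dist i s t → (g : M₃) s x ≠ 0 := fun {s t} h hsx => by
    have h1 := mul_inv_apply g s i
    rw [he.sum, ← hG, hG' h0, hsx, mul_zero, zero_mul, zero_add, zero_add, if_neg h.1.symm, mul_eq_zero,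
      or_iff_left (hrow he.swap).2] at h1
    exact no_single hM hF (inv_mem hg) hmon' he (hG ▸ hG' hsx) (hG ▸ hG' h1)
  have hii : (k : M₃) i i = 0 := by rw [hka, if_pos rfl]; linear_combination hx
  have hP : ∀ {s t}, Dist i s t → 2 * (((k⁻¹ : GL (Fin 3) F) : M₃) i s * (k : M₃) s i) = 4 * (G x s * (g : M₃) s x) :=
    fun {s t} h => by
      rw [hk2, hka, hka, if_neg h.1, if_neg h.1.symm]
      linear_combination 4 * (G x s * (g : M₃) s x) * hx
  have hPne : ∀ {s t}, Dist i s t → ((k⁻¹ : GL (Fin 3) F) : M₃) i s * (k : M₃) s i ≠ 0 := fun {s t} h e => by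
    have := hP h
    rw [e, mul_zero, eq_comm, mul_eq_zero, mul_eq_zero] at this
    rcases this with e' | e' | e'
    · exact one_ne_zero (α := F) (by linear_combination 2 * e' - h7)
    · exact hnox h (hg' e')
    · exact hnox h e'
  obtain ⟨ha, -⟩ := half hM hq hS hkM hd hii (hPne hd) (hPne hd.swap)
  rw [hP hd] at ha
  exact quarter_false hM hq hS (Or.inr h7) hg hd (x := x) (by rw [← hG, mul_comm (G x i)]; exact hx)
    (by rw [← hG]; exact ha)

/-- A monomial conjugate of a diagonal element. -/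
theorem trace_of_mon (hM : MonLe M) (hq : 5 ≤ Fintype.card F) (hS : ¬ Geo.specialLinear (Fin 3) F ≤ M)
    {g : GL (Fin 3) F} (hg : g ∈ M) (hmon : ¬ IsMon (g : M₃)) {d : GL (Fin 3) F} {f : V}
    (hd : (d : M₃) = Matrix.diagonal f) {a b : Fin 3} (hab : f a ≠ f b)
    (hk : IsMon ((g * d * g⁻¹ : GL (Fin 3) F) : M₃)) : ∑ t, f t = 0 := by
  have hdiag : ∀ r, ((g * d * g⁻¹ : GL (Fin 3) F) : M₃) r r = 0 := fun r => by
    by_contra hr
    obtain ⟨s, hs⟩ := hk r
    have hsr : r = s := by_contra fun e => hr (hs r e)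
    have h1 : ∀ l, f l * ((g⁻¹ : GL (Fin 3) F) : M₃) l r =
        ((g * d * g⁻¹ : GL (Fin 3) F) : M₃) r r * ((g⁻¹ : GL (Fin 3) F) : M₃) l r := fun l => by
      have h2 : (((d : GL (Fin 3) F) : M₃) * ((g⁻¹ : GL (Fin 3) F) : M₃)) l r =
          (((g⁻¹ : GL (Fin 3) F) : M₃) * ((g * d * g⁻¹ : GL (Fin 3) F) : M₃)) l r := by
        rw [← Units.val_mul, ← Units.val_mul]
        simp [mul_assoc]
      rw [hd, Matrix.diagonal_mul, Matrix.mul_apply, Finset.sum_eq_single r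
        (fun t _ ht => by rw [hs t (hsr ▸ ht), mul_zero]) (by simp)] at h2
      rw [h2, mul_comm]
    have hne : ∀ l, ((g⁻¹ : GL (Fin 3) F) : M₃) l r ≠ 0 := fun l =>
      entry_ne_zero hM hq hS (inv_mem hg) (fun h => hmon (by simpa using h.inv)) l r
    exact hab ((mul_right_cancel₀ (hne a) (h1 a)).trans (mul_right_cancel₀ (hne b) (h1 b)).symm)
  have h : ((g * d * g⁻¹ : GL (Fin 3) F) : M₃).trace = ∑ t, f t := by
    rw [Units.val_mul, Units.val_mul, Matrix.trace_units_conj, hd, Matrix.trace_diagonal]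
  rw [← h, Matrix.trace]
  exact Finset.sum_eq_zero fun r _ => hdiag r

/-- Two products in an entry differ by a cube root of unity. -/
theorem ratio_cube (hM : MonLe M) (hq : 5 ≤ Fintype.card F) (hS : ¬ Geo.specialLinear (Fin 3) F ≤ M)
    {g : GL (Fin 3) F} (hg : g ∈ M) (hmon : ¬ IsMon (g : M₃)) {i c : Fin 3} (hic : i ≠ c) (a b : Fin 3) :
    ((g : M₃) i a * ((g⁻¹ : GL (Fin 3) F) : M₃) a c) ^ 3 =
      ((g : M₃) i b * ((g⁻¹ : GL (Fin 3) F) : M₃) b c) ^ 3 := by
  classical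
  rcases eq_or_ne a b with rfl | hab
  · rfl
  obtain ⟨o, ho⟩ := exists_dist₂ hab
  have hne : ∀ t, (g : M₃) i t * ((g⁻¹ : GL (Fin 3) F) : M₃) t c ≠ 0 := fun t =>
    mul_ne_zero (entry_ne_zero hM hq hS hg hmon i t)
      (entry_ne_zero hM hq hS (inv_mem hg) (fun h => hmon (by simpa using h.inv)) t c)
  obtain ⟨l, hl⟩ : ∃ l, l = (g : M₃) i b * ((g⁻¹ : GL (Fin 3) F) : M₃) b c /
      ((g : M₃) i a * ((g⁻¹ : GL (Fin 3) F) : M₃) a c) := ⟨_, rfl⟩
  have hl0 : l ≠ 0 := hl ▸ div_ne_zero (hne b) (hne a)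
  by_cases hl1 : l = 1
  · rw [hl, div_eq_one_iff_eq (hne a)] at hl1
    rw [hl1]
  obtain ⟨d, hdM, hd⟩ := hM.diag (pairFun a b l) (pairFun_ne hl0) (pairFun_prod hab hl0)
  have h0 : ((g * d * g⁻¹ : GL (Fin 3) F) : M₃) i c = 0 := by
    have hs := mul_inv_apply g i c
    rw [ho.sum, if_neg hic] at hs
    rw [conj_diag_apply hd, ho.sum, pairFun_left, pairFun_right hab, pairFun_other ho.2.1.symm ho.2.2.symm,
      mul_one, mul_right_comm _ l, mul_right_comm _ l⁻¹]
    rw [hl, inv_div]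
    have := hne a
    have := hne b
    rw [mul_div_cancel₀ _ (hne a), mul_div_cancel₀ _ (hne b)]
    linear_combination hs
  have hk : IsMon ((g * d * g⁻¹ : GL (Fin 3) F) : M₃) := by
    by_contra hk
    exact entry_ne_zero hM hq hS (mul_mem (mul_mem hg hdM) (inv_mem hg)) hk i c h0
  have ht := trace_of_mon hM hq hS hg hmon hd (a := a) (b := o)
    (by rw [pairFun_left, pairFun_other ho.2.1.symm ho.2.2.symm]; exact hl1) hk
  rw [ho.sum, pairFun_left, pairFun_right hab, pairFun_other ho.2.1.symm ho.2.2.symm] at ht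
  have h3 : l ^ 3 = 1 := by
    field_simp at ht
    linear_combination (l - 1) * ht
  rw [hl, div_pow, div_eq_one_iff_eq (pow_ne_zero _ (hne a))] at h3
  exact h3.symm

/-- Three terms with equal cubes and sum zero are a geometric progression. -/
theorem progression {w₀ w₁ w₂ : F} (h3 : (3 : F) ≠ 0) (h0 : w₀ ≠ 0) (hs : w₀ + w₁ + w₂ = 0)
    (h1 : w₁ ^ 3 = w₀ ^ 3) (h2 : w₂ ^ 3 = w₀ ^ 3) :
    ∃ r : F, r ^ 2 + r + 1 = 0 ∧ w₁ = r * w₀ ∧ w₂ = r ^ 2 * w₀ := by
  refine ⟨w₁ / w₀, ?_, by rw [div_mul_cancel₀ _ h0], ?_⟩ <;>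
  · have hr : w₁ / w₀ ≠ 1 := fun e => by
      rw [div_eq_one_iff_eq h0] at e
      have : (3 : F) * (3 * w₀ ^ 3) = 0 := by
        rw [show w₂ = -2 * w₀ by linear_combination hs - e] at h2
        linear_combination -h2
      rcases mul_eq_zero.1 this with h | h
      · exact h3 h
      · rcases mul_eq_zero.1 h with h | h
        · exact h3 h
        · exact h0 (pow_eq_zero_iff (by norm_num : 3 ≠ 0) |>.1 h)
    have hq : (w₁ / w₀) ^ 2 + w₁ / w₀ + 1 = 0 := by
      refine (mul_eq_zero.1 (?_ : (w₁ / w₀ - 1) * _ = 0)).resolve_left (sub_ne_zero.2 hr)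
      field_simp
      linear_combination h1
    first
      | exact hq
      | (rw [show w₂ = -w₀ - w₁ by linear_combination hs]
         linear_combination (-w₀) * hq + (div_mul_cancel₀ w₁ h0))

/-- Monomial elements with one more element. -/
theorem specialLinear_le_of_monLe_three (hM : MonLe M) (hq : 5 ≤ Fintype.card F) {g : GL (Fin 3) F} (hg : g ∈ M)
    (hmon : ¬ IsMon (g : M₃)) : Geo.specialLinear (Fin 3) F ≤ M := by
  classical
  by_contra hS
  obtain ⟨G, hG⟩ : ∃ G : M₃, G = ((g⁻¹ : GL (Fin 3) F) : M₃) := ⟨_, rfl⟩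
  have hne : ∀ s t, (g : M₃) s t ≠ 0 := entry_ne_zero hM hq hS hg hmon
  have hne' : ∀ s t, G s t ≠ 0 := fun s t =>
    hG ▸ entry_ne_zero hM hq hS (inv_mem hg) (fun h => hmon (by simpa using h.inv)) s t
  obtain ⟨W, hW⟩ : ∃ W : Fin 3 → Fin 3 → Fin 3 → F, W = fun s t l => (g : M₃) s l * G l t := ⟨_, rfl⟩
  have hWne : ∀ s t l, W s t l ≠ 0 := fun s t l => by rw [hW]; exact mul_ne_zero (hne s l) (hne' l t)
  have hcube : ∀ s t, s ≠ t → ∀ l l', W s t l ^ 3 = W s t l' ^ 3 := fun s t hst l l' => by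
    rw [hW, hG]; exact ratio_cube hM hq hS hg hmon hst l l'
  have hsum : ∀ s t, W s t 0 + W s t 1 + W s t 2 = if s = t then 1 else 0 := fun s t => by
    rw [hW, ← mul_inv_apply g s t, ← hG, Fin.sum_univ_three]
  have hmulW : ∀ s t u l, W s t l * W t u l = W s u l * W t t l := fun s t u l => by rw [hW]; ring
  by_cases h3 : (3 : F) = 0
  · have heq : ∀ s t, s ≠ t → ∀ l, W s t l = W s t 0 := fun s t hst l => by
      refine sub_eq_zero.1 (pow_eq_zero_iff (by norm_num : 3 ≠ 0) |>.1 ?_)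
      linear_combination hcube s t hst l 0 - W s t l * W s t 0 * (W s t l - W s t 0) * h3
    have hrow : ∀ l, (g : M₃) 2 l = W 2 0 0 / W 1 0 0 * (g : M₃) 1 l := fun l => by
      have e1 := heq 2 0 (by decide) l
      have e2 := heq 1 0 (by decide) l
      rw [div_mul_eq_mul_div, eq_div_iff (hWne 1 0 0), ← e1, ← e2, hW]
      ring
    have h1 := hsum 2 2
    have h2 := hsum 1 2
    rw [if_pos rfl] at h1
    rw [if_neg (by decide)] at h2
    simp only [hW] at h1 h2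
    rw [hrow 0, hrow 1, hrow 2] at h1
    exact one_ne_zero (α := F) (by linear_combination (W 2 0 0 / W 1 0 0) * h2 - h1 + (0 : F) * h3)
  have hprog : ∀ s u, s ≠ u → ∃ p : F, p ^ 2 + p + 1 = 0 ∧ W s u 1 = p * W s u 0 ∧ W s u 2 = p ^ 2 * W s u 0 :=
    fun s u hsu => progression h3 (hWne s u 0) (by simpa [hsu] using hsum s u) (hcube s u hsu 1 0) (hcube s u hsu 2 0)
  have hr3 : ∀ {s : F}, s ^ 2 + s + 1 = 0 → s ≠ 1 ∧ s ^ 3 = 1 := fun {s} h =>
    ⟨fun e => h3 (by rw [e] at h; linear_combination h), by linear_combination (s - 1) * h⟩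
  have hthird : ∀ s t u, Dist s t u → ∀ p p₁ p₂ : F, p ^ 3 = 1 → p₁ ^ 3 = 1 → p₂ ^ 3 = 1 →
      W s u 1 = p * W s u 0 → W s u 2 = p ^ 2 * W s u 0 → W s t 1 = p₁ * W s t 0 → W s t 2 = p₁ ^ 2 * W s t 0 →
      W t u 1 = p₂ * W t u 0 → W t u 2 = p₂ ^ 2 * W t u 0 →
      p₁ * p₂ * p ^ 2 = 1 ∧ ∀ l, 3 * W t t l = 1 := by
    intro s t u hstu p p₁ p₂ hpc hp₁ hp₂ pa pb qa qb na nb
    have hp0 : p ≠ 0 := fun e => by rw [e] at hpc; simp at hpc
    have e0 := hmulW s t u 0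
    have e1 := hmulW s t u 1
    have e2 := hmulW s t u 2
    rw [qa, na, pa] at e1
    rw [qb, nb, pb] at e2
    obtain ⟨ρ, hρd⟩ : ∃ ρ, ρ = p₁ * p₂ * p ^ 2 := ⟨_, rfl⟩
    have f1 : W t t 1 = ρ * W t t 0 := by
      refine mul_left_cancel₀ (mul_ne_zero hp0 (hWne s u 0)) ?_
      linear_combination -e1 + p₁ * p₂ * e0 - p₁ * p₂ * W s u 0 * W t t 0 * hpc - p * W s u 0 * W t t 0 * hρd
    have f2 : W t t 2 = ρ ^ 2 * W t t 0 := by
      refine mul_left_cancel₀ (mul_ne_zero (pow_ne_zero 2 hp0) (hWne s u 0)) ?_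
      linear_combination -e2 + (p₁ * p₂) ^ 2 * e0 - (p₁ * p₂) ^ 2 * W s u 0 * W t t 0 * (p ^ 3 + 1) * hpc -
        p ^ 2 * W s u 0 * W t t 0 * (ρ + p₁ * p₂ * p ^ 2) * hρd
    have h := hsum t t
    rw [if_pos rfl, f1, f2] at h
    have hc : ρ ^ 3 = 1 := by
      rw [hρd, mul_pow, mul_pow, hp₁, hp₂, ← pow_mul, pow_mul', hpc]; ring
    have h1 : ρ = 1 := by
      refine sub_eq_zero.1 ?_
      linear_combination -(ρ - 1) * h + W t t 0 * hc
    refine ⟨hρd ▸ h1, fun l => ?_⟩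
    rw [h1, one_pow, one_mul] at h
    rw [h1, one_mul] at f1
    rw [h1, one_pow, one_mul] at f2
    have hl : W t t l = W t t 0 := by
      fin_cases l
      · rfl
      · exact f1
      · exact f2
    rw [hl]
    linear_combination h
  have hall : ∀ t l, 3 * W t t l = 1 := fun t => by
    obtain ⟨s, u, hd⟩ := exists_dist t
    obtain ⟨p, hp, pa, pb⟩ := hprog s u hd.2.2
    obtain ⟨p₁, hp₁, qa, qb⟩ := hprog s t hd.1.symm
    obtain ⟨p₂, hp₂, na, nb⟩ := hprog t u hd.2.1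
    exact (hthird s t u ⟨hd.1.symm, hd.2.2, hd.2.1⟩ p p₁ p₂ (hr3 hp).2 (hr3 hp₁).2 (hr3 hp₂).2 pa pb qa qb na nb).2
  obtain ⟨r, hr, ra, rb⟩ := hprog 0 2 (by decide)
  obtain ⟨r₁, hr₁, sa, sb⟩ := hprog 0 1 (by decide)
  obtain ⟨r₂, hr₂, ta, tb⟩ := hprog 1 2 (by decide)
  obtain ⟨hr1, hrc⟩ := hr3 hr
  have hρ := (hthird 0 1 2 (by unfold Dist; decide) r r₁ r₂ hrc (hr3 hr₁).2 (hr3 hr₂).2 ra rb sa sb ta tb).1
  obtain ⟨rfl, rfl⟩ : r₁ = r ^ 2 ∧ r₂ = r ^ 2 := by
    have hroots : ∀ {s : F}, s ^ 2 + s + 1 = 0 → s = r ∨ s = r ^ 2 := fun {s} h => by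
      have : (s - r) * (s - r ^ 2) = 0 := by linear_combination h - s * hr + hrc
      simpa [mul_eq_zero, sub_eq_zero] using this
    rcases hroots hr₁ with e | e <;> rcases hroots hr₂ with e' | e' <;> rw [e, e'] at hρ
    · exact absurd (by linear_combination hρ - r * hrc : r = 1) hr1
    · exact absurd (by linear_combination (r ^ 3 + 1) * hrc - r * hρ : r = 1) hr1
    · exact absurd (by linear_combination (r ^ 3 + 1) * hrc - r * hρ : r = 1) hr1
    · exact ⟨e, e'⟩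
  -- a conjugate of a diagonal element
  obtain ⟨l, hl0, -, hl3⟩ := exists_generic hq
  have hlt : l + l⁻¹ + 1 ≠ 0 := fun e => hl3 (by field_simp at e; linear_combination (l - 1) * e)
  obtain ⟨d, hdM, hd⟩ := hM.diag ![l, l⁻¹, 1] (fun i => by fin_cases i <;> simp [hl0])
    (by simp [Fin.prod_univ_three, hl0])
  obtain ⟨d', hd'M, hd'⟩ := hM.diag ![l⁻¹, l, 1] (fun i => by fin_cases i <;> simp [hl0])
    (by simp [Fin.prod_univ_three, hl0])
  have hdd : d⁻¹ = d' := inv_eq_of_mul_eq_one_right (Units.ext (by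
    rw [Units.val_mul, hd, hd', Matrix.diagonal_mul_diagonal]
    rw [Units.val_one, ← Matrix.diagonal_one]
    congr 1
    funext i; fin_cases i <;> simp [hl0]))
  obtain ⟨k, hk⟩ : ∃ k, k = g * d * g⁻¹ := ⟨_, rfl⟩
  have hke : ∀ s t, (k : M₃) s t = l * W s t 0 + l⁻¹ * W s t 1 + W s t 2 := fun s t => by
    rw [hk, conj_diag_apply hd, Fin.sum_univ_three, hW, hG]; simp; ring
  have hKe : ∀ s t, ((k⁻¹ : GL (Fin 3) F) : M₃) s t = l⁻¹ * W s t 0 + l * W s t 1 + W s t 2 := fun s t => by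
    rw [hk, show (g * d * g⁻¹)⁻¹ = g * d' * g⁻¹ by rw [← hdd]; group, conj_diag_apply hd', Fin.sum_univ_three,
      hW, hG]
    simp; ring
  have hkM : k ∈ M := hk ▸ mul_mem (mul_mem hg hdM) (inv_mem hg)
  have hkmon : ¬ IsMon (k : M₃) := fun h => by
    have := trace_of_mon hM hq hS hg hmon hd (a := 0) (b := 2) (by
      simp only [Matrix.cons_val]
      exact fun e => hl3 (by rw [e, one_pow])) (hk ▸ h)
    simp [Fin.sum_univ_three] at this
    exact hlt this
  obtain ⟨c, hc⟩ : ∃ c, c = W 0 2 0 := ⟨_, rfl⟩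
  obtain ⟨X, hX⟩ : ∃ X, X = l + r * l⁻¹ + r ^ 2 := ⟨_, rfl⟩
  obtain ⟨Y, hY⟩ : ∃ Y, Y = l + r ^ 2 * l⁻¹ + r := ⟨_, rfl⟩
  have k02 : (k : M₃) 0 2 = c * X := by rw [hke, ra, rb, hX, hc]; ring
  have K02 : ((k⁻¹ : GL (Fin 3) F) : M₃) 0 2 = c * (r * Y) := by
    rw [hKe, ra, rb, hY, hc]; linear_combination -(W 0 2 0 * l⁻¹) * hrc
  have k01 : (k : M₃) 0 1 = W 0 1 0 * Y := by
    rw [hke, sa, sb, hY]; linear_combination W 0 1 0 * r * hrc
  have K12 : ((k⁻¹ : GL (Fin 3) F) : M₃) 1 2 = W 1 2 0 * (r ^ 2 * X) := by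
    rw [hKe, ta, tb, hX]; linear_combination -(W 1 2 0 * l⁻¹) * hrc
  have k00 : 3 * (k : M₃) 0 0 = l + l⁻¹ + 1 := by
    rw [hke]; linear_combination l * hall 0 0 + l⁻¹ * hall 0 1 + hall 0 2
  have K22 : 3 * ((k⁻¹ : GL (Fin 3) F) : M₃) 2 2 = l + l⁻¹ + 1 := by
    rw [hKe]; linear_combination l⁻¹ * hall 2 0 + l * hall 2 1 + hall 2 2
  have hcc : 3 * (W 0 1 0 * W 1 2 0) = c := by
    linear_combination 3 * hmulW 0 1 2 0 + c * hall 1 0 + (W 1 1 0) * (3 : F) * (-hc)
  have hc0 : c ≠ 0 := hc ▸ hWne 0 2 0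
  have hX0 : X ≠ 0 := fun e => entry_ne_zero hM hq hS hkM hkmon 0 2 (by rw [k02, e, mul_zero])
  have q1 := ratio_cube hM hq hS hkM hkmon (show (0 : Fin 3) ≠ 2 by decide) 0 2
  have q2 := ratio_cube hM hq hS hkM hkmon (show (0 : Fin 3) ≠ 2 by decide) 1 2
  rw [K02, k02] at q1
  rw [k01, K12, k02] at q2
  have hXY : Y ^ 3 = X ^ 3 := by
    refine mul_left_cancel₀ (pow_ne_zero 3 (mul_ne_zero hc0 hlt)) ?_
    linear_combination 27 * q1 - c ^ 3 * Y ^ 3 * ((l + l⁻¹ + 1) ^ 3) * hrc -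
      c ^ 3 * r ^ 3 * Y ^ 3 * (9 * (k : M₃) 0 0 ^ 2 + 3 * (k : M₃) 0 0 * (l + l⁻¹ + 1) + (l + l⁻¹ + 1) ^ 2) * k00 +
      c ^ 3 * X ^ 3 * (9 * ((k⁻¹ : GL (Fin 3) F) : M₃) 2 2 ^ 2 + 3 * ((k⁻¹ : GL (Fin 3) F) : M₃) 2 2 *
        (l + l⁻¹ + 1) + (l + l⁻¹ + 1) ^ 2) * K22
  have hY0 : Y ^ 3 = (l + l⁻¹ + 1) ^ 3 := by
    refine mul_left_cancel₀ (pow_ne_zero 3 (mul_ne_zero hc0 hX0)) ?_
    linear_combination 27 * q2 - c ^ 3 * X ^ 3 * Y ^ 3 * (r ^ 3 + 1) * hrc -
      r ^ 6 * X ^ 3 * Y ^ 3 * (9 * (W 0 1 0 * W 1 2 0) ^ 2 + 3 * (W 0 1 0 * W 1 2 0) * c + c ^ 2) * hcc +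
      c ^ 3 * X ^ 3 * (9 * ((k⁻¹ : GL (Fin 3) F) : M₃) 2 2 ^ 2 + 3 * ((k⁻¹ : GL (Fin 3) F) : M₃) 2 2 *
        (l + l⁻¹ + 1) + (l + l⁻¹ + 1) ^ 2) * K22
  have hdiff : ∀ s : F, s ^ 3 = 1 → (l ^ 2 + l + 1) ^ 3 - (l ^ 2 + s ^ 2 * l + s) ^ 3 =
      3 * l * (1 - s) * ((1 + s) * (l ^ 4 + 2 * l) + 2 * l ^ 3 + 1) := fun s hs => by
    rw [show l ^ 2 + s ^ 2 * l + s = s * (s ^ 2 * l ^ 2 + s * l + 1) by linear_combination (-l ^ 2) * hs,
      mul_pow, hs, one_mul]
    linear_combination (-(l ^ 6 * (s ^ 3 + 1) + 3 * l ^ 5 * s ^ 2 + 6 * l ^ 4 * s + 7 * l ^ 3)) * hs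
  have eX : l * X = l ^ 2 + r ^ 2 * l + r := by rw [hX]; field_simp; ring
  have eY : l * Y = l ^ 2 + r * l + r ^ 2 := by rw [hY]; field_simp; ring
  have e0 : l * (l + l⁻¹ + 1) = l ^ 2 + l + 1 := by field_simp; ring
  have E1 : (1 + r) * (l ^ 4 + 2 * l) + 2 * l ^ 3 + 1 = 0 := by
    have := hdiff r hrc
    rw [← eX, ← e0, mul_pow, mul_pow, ← hY0, hXY, sub_self, eq_comm, mul_eq_zero] at this
    exact this.resolve_left (mul_ne_zero (mul_ne_zero h3 hl0) (sub_ne_zero.2 (Ne.symm hr1)))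
  have hr2 : r ^ 2 ≠ 1 := fun e => hr1 (by linear_combination -r * e + hrc)
  have E2 : (1 + r ^ 2) * (l ^ 4 + 2 * l) + 2 * l ^ 3 + 1 = 0 := by
    have := hdiff (r ^ 2) (by rw [← pow_mul, pow_mul', hrc, one_pow])
    rw [show l ^ 2 + (r ^ 2) ^ 2 * l + r ^ 2 = l * Y by linear_combination r * l * hrc - eY, ← e0, mul_pow,
      mul_pow, ← hY0, sub_self, eq_comm, mul_eq_zero] at this
    exact this.resolve_left (mul_ne_zero (mul_ne_zero h3 hl0) (sub_ne_zero.2 (Ne.symm hr2)))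
  have hu : l * (l ^ 3 + 2) = 0 := by
    refine (mul_eq_zero.1 (?_ : (r - r ^ 2) * _ = 0)).resolve_left fun e => hr1 ?_
    · linear_combination E1 - E2
    · linear_combination (-(r ^ 2)) * e - (r - 1) * hrc
  have h4 := (mul_eq_zero.1 hu).resolve_left hl0
  exact h3 (by linear_combination -(E1 - (1 + r) * hu) + 2 * h4)

/-- Monomial subgroups are maximal in `SL(3, F)`. -/
theorem monomial_maximal (hq : 5 ≤ Fintype.card F) {D : Fin 3 → Submodule F (Fin 3 → F)}
    (hD : Geo.IsMDecomposition 1 D) :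
    Geo.IsMaximalIn (Geo.specialLinear (Fin 3) F) (Geo.decompositionStabilizer D ⊓ Geo.specialLinear (Fin 3) F) :=
  lines_maximal_of (by norm_num) hq (fun _ hM _ hg hmon => specialLinear_le_of_monLe_three hM hq hg hmon) hD

end Cfsg.Agent.Classical.SLThree
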