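import Cfsg.Agent.Lib.Classical.SLThree.Forms

/-!
Similarity groups of quadratic forms are maximal in `SL` in dimension three, odd characteristic.
-/

set_option autoImplicit false
set_option linter.unusedSectionVars false

namespace Cfsg.Agent.Classical.SLThree

open Matrix Module MaxTv OrthAut

variable {F : Type*} [Field F]

local notation "V" => (Fin 3 → F)
local notation "M₃" => Matrix (Fin 3) (Fin 3) F

/-- Similarity groups of quadratic forms are maximal in `SL`. -/
theorem orthogonal_maximal [Fintype F] (hodd : (2 : F) ≠ 0) (Q₀ : (Fin 3 → F) → F)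
    (hQ₀ : Geo.IsNondegenerateQuadraticForm Q₀) :
    Geo.IsMaximalIn (Geo.specialLinear (Fin 3) F) (Geo.quadSimilarityGroup Q₀ ⊓ Geo.specialLinear (Fin 3) F) := by
  classical
  obtain ⟨Qf, hQf⟩ : ∃ Qf : QuadraticForm F V, ⇑Qf = Q₀ :=
    ⟨QuadraticMap.ofPolar Q₀ (fun a x => by rw [hQ₀.smul, smul_eq_mul, sq])
      (fun x x' y => hQ₀.polar_bilinear.add_left x x' y) (fun a x y => hQ₀.polar_bilinear.smul_left a x y), rfl⟩
  subst hQf
  set P := QuadraticMap.polar ⇑Qf with hP
  have hs : Sesq (RingEquiv.refl F) P :=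
    { add_left := hQ₀.polar_bilinear.add_left
      smul_left := hQ₀.polar_bilinear.smul_left
      add_right := hQ₀.polar_bilinear.add_right
      smul_right := hQ₀.polar_bilinear.smul_right
      eq_zero := fun w hw => by
        by_contra h0
        obtain ⟨x, hx⟩ := (hQ₀.nondegenerate w h0).1
        exact hx (hw x)
      refl := fun v w h => by rw [hP, QuadraticMap.polar_comm]; exact h }
  have hsym : ∀ a b, P a b = P b a := fun a b => QuadraticMap.polar_comm _ a b
  have hh : ∀ a b, P a b = (RingEquiv.refl F) (P b a) := hsym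
  have hnd : (QuadraticMap.polarBilin Qf).Nondegenerate :=
    ⟨fun x h => hs.eq_zero x fun y => hs.refl _ _ (h y), fun x h => hs.eq_zero x fun y => h y⟩
  have hself : ∀ x, P x x = 2 * Qf x := fun x => polar_self2 x
  obtain ⟨r, -, hr⟩ := exists_anisotropic_ker hnd (k := 0) (fun i => i.elim0) (by rw [Fintype.card_fin]; norm_num)
  -- a functional vanishing on the anisotropic vectors is zero
  have hspan : ∀ L : V →ₗ[F] F, (∀ x, Qf x ≠ 0 → L x = 0) → ∀ x, L x = 0 := fun L hL x => by
    by_cases hx : Qf x ≠ 0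
    · exact hL x hx
    push Not at hx
    by_cases h1 : Qf (x + r) ≠ 0
    · have := hL _ h1
      rwa [map_add, hL r hr, add_zero] at this
    · push Not at h1
      have h2 : Qf (x + (-1 : F) • r) ≠ 0 := fun e => by
        rw [quad_add, hx, zero_add] at h1 e
        rw [QuadraticMap.map_smul, QuadraticMap.polar_smul_right, smul_eq_mul, smul_eq_mul] at e
        exact mul_ne_zero hodd hr (by linear_combination h1 + e)
      have := hL _ h2
      rwa [map_add, map_smul, hL r hr, smul_zero, add_zero] at this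
  have hline : ∀ v w : V, v ≠ 0 → (∀ t : F, w ≠ t • v) → P v w = 0 → Qf v = 0 → Qf w = 0 → False :=
    fun v w hv hw hvw h1 h2 => by
    have hi : Indep v w := indep_of_not_mem hv hw
    obtain ⟨t, ht⟩ := hi.functional (φ := fn P v) (ψ := fn P w)
      (fun e => hv (fn_injective hs (e.trans (fn_zero hs).symm)))
      (by rw [fn_dot hs, hself, h1, mul_zero]) (by rw [fn_dot hs, hs.refl _ _ hvw]) (by rw [fn_dot hs, hvw])
      (by rw [fn_dot hs, hself, h2, mul_zero])
    exact hw t (fn_injective hs (by rw [ht, MaxTv.fn_smul hs]; rfl))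
  -- a normal of a plane of two orthogonal anisotropic vectors
  have hnormal : ∀ v w : V, P v w = 0 → Qf v ≠ 0 → Qf w ≠ 0 →
      ∃ z, Qf z ≠ 0 ∧ P z v = 0 ∧ P z w = 0 := fun v w hvw hv hw => by
    have hv0 : v ≠ 0 := fun e => hv (by rw [e, QuadraticMap.map_zero])
    have hind : Indep (fn P v) (fn P w) :=
      indep_of_not_mem (fun e => hv0 (fn_injective hs (e.trans (fn_zero hs).symm))) fun t e => by
      have h1 : w = t • v := fn_injective hs (by rw [e, MaxTv.fn_smul hs]; rfl)
      rw [h1, hs.smul_right, hself, RingEquiv.refl_apply, mul_eq_zero] at hvw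
      rcases hvw with h2 | h2
      · exact hw (by rw [h1, h2, zero_smul, QuadraticMap.map_zero])
      · exact mul_ne_zero hodd hv h2
    obtain ⟨z, hz⟩ : ∃ z, z = crossProduct (fn P v) (fn P w) := ⟨_, rfl⟩
    have hzv : P z v = 0 := by rw [hz, ← fn_dot hs, dot_self_cross]
    have hzw : P z w = 0 := by rw [hz, ← fn_dot hs, dot_cross_self]
    refine ⟨z, fun hQz => ?_, hzv, hzw⟩
    have hz0 : z ≠ 0 := hz ▸ hind
    obtain ⟨x, hx⟩ := hs.exists_left hz0
    obtain ⟨y, hy⟩ : ∃ y, y = x - (P x v / P v v) • v - (P x w / P w w) • w := ⟨_, rfl⟩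
    have hvv : P v v ≠ 0 := by rw [hself]; exact mul_ne_zero hodd hv
    have hww : P w w ≠ 0 := by rw [hself]; exact mul_ne_zero hodd hw
    have y1 : fn P v ⬝ᵥ y = 0 := by
      rw [fn_dot hs, hy, hs.sub_left, hs.sub_left, hs.smul_left, hs.smul_left, hs.refl _ _ hvw, mul_zero,
        sub_zero, div_mul_cancel₀ _ hvv, sub_self]
    have y2 : fn P w ⬝ᵥ y = 0 := by
      rw [fn_dot hs, hy, hs.sub_left, hs.sub_left, hs.smul_left, hs.smul_left, hvw, mul_zero, sub_zero,
        div_mul_cancel₀ _ hww, sub_self]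
    obtain ⟨t, ht⟩ := hind.functional hz0 (by rw [dotProduct_comm, fn_dot hs, hzv])
      (by rw [dotProduct_comm, fn_dot hs, hzw]) (by rwa [dotProduct_comm]) (by rwa [dotProduct_comm])
    have h5 : P y z = 0 := by rw [ht, hs.smul_left, hself, hQz, mul_zero, mul_zero]
    rw [hy, hs.sub_left, hs.sub_left, hs.smul_left, hs.smul_left, hs.refl _ _ hzv, hs.refl _ _ hzw] at h5
    exact hx (by simpa using h5)
  have hconn : ∀ u u' : V, Qf u ≠ 0 → Qf u' ≠ 0 → ∃ x, Qf x ≠ 0 ∧ P x u ≠ 0 ∧ P x u' ≠ 0 := by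
    intro u u' hu hu'
    by_cases h : P u u' = 0
    swap
    · exact ⟨u, hu, by rw [hself]; exact mul_ne_zero hodd hu, h⟩
    have huu : P u u ≠ 0 := by rw [hself]; exact mul_ne_zero hodd hu
    have huu' : P u' u' ≠ 0 := by rw [hself]; exact mul_ne_zero hodd hu'
    by_cases hQ : Qf (u + u') = 0
    swap
    · exact ⟨u + u', hQ, by rw [hs.add_left, hs.refl _ _ h, add_zero]; exact huu,
        by rw [hs.add_left, h, zero_add]; exact huu'⟩
    obtain ⟨z, hz, hzu, hzu'⟩ := hnormal u u' h hu hu'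
    refine ⟨u + u' + z, ?_, by rw [hs.add_left, hs.add_left, hs.refl _ _ h, hzu, add_zero, add_zero]; exact huu,
      by rw [hs.add_left, hs.add_left, h, hzu', zero_add, add_zero]; exact huu'⟩
    rw [quad_add, hQ, QuadraticMap.polar_add_left, show QuadraticMap.polar (⇑Qf) u z = 0 from hs.refl _ _ hzu,
      show QuadraticMap.polar (⇑Qf) u' z = 0 from hs.refl _ _ hzu']
    simpa using hz
  refine isMaximalIn_intro inf_le_right (fun hle => ?_) fun M hHM hMK g hgM hgH => ?_
  · obtain ⟨w, hw, hQw⟩ : ∃ w, P r w = 0 ∧ Qf w ≠ 0 := by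
      obtain ⟨w, hw, hQw⟩ := exists_anisotropic_ker hnd ![hs.lin r] (by rw [Fintype.card_fin]; norm_num)
      exact ⟨w, hs.refl _ _ (hw 0), hQw⟩
    have hw' : fn P w ⬝ᵥ r = 0 := by rw [fn_dot hs, hw]
    obtain ⟨t, ht⟩ := exists_tv hw'
    obtain ⟨c, hc⟩ := (hle (det_tv ht hw')).1
    have h1 := hc r
    have h2 := hc w
    rw [ht, hw', zero_smul, add_zero] at h1
    have hc1 : (c : F) = 1 := mul_right_cancel₀ hr (by linear_combination -h1)
    rw [ht, fn_dot hs, quad_add_smul, show QuadraticMap.polar (⇑Qf) w r = 0 from hs.refl _ _ hw, hc1,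
      hself] at h2
    exact mul_ne_zero (mul_ne_zero (mul_ne_zero hodd hQw) (mul_ne_zero hodd hQw)) hr (by linear_combination h2)
  have hgns : g ∉ Geo.quadSimilarityGroup ⇑Qf := fun h => hgH ⟨h, hMK hgM⟩
  have hiso : ∀ k : GL (Fin 3) F, k ∈ Geo.specialLinear (Fin 3) F →
      (∀ x y, P ((k : M₃) *ᵥ x) ((k : M₃) *ᵥ y) = P x y) → k ∈ M := fun k hk hki =>
    hHM ⟨⟨1, fun x => by
      have := hki x x
      rw [hself, hself] at this
      rw [Units.val_one, one_mul]
      exact mul_left_cancel₀ hodd this⟩, hk⟩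
  have hJ : ∀ u, Qf u ≠ 0 → ∃ j ∈ M, (∀ x y, P ((j : M₃) *ᵥ x) ((j : M₃) *ᵥ y) = P x y) ∧
      ∀ x, (j : M₃) *ᵥ x = -x + (P x u / Qf u) • u := by
    intro u hu
    have hdet : (-reflectionMatrix ⇑Qf u : M₃).det = 1 := by
      rw [Matrix.det_neg, det_reflection _ hu, Fintype.card_fin]; norm_num
    obtain ⟨j, hj⟩ : ∃ j : GL (Fin 3) F, (j : M₃) = -reflectionMatrix ⇑Qf u :=
      ⟨Matrix.GeneralLinearGroup.mkOfDetNeZero _ (by rw [hdet]; exact one_ne_zero), rfl⟩
    have hjx : ∀ x, (j : M₃) *ᵥ x = -x + (P x u / Qf u) • u := fun x => by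
      rw [hj, Matrix.neg_mulVec, reflectionMatrix_mulVec, neg_sub, div_eq_inv_mul,
        show QuadraticMap.polar (⇑Qf) u x = P x u from hsym u x]
      abel
    have hji : ∀ x y, P ((j : M₃) *ᵥ x) ((j : M₃) *ᵥ y) = P x y := fun x y => by
      rw [hjx, hjx]
      simp only [← neg_one_smul F x, ← neg_one_smul F y, hs.add_left, hs.add_right, hs.smul_left, hs.smul_right,
        RingEquiv.refl_apply, hself, hsym u y]
      field_simp
      ring
    exact ⟨j, hiso j (mem_specialLinear_iff.2 (by rw [hj, hdet])) hji, hji, hjx⟩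
  -- irreducibility
  have hirr : Irr M := by
    intro W hW
    have hmove : ∀ u, Qf u ≠ 0 → ∀ x ∈ W, P x u ≠ 0 → u ∈ W := fun u hu x hx hxu => by
      obtain ⟨j, hj, -, hjx⟩ := hJ u hu
      have h1 : (j : M₃) *ᵥ x ∈ W := by
        have := hW _ ⟨j, hj, rfl⟩ ⟨x, hx, rfl⟩
        rwa [Matrix.toLin'_apply] at this
      rw [hjx] at h1
      have h2 := add_mem h1 hx
      rw [neg_add_cancel_comm] at h2
      exact (W.smul_mem_iff (div_ne_zero hxu hu)).1 h2
    by_cases h0 : ∃ u ∈ W, Qf u ≠ 0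
    · obtain ⟨u, huW, hu⟩ := h0
      right
      refine eq_top_iff.2 fun x _ => ?_
      by_contra hx
      obtain ⟨L, hL, hLW⟩ := Submodule.exists_le_ker_of_notMem hx
      refine hL (hspan L (fun y hy => LinearMap.mem_ker.1 (hLW ?_)) x)
      obtain ⟨z, hz, hzu, hzy⟩ := hconn u y hu hy
      exact hmove y hy z (hmove z hz u huW fun e => hzu (hs.refl _ _ e)) hzy
    · push Not at h0
      left
      refine (Submodule.eq_bot_iff _).2 fun x hx => hs.eq_zero x fun y => ?_
      exact hspan (hs.lin x) (fun u hu => by_contra fun hne =>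
        hu (h0 u (hmove u hu x hx fun e => hne (hs.refl _ _ e)))) y
  -- a transvection
  obtain ⟨v₀, w₀, hv₀, hw₀, hvw₀, h₀⟩ :
      ∃ v₀ w₀ : V, v₀ ≠ 0 ∧ w₀ ≠ 0 ∧ P v₀ w₀ = 0 ∧ InT M v₀ (fn P w₀) := by
    by_contra hc
    push Not at hc
    have hmu : ∀ u, Qf u ≠ 0 → ∃ μ : F, ∀ x, P ((g : M₃) *ᵥ x) ((g : M₃) *ᵥ u) = μ * P x u := by
      intro u hu
      obtain ⟨j, hj, -, hjx⟩ := hJ u hu
      obtain ⟨c, hcdef⟩ : ∃ c, c = (g : M₃) *ᵥ u := ⟨_, rfl⟩
      obtain ⟨ψ, hψdef⟩ : ∃ ψ, ψ = ((Qf u)⁻¹ • fn P u) ᵥ* ((g⁻¹ : GL (Fin 3) F) : M₃) := ⟨_, rfl⟩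
      have hψg : ∀ x, ψ ⬝ᵥ ((g : M₃) *ᵥ x) = P x u / Qf u := fun x => by
        rw [hψdef, vecMul_inv_dot, smul_dotProduct, fn_dot hs, smul_eq_mul, div_eq_inv_mul]
      have hψc : ψ ⬝ᵥ c = 2 := by rw [hcdef, hψg, hself, mul_div_cancel_right₀ _ hu]
      have hc0 : c ≠ 0 := fun e => hodd (by rw [← hψc, e, dotProduct_zero])
      by_cases hprop : ∃ t : F, ψ = t • fn P c
      · obtain ⟨t, ht⟩ := hprop
        have ht0 : t ≠ 0 := fun e => hodd (by rw [← hψc, ht, e, zero_smul, zero_dotProduct])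
        refine ⟨(t * Qf u)⁻¹, fun x => ?_⟩
        have h1 := hψg x
        rw [ht, smul_dotProduct, fn_dot hs, hcdef, smul_eq_mul, eq_div_iff hu] at h1
        rw [eq_comm, inv_mul_eq_iff_eq_mul₀ (mul_ne_zero ht0 hu)]
        linear_combination -h1
      exfalso
      push Not at hprop
      have hfc : fn P c ≠ 0 := fun e => hc0 (fn_injective hs (e.trans (fn_zero hs).symm))
      have hne : ∀ t : F, fn P c ≠ t • ψ := fun t e => by
        rcases eq_or_ne t 0 with rfl | ht
        · exact hfc (by rw [e, zero_smul])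
        · exact hprop t⁻¹ (by rw [e, smul_smul, inv_mul_cancel₀ ht, one_smul])
      obtain ⟨b, hb1, hb2⟩ := exists_ker_dot hne 1
      obtain ⟨a, ha⟩ : ∃ a, a = crossProduct ψ (fn P c) := ⟨_, rfl⟩
      have ha1 : ψ ⬝ᵥ a = 0 := by rw [ha, dot_self_cross]
      have ha2 : P a c = 0 := by rw [← fn_dot hs, ha, dot_cross_self]
      have hψ0 : ψ ≠ 0 := fun e => hodd (by rw [← hψc, e, zero_dotProduct])
      have ha0 : a ≠ 0 := ha ▸ indep_of_not_mem hψ0 hne
      rw [fn_dot hs] at hb2
      obtain ⟨d, hd1, hd2, hd3⟩ : ∃ d, ψ ⬝ᵥ d = 0 ∧ P d c ≠ 0 ∧ Qf d ≠ 0 := by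
        by_contra hcon
        push Not at hcon
        have hall : ∀ s : F, Qf (b + s • a) = 0 := fun s => hcon _
          (by rw [dotProduct_add, dotProduct_smul, hb1, ha1, smul_zero, add_zero])
          (by rw [hs.add_left, hs.smul_left, hb2, ha2, mul_zero, add_zero]; exact one_ne_zero)
        have h0 := hall 0
        have h1 := hall 1
        have h2 := hall (-1)
        rw [zero_smul, add_zero] at h0
        rw [one_smul, quad_add, h0, zero_add] at h1
        rw [quad_add, h0, zero_add, QuadraticMap.map_smul, QuadraticMap.polar_smul_right, smul_eq_mul,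
          smul_eq_mul] at h2
        have hQa : Qf a = 0 := mul_left_cancel₀ hodd (by linear_combination h1 + h2)
        rw [hQa, zero_add] at h1
        refine hline a b ha0 (fun t e => ?_) (hs.refl _ _ h1) hQa h0
        rw [e, hs.smul_left, ha2, mul_zero] at hb2
        exact zero_ne_one hb2
      obtain ⟨i, hi, -, hix⟩ := hJ d hd3
      have hhM : g * j * g⁻¹ ∈ M := mul_mem (mul_mem hgM hj) (inv_mem hgM)
      have hhx : ∀ x, ((g * j * g⁻¹ : GL (Fin 3) F) : M₃) *ᵥ x = -x + (ψ ⬝ᵥ x) • c := fun x => by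
        rw [Units.val_mul, Units.val_mul, ← Matrix.mulVec_mulVec, ← Matrix.mulVec_mulVec, hjx, Matrix.mulVec_add,
          Matrix.mulVec_neg, mulVec_inv_cancel, Matrix.mulVec_smul, ← hcdef]
        congr 2
        conv_rhs => rw [← mulVec_inv_cancel g x, hψg]
      have hT : InT M d ((-(P c d / Qf d)) • ψ) := by
        refine ⟨i * (g * j * g⁻¹) * i * (g * j * g⁻¹), mul_mem (mul_mem (mul_mem hi hhM) hi) hhM, fun x => ?_⟩
        obtain ⟨k, hk⟩ : ∃ k, k = g * j * g⁻¹ := ⟨_, rfl⟩
        rw [← hk] at hhx ⊢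
        rw [Units.val_mul, Units.val_mul, Units.val_mul, ← Matrix.mulVec_mulVec, ← Matrix.mulVec_mulVec,
          ← Matrix.mulVec_mulVec, hhx x, hix, hhx, hix]
        have hneg : ∀ a b : V, P (-a) b = -P a b := fun a b => by
          rw [← neg_one_smul F a, hs.smul_left, neg_one_mul]
        simp only [dotProduct_add, dotProduct_smul, dotProduct_neg, hψc, hd1, smul_eq_mul, hs.add_left, hs.smul_left,
          hneg, neg_dotProduct, smul_dotProduct, hself]
        match_scalars <;> field_simp <;> ring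
      obtain ⟨w, hw⟩ := fn_surjective hs ((-(P c d / Qf d)) • ψ)
      rw [← hw] at hT
      refine hc d w (fun e => hd3 (by rw [e, QuadraticMap.map_zero])) (fun e => ?_) ?_ hT
      · rw [e, fn_zero hs, eq_comm, smul_eq_zero, neg_eq_zero, div_eq_zero_iff] at hw
        exact hw.elim (fun h => h.elim (fun h' => hd2 (by rw [hsym]; exact h')) hd3) hψ0
      · rw [← fn_dot hs, hw, smul_dotProduct, hd1, smul_zero]
    choose μ hμ using hmu
    have hflip : ∀ a b (ha : Qf a ≠ 0) (hb : Qf b ≠ 0), P a b ≠ 0 → μ a ha = μ b hb := fun a b ha hb hab => by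
      have e1 := hμ b hb a
      rw [hsym, hμ a ha b, hsym b a] at e1
      exact mul_right_cancel₀ hab e1
    have heq : ∀ a b (ha : Qf a ≠ 0) (hb : Qf b ≠ 0), μ a ha = μ b hb := fun a b ha hb => by
      obtain ⟨x, hx, hxa, hxb⟩ := hconn a b ha hb
      rw [← hflip x a hx ha hxa, hflip x b hx hb hxb]
    set c := μ r hr with hcdef
    have hall : ∀ x y, P ((g : M₃) *ᵥ x) ((g : M₃) *ᵥ y) = c * P x y := fun x => by
      let L : V →ₗ[F] F := (hs.lin ((g : M₃) *ᵥ x)).comp (Matrix.mulVecLin (g : M₃)) - c • hs.lin x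
      intro y
      have := hspan L (fun u hu => by
        have h1 := hμ u hu x
        rw [heq u r hu hr] at h1
        simp [L, hsym ((g : M₃) *ᵥ u), h1, hsym u x, hcdef]) y
      simpa [L, sub_eq_zero, hsym ((g : M₃) *ᵥ y), hsym y x] using this
    have hne : c ≠ 0 := fun e => by
      have := hall (((g⁻¹ : GL (Fin 3) F) : M₃) *ᵥ r) (((g⁻¹ : GL (Fin 3) F) : M₃) *ᵥ r)
      rw [mulVec_inv_cancel, e, zero_mul, hself] at this
      exact mul_ne_zero hodd hr this
    refine hgns ⟨Units.mk0 c hne, fun x => ?_⟩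
    have := hall x x
    rw [hself, hself] at this
    rw [Units.val_mk0]
    exact mul_left_cancel₀ hodd (by linear_combination this)
  have hfn0 : ∀ u : V, u ≠ 0 → fn P u ≠ 0 := fun u h e => h (fn_injective hs (e.trans (fn_zero hs).symm))
  have htr : ∀ n s : F, ∃ e : F, e + (RingEquiv.refl F) e = -(s * (RingEquiv.refl F) s * n) := fun n s =>
    ⟨-(s * s * n) / 2, by rw [RingEquiv.refl_apply, RingEquiv.refl_apply]; field_simp; ring⟩
  by_cases hv₀v : Qf v₀ = 0
  · have hPv : P v₀ v₀ = 0 := by rw [hself, hv₀v, mul_zero]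
    have hφ : fn P v₀ ⬝ᵥ v₀ = 0 := by rw [fn_dot hs, hPv]
    refine specialLinear_le_of_root hirr hv₀ (hfn0 v₀ hv₀) hφ ?_
    by_cases hw : ∀ t : F, w₀ ≠ t • v₀
    · intro c
      have hw₀w : P w₀ w₀ ≠ 0 := by
        rw [hself]; exact mul_ne_zero hodd fun e => hline v₀ w₀ hv₀ hw hvw₀ hv₀v e
      obtain ⟨e, he⟩ := htr (P w₀ w₀) (c / P w₀ w₀)
      obtain ⟨k, hk, hki, hkv, hkw⟩ := exists_heisenberg hs hh hPv hvw₀ hw₀w c e he
      have h1 := h₀.fn_conj hs (hiso k hk hki) hki
      rw [hkv, hkw] at h1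
      have h2 := h1.fn_sub hs h₀ (by rw [hs.add_right, hs.smul_right, hvw₀, hPv, mul_zero, add_zero]) hvw₀
      rwa [add_sub_cancel_left, MaxTv.fn_smul hs, RingEquiv.refl_apply] at h2
    · push Not at hw
      obtain ⟨c₀, hc₀⟩ := hw
      have hc₀0 : c₀ ≠ 0 := fun e => hw₀ (by rw [hc₀, e, zero_smul])
      refine inR_of_coef hφ (eq_top_of_multipliers (g := c₀) ?_ hc₀0
        (multipliers_eq_top_of_sq hodd fun t ht => mem_multipliers.2 fun c hc => ?_))
      · rw [mem_coef]
        rwa [hc₀, MaxTv.fn_smul hs, RingEquiv.refl_apply] at h₀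
      obtain ⟨x₀, hx₀⟩ := hs.exists_one hv₀
      obtain ⟨u, hu⟩ : ∃ u, u = x₀ + (-Qf x₀) • v₀ := ⟨_, rfl⟩
      have huv : P u v₀ = 1 := by rw [hu, hs.add_left, hs.smul_left, hPv, hx₀, mul_zero, add_zero]
      have hQu : Qf u = 0 := by
        rw [hu, quad_add_smul, hv₀v, show QuadraticMap.polar (⇑Qf) x₀ v₀ = 1 from hx₀]; ring
      have hq : ∀ s : F, Qf (u + s • v₀) = s := fun s => by
        rw [quad_add_smul, hv₀v, hQu, show QuadraticMap.polar (⇑Qf) u v₀ = 1 from huv]; ring
      obtain ⟨j₁, hj₁, i₁, x₁⟩ := hJ (u + (1 : F) • v₀) (by rw [hq]; exact one_ne_zero)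
      obtain ⟨j₂, hj₂, i₂, x₂⟩ := hJ (u + t⁻¹ • v₀) (by rw [hq]; exact inv_ne_zero ht)
      have hvu : P v₀ u = 1 := by rw [hsym, huv]
      have hkv : ((j₁ * j₂ : GL (Fin 3) F) : M₃) *ᵥ v₀ = t • v₀ := by
        rw [Units.val_mul, ← Matrix.mulVec_mulVec, x₂, x₁, hq, hq]
        simp only [hs.add_left, hs.add_right, hs.smul_left, hs.smul_right, ← neg_one_smul F v₀, hPv, hvu, huv,
          RingEquiv.refl_apply, hself, hQu]
        match_scalars <;> field_simp <;> ring
      have hc' : InT M v₀ (fn P (c • v₀)) := by rw [MaxTv.fn_smul hs, RingEquiv.refl_apply]; exact hc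
      have h1 := hc'.fn_conj hs (mul_mem hj₁ hj₂) fun x y => by
        rw [Units.val_mul, ← Matrix.mulVec_mulVec, ← Matrix.mulVec_mulVec, i₁, i₂]
      rw [Matrix.mulVec_smul, hkv, smul_smul, MaxTv.fn_smul hs, RingEquiv.refl_apply] at h1
      have h2 := h1.scale_right
      rw [smul_smul] at h2
      rw [mem_coef, show t ^ 2 * c = t * (c * t) by ring]
      exact h2
  · by_cases hw₀w : Qf w₀ = 0
    · have hPw : P w₀ w₀ = 0 := by rw [hself, hw₀w, mul_zero]
      refine specialLinear_le_of_root hirr hw₀ (hfn0 w₀ hw₀) (by rw [fn_dot hs, hPw]) fun c => ?_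
      have hPv : P v₀ v₀ ≠ 0 := by rw [hself]; exact mul_ne_zero hodd hv₀v
      obtain ⟨e, he⟩ := htr (P v₀ v₀) (c / P v₀ v₀)
      obtain ⟨k, hk, hki, hkw, hkv⟩ := exists_heisenberg hs hh hPw (hs.refl _ _ hvw₀) hPv c e he
      have h1 := h₀.fn_conj hs (hiso k hk hki) hki
      rw [hkv, hkw] at h1
      have h2 := h1.add_left (h₀.neg_left (by rw [fn_dot hs, hvw₀]))
        (by rw [dotProduct_neg, fn_dot hs, hvw₀, neg_zero])
      rw [add_neg_cancel_comm] at h2
      exact h2.scale_right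
    · -- both ends anisotropic
      have hφ : fn P w₀ ⬝ᵥ v₀ = 0 := by rw [fn_dot hs, hvw₀]
      refine specialLinear_le_of_root hirr hv₀ (hfn0 w₀ hw₀) hφ ?_
      by_cases hp : (Nat.card F).Prime
      · exact inR_of_prime hp hφ h₀
      obtain ⟨z, hz, hzv, hzw⟩ := hnormal v₀ w₀ hvw₀ hv₀v hw₀w
      obtain ⟨G, hGdef⟩ : ∃ G, G = coef M v₀ (fn P w₀) hφ := ⟨_, rfl⟩
      have hG : ∀ k : F, Qf w₀ + k ^ 2 * Qf z ≠ 0 → 4 * Qf w₀ / (Qf w₀ + k ^ 2 * Qf z) ∈ G := by
        intro k hk
        have hQ : ∀ s : F, s ^ 2 = k ^ 2 → Qf (w₀ + s • z) = Qf w₀ + k ^ 2 * Qf z := fun s hs' => by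
          rw [quad_add_smul, show QuadraticMap.polar (⇑Qf) w₀ z = 0 from hs.refl _ _ hzw]
          linear_combination Qf z * hs'
        have hstep : ∀ s : F, s ^ 2 = k ^ 2 →
            InT M v₀ (fn P ((2 * Qf w₀ / (Qf w₀ + k ^ 2 * Qf z)) • (w₀ + s • z))) := fun s hs' => by
          obtain ⟨j, hj, ji, jx⟩ := hJ (w₀ + s • z) (by rw [hQ s hs']; exact hk)
          have h1 := h₀.fn_conj hs hj ji
          rw [jx, jx, hQ s hs'] at h1
          simp only [hs.add_right, hs.smul_right, hvw₀, hs.refl _ _ hzv, hs.refl _ _ hzw, hself, mul_zero,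
            add_zero, zero_div, zero_smul, RingEquiv.refl_apply] at h1
          have h2 := h1.neg_left (by
            rw [fn_dot hs, ← neg_one_smul F v₀, hs.smul_left, ← neg_one_smul F w₀]
            simp only [hs.add_right, hs.smul_right, hvw₀, hs.refl _ _ hzv, mul_zero, add_zero])
          rw [neg_neg] at h2
          have h3 := h2.add_right h₀ (by
            rw [fn_dot hs, ← neg_one_smul F w₀]
            simp only [hs.add_right, hs.smul_right, hvw₀, hs.refl _ _ hzv, mul_zero, add_zero])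
          rwa [← MaxTv.fn_add hs, neg_add_cancel_comm] at h3
        have h4 := (hstep k rfl).add_right (hstep (-k) (by ring)) (by
          rw [fn_dot hs, hs.smul_right, hs.add_right, hs.smul_right, hvw₀, hs.refl _ _ hzv]; simp)
        rw [← MaxTv.fn_add hs, ← smul_add, show w₀ + k • z + (w₀ + (-k) • z) = (2 : F) • w₀ by module,
          smul_smul, MaxTv.fn_smul hs, RingEquiv.refl_apply] at h4
        rw [hGdef, mem_coef]
        convert h4 using 2
        ring
      refine inR_of_coef hφ (by_contra fun hne => hp ?_)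
      rw [← hGdef] at hne
      have hq : Odd (Fintype.card F) := by
        rw [← Nat.not_even_iff_odd, Nat.even_iff, ← FiniteField.even_card_iff_char_two]
        intro h2
        exact hodd (by
          have : CharP F 2 := by rw [← h2]; infer_instance
          exact CharTwo.two_eq_zero)
      have hidx : Nat.card G * 3 ≤ Fintype.card F := by
        have h1 := G.card_mul_index
        rw [Nat.card_eq_fintype_card (α := F)] at h1
        have h2 : G.index ≠ 1 := fun e => hne (AddSubgroup.index_eq_one.1 e)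
        have h3 : Odd G.index := Odd.of_dvd_nat hq ⟨Nat.card G, by rw [← h1, mul_comm]⟩
        obtain ⟨m, hm⟩ := h3
        rw [← h1]
        exact Nat.mul_le_mul_left _ (by omega)
      let S : Finset F := Finset.univ.filter fun k => Qf w₀ + k ^ 2 * Qf z ≠ 0
      have hS : Fintype.card F ≤ S.card + 2 := by
        have h1 : (Finset.univ.filter fun k : F => ¬ Qf w₀ + k ^ 2 * Qf z ≠ 0).card ≤ 2 := by
          rcases (Finset.univ.filter fun k : F => ¬ Qf w₀ + k ^ 2 * Qf z ≠ 0).eq_empty_or_nonempty with e | ⟨a, ha⟩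
          · rw [e]; simp
          refine (Finset.card_le_card (t := {a, -a}) fun b hb => ?_).trans Finset.card_le_two
          simp only [Finset.mem_filter, Finset.mem_univ, true_and, not_not] at ha hb
          have : (b - a) * (b + a) * Qf z = 0 := by linear_combination hb - ha
          simp only [mul_eq_zero, hz, or_false, sub_eq_zero, add_eq_zero_iff_eq_neg] at this
          simpa using this
        have h2 := Finset.card_filter_add_card_filter_not (s := (Finset.univ : Finset F))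
          (fun k => Qf w₀ + k ^ 2 * Qf z ≠ 0)
        rw [Finset.card_univ] at h2
        show _ ≤ (Finset.univ.filter _).card + 2
        omega
      have himg : S.card ≤ 2 * (S.image fun k => 4 * Qf w₀ / (Qf w₀ + k ^ 2 * Qf z)).card := by
        refine Finset.card_le_mul_card_image (s := S) 2 fun b hb => ?_
        obtain ⟨a, ha, rfl⟩ := Finset.mem_image.1 hb
        refine (Finset.card_le_card (t := {a, -a}) fun k hk => ?_).trans Finset.card_le_two
        simp only [S, Finset.mem_filter, Finset.mem_univ, true_and] at hk ha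
        obtain ⟨hk1, hk2⟩ := hk
        rw [div_eq_div_iff hk1 ha] at hk2
        have h4 : (4 : F) ≠ 0 := by rw [show (4 : F) = 2 * 2 by norm_num]; exact mul_ne_zero hodd hodd
        have : (k - a) * (k + a) * (4 * Qf w₀ * Qf z) = 0 := by linear_combination -hk2
        simp only [mul_eq_zero, hz, hw₀w, h4, or_false, sub_eq_zero, add_eq_zero_iff_eq_neg] at this
        simpa using this
      have hG' : (S.image fun k => 4 * Qf w₀ / (Qf w₀ + k ^ 2 * Qf z)).card ≤ Nat.card G := by
        have : Fintype G := Fintype.ofFinite G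
        rw [Nat.card_eq_fintype_card]
        refine (Finset.card_le_card (t := (Finset.univ : Finset G).map ⟨Subtype.val, Subtype.val_injective⟩)
          fun b hb => ?_).trans (by rw [Finset.card_map, Finset.card_univ])
        obtain ⟨a, ha, rfl⟩ := Finset.mem_image.1 hb
        simp only [S, Finset.mem_filter, Finset.mem_univ, true_and] at ha
        exact Finset.mem_map.2 ⟨⟨_, hG a ha⟩, Finset.mem_univ _, rfl⟩
      have hle : Fintype.card F ≤ 6 := by omega
      have h1' : 1 < Fintype.card F := Fintype.one_lt_card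
      rw [Nat.card_eq_fintype_card]
      obtain ⟨m, hm⟩ := hq
      rcases (show m = 1 ∨ m = 2 by omega) with rfl | rfl <;> rw [hm] <;> norm_num

end Cfsg.Agent.Classical.SLThree
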