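import Mathlib
import Cfsg.Agent.Lib.Classical.DicksonMain
import Cfsg.Agent.Lib.Classical.DicksonFacts
import Cfsg.Agent.Lib.Classical.DicksonTorusMax

/-!
Subgroups of `PSL(2, F)` containing several upper unipotent elements and one element moving infinity.
-/

set_option autoImplicit false
set_option linter.unusedSectionVars false

namespace Cfsg.Agent.Classical.SLThree

open Matrix Cfsg.Agent.Grp.SL2 Cfsg.Agent.PSL2Spec Cfsg.Agent.Dickson

variable {F : Type*} [Field F] [Fintype F] (p : ℕ) [hp : Fact p.Prime] [CharP F p]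

local notation "SL₂" => Matrix.SpecialLinearGroup (Fin 2) F
local notation "PSL₂" => Matrix.ProjectiveSpecialLinearGroup (Fin 2) F
local notation "M₂" => Matrix (Fin 2) (Fin 2) F

/-- The parameters of the upper unipotent elements of a subgroup. -/
def upSet (H : Subgroup PSL₂) : AddSubgroup F where
  carrier := {x | proj (up x) ∈ H}
  zero_mem' := by
    show proj (up (0 : F)) ∈ H
    rw [up_zero, map_one]; exact one_mem H
  add_mem' {a b} ha hb := by
    show proj (up (a + b)) ∈ H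
    rw [← up_mul, map_mul]; exact mul_mem ha hb
  neg_mem' {a} ha := by
    show proj (up (-a)) ∈ H
    rw [show up (-a) = (up a)⁻¹ from eq_inv_of_mul_eq_one_left (by rw [up_mul, neg_add_cancel, up_zero]), map_inv]
    exact inv_mem ha

theorem proj_up_ne {x : F} (hx : x ≠ 0) : proj (up x) ≠ 1 := fun e => by
  rcases proj_one_iff.1 e with e | e <;>
    have e' := congrArg (fun z : SL₂ => (z : M₂) 0 1) e <;> simp [up, hx] at e'

theorem proj_up_pow (x : F) : proj (up x) ^ p = 1 := by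
  rw [← map_pow, up_pow, CharP.cast_eq_zero, zero_mul, up_zero, map_one]

theorem card_upSet_dvd (H : Subgroup PSL₂) : Nat.card (upSet H) ∣ Nat.card H := by
  let φ : Multiplicative (upSet H) →* H :=
    { toFun := fun x => ⟨proj (up ((Multiplicative.toAdd x : upSet H) : F)), (Multiplicative.toAdd x).2⟩
      map_one' := Subtype.ext (by simp [up_zero])
      map_mul' := fun x y => Subtype.ext (by simp [← map_mul, up_mul]) }
  have h := Subgroup.card_dvd_of_injective φ ((injective_iff_map_eq_one φ).2 fun x hx => by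
    by_contra hne
    exact proj_up_ne (x := ((Multiplicative.toAdd x : upSet H) : F)) (fun e => hne (toAdd_eq_zero.1
      (Subtype.ext e))) (congrArg Subtype.val hx))
  rwa [Nat.card_congr Multiplicative.toAdd] at h

theorem card_cube_le : Nat.card {x : alternatingGroup (Fin 4) // x ^ 3 = 1} ≤ 21 ∧
    Nat.card {x : alternatingGroup (Fin 5) // x ^ 3 = 1} ≤ 21 := by
  rw [Nat.card_eq_fintype_card, Nat.card_eq_fintype_card]
  decide +kernel

/-- Many upper elements and a moving one force subfield type, up to two small exceptions. -/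
theorem subfieldType_or_small (H : Subgroup PSL₂) (hU : 3 ≤ Nat.card (upSet H)) {y : SL₂} (hy : proj y ∈ H)
    (hy10 : (y : M₂) 1 0 ≠ 0) :
    SubfieldType H ∨ (p = 3 ∧ Nat.card (upSet H) ≤ 3 ∧ Nat.card {x : H // x ^ 3 = 1} ≤ 21 ∧ 2 ∣ Nat.card H) := by
  classical
  obtain ⟨⟨x₀, hx₀⟩, hx₀0⟩ : ∃ x : upSet H, x ≠ 0 := by
    by_contra hc
    push Not at hc
    have : Subsingleton (upSet H) := ⟨fun a b => by rw [hc a, hc b]⟩
    rw [Nat.card_eq_one_iff_unique.2 ⟨this, ⟨0⟩⟩] at hU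
    omega
  have hx₀' : x₀ ≠ 0 := fun e => hx₀0 (Subtype.ext e)
  set a := proj (up x₀) with ha
  have haH : a ∈ H := hx₀
  have ha1 : a ≠ 1 := proj_up_ne hx₀'
  have hap : a ^ p = 1 := proj_up_pow p x₀
  set b := proj y * a * (proj y)⁻¹ with hb
  have hbH : b ∈ H := mul_mem (mul_mem hy haH) (inv_mem hy)
  have hbp : b ^ p = 1 := by rw [hb, conj_pow, hap, mul_one, mul_inv_cancel]
  have hb1 : b ≠ 1 := fun e => ha1 (conj_eq_one_iff.1 e)
  have hnc : b ∉ tor a := fun h => by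
    rw [hb, ha, ← map_inv, ← map_mul, ← map_mul, mem_tor_iff] at h
    have h' := lower_of_commute (x := y * up x₀ * y⁻¹) (c := up x₀) (fun e => ha1 (proj_one_iff.2 e))
      (by simp [up]) h
    simp only [Matrix.SpecialLinearGroup.coe_mul, Matrix.SpecialLinearGroup.coe_inv] at h'
    simp [up, Matrix.adjugate_fin_two, Matrix.mul_apply, Fin.sum_univ_two] at h'
    have : x₀ * ((y : M₂) 1 0 * (y : M₂) 1 0) = 0 := by linear_combination -h'
    simp [hx₀', hy10] at this
  have hpH : p ∣ Nat.card H := orderOf_eq_prime hap ha1 ▸ Subgroup.orderOf_dvd_natCard _ haH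
  obtain ⟨k, hk⟩ : ∃ k, Nat.card (upSet H) = p ^ k := by
    obtain ⟨n, -, hn⟩ := FiniteField.card F p
    obtain ⟨k, -, hk⟩ := (Nat.dvd_prime_pow hp.out).1
      (show Nat.card (upSet H) ∣ p ^ (n : ℕ) by
        rw [← hn, ← Nat.card_eq_fintype_card]; exact (upSet H).card_addSubgroup_dvd_card)
    exact ⟨k, hk⟩
  set D := pslData (F := F) p
  have hsmall : ∀ {N : ℕ}, Nat.card H = N → (¬ p ∣ Nat.card H ∨ p = 3) → N ∣ 60 →
      p = 3 ∧ Nat.card (upSet H) ≤ 3 := fun hN h3 h60 => by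
    have h3' : p = 3 := h3.resolve_left (not_not_intro hpH)
    have h1 := ((card_upSet_dvd H).trans (hN ▸ dvd_rfl)).trans h60
    rw [hk, h3'] at h1 ⊢
    refine ⟨rfl, ?_⟩
    rcases k with _ | _ | k
    · simp
    · simp
    · exfalso
      have : (9 : ℕ) ∣ 60 := (Dvd.intro (3 ^ k) (by ring)).trans h1
      omega
  rcases dickson p H with h | ⟨c, hc, hc1, hcp, h⟩ | ⟨c, hc, hc1, hcp, hidx, h, iso⟩ | ⟨c, hc, hc1, hcp, h⟩ |
    ⟨hc, iso, hpc⟩ | ⟨hc, iso, hpc⟩ | ⟨hc, iso, hpc⟩ | h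
  · exact absurd (Subgroup.mem_bot.mp (h ▸ haH)) ha1
  · exact absurd hap (D.semi_of_ne hc1 hcp (h haH) ha1)
  · exfalso
    let T : Subgroup H := (tor c).subgroupOf H
    have hout : ∀ x : upSet H, x ≠ 0 → (⟨proj (up (x : F)), x.2⟩ : H) ∉ T := fun x hx hm =>
      D.semi_of_ne hc1 hcp hm (proj_up_ne fun e => hx (Subtype.ext e)) (proj_up_pow p _)
    obtain ⟨x, y', hxy, hx, hy'⟩ : ∃ x y : upSet H, x ≠ y ∧ x ≠ 0 ∧ y ≠ 0 := by
      have : Fintype (upSet H) := Fintype.ofFinite _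
      rw [Nat.card_eq_fintype_card] at hU
      obtain ⟨x, hx⟩ : ∃ x, x ∈ (Finset.univ.erase (0 : upSet H)) := Finset.card_pos.1 (by
        rw [Finset.card_erase_of_mem (Finset.mem_univ _), Finset.card_univ]; omega)
      obtain ⟨y, hy⟩ : ∃ y, y ∈ ((Finset.univ.erase (0 : upSet H)).erase x) := Finset.card_pos.1 (by
        rw [Finset.card_erase_of_mem hx, Finset.card_erase_of_mem (Finset.mem_univ _), Finset.card_univ]; omega)
      simp at hx hy
      exact ⟨x, y, Ne.symm hy.1, hx, hy.2⟩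
    have hm := (Subgroup.mul_mem_iff_of_index_two hidx (a := (⟨proj (up (x : F)), x.2⟩ : H))
      (b := (⟨proj (up ((-y' : upSet H) : F)), (-y').2⟩ : H))).2
      ⟨fun h => absurd h (hout x hx), fun h => absurd h (hout (-y') (neg_ne_zero.2 hy'))⟩
    refine hout (x - y') (sub_ne_zero.2 hxy) ?_
    convert hm using 1
    exact Subtype.ext (by simp [← map_mul, up_mul, sub_eq_add_neg])
  · exfalso
    set N := Subgroup.normalizer (tor c : Set PSL₂) with hN
    have h1 := Subgroup.card_mul_index ((tor c).subgroupOf N)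
    rw [Nat.card_congr (Subgroup.subgroupOfEquivOfLe Subgroup.le_normalizer).toEquiv, card_tor_uni p hc1 hcp] at h1
    have h2' := card_borel p hc1 hcp
    rw [← hN, ← h1, mul_assoc] at h2'
    have hidx := Nat.eq_of_mul_eq_mul_left Fintype.card_pos h2'
    haveI : ((tor c).subgroupOf N).Normal := Subgroup.normal_in_normalizer
    have hin : ∀ z ∈ H, z ^ p = 1 → z ≠ 1 → z ∈ tor c := by
      intro z hz hzp hz1
      have hz' : z ^ ((tor c).subgroupOf N).index ∈ tor c :=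
        Subgroup.pow_index_mem ((tor c).subgroupOf N) (⟨z, h hz⟩ : N)
      have hcop : Nat.Coprime ((tor c).subgroupOf N).index (orderOf z) := by
        rw [orderOf_eq_prime hzp hz1, Nat.coprime_comm, hp.out.coprime_iff_not_dvd]
        intro hd
        obtain ⟨n, -, hn⟩ := FiniteField.card F p
        have h3 : p ∣ Fintype.card F := by rw [hn]; exact dvd_pow_self p n.pos.ne'
        have h4 : p ∣ Fintype.card F - 1 := by rw [← hidx]; exact Dvd.dvd.mul_right hd _
        have := Fintype.one_lt_card (α := F)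
        have h5 := Nat.dvd_sub h3 h4
        rw [show Fintype.card F - (Fintype.card F - 1) = 1 by omega] at h5
        exact hp.out.one_lt.ne' (Nat.dvd_one.mp h5)
      obtain ⟨m, hm⟩ := exists_pow_eq_self_of_coprime hcop
      rw [← hm]; exact pow_mem hz' m
    have hT := D.same hc1 (hin a haH hap ha1) ha1
    refine hnc ?_
    show b ∈ D.T a
    rw [hT]
    exact hin b hbH hbp hb1
  · refine Or.inr ⟨(hsmall hc hpc (by norm_num)).1, (hsmall hc hpc (by norm_num)).2, ?_, hc ▸ (by norm_num)⟩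
    obtain ⟨i⟩ := iso
    rw [Nat.card_congr (i.toEquiv.subtypeEquiv (q := fun x => x ^ 3 = 1) fun x => by
      simp [← map_pow])]
    exact card_cube_le.1
  · exact absurd hpH hpc
  · refine Or.inr ⟨(hsmall hc hpc dvd_rfl).1, (hsmall hc hpc dvd_rfl).2, ?_, hc ▸ (by norm_num)⟩
    obtain ⟨i⟩ := iso
    rw [Nat.card_congr (i.toEquiv.subtypeEquiv (q := fun x => x ^ 3 = 1) fun x => by
      simp [← map_pow])]
    exact card_cube_le.2
  · exact Or.inl h

section Frame

theorem exists_coe_conj {H : Subgroup PSL₂} {K : Subfield F} {P : GL (Fin 2) F}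
    (hle : H.map Matrix.ProjectiveSpecialLinearGroup.toPGL ≤
      ((pglMap K.subtype).range).map (MulAut.conj (Matrix.ProjGenLinGroup.mk P)).toMonoidHom)
    {y : SL₂} (hy : proj y ∈ H) :
    ∃ (k : GL (Fin 2) K) (u : F), u ≠ 0 ∧
      (y : M₂) = u • ((P : M₂) * (Matrix.GeneralLinearGroup.map K.subtype k : GL (Fin 2) F) *
        ((P⁻¹ : GL (Fin 2) F) : M₂)) := by
  obtain ⟨_, ⟨k, rfl⟩, hk⟩ := hle (Subgroup.mem_map_of_mem _ hy)
  rw [toPGL_proj] at hk
  induction k using Matrix.ProjGenLinGroup.induction_on with | mk k => ?_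
  rw [MulEquiv.coe_toMonoidHom, MulAut.conj_apply, pglMap_mk, ← map_inv, ← map_mul, ← map_mul] at hk
  obtain ⟨u, hu⟩ := (Matrix.ProjGenLinGroup.mk_eq_mk_iff).mp hk
  refine ⟨k, u, u.ne_zero, ?_⟩
  have h := congrArg (fun z : GL (Fin 2) F => (z : M₂)) hu
  simpa [Matrix.GeneralLinearGroup.coe_scalar, ← Matrix.smul_one_eq_diagonal] using h.symm

/-- The fixed line of a unipotent element is rational. -/
theorem exists_rational_fixed {H : Subgroup PSL₂} {K : Subfield F} {P : GL (Fin 2) F}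
    (hle : H.map Matrix.ProjectiveSpecialLinearGroup.toPGL ≤
      ((pglMap K.subtype).range).map (MulAut.conj (Matrix.ProjGenLinGroup.mk P)).toMonoidHom)
    {y : SL₂} (hy : proj y ∈ H) (htr : (y : M₂).trace = 2) (hy1 : y ≠ 1) {v : Fin 2 → F}
    (hv : (y : M₂) *ᵥ v = v) :
    ∃ (w : Fin 2 → K) (s : F), w ≠ 0 ∧ ((P⁻¹ : GL (Fin 2) F) : M₂) *ᵥ v = s • fun i => (w i : F) := by
  classical
  obtain ⟨k, u, hu, hk⟩ := exists_coe_conj hle hy
  obtain ⟨k', hk'⟩ : ∃ k' : M₂, k' = (Matrix.GeneralLinearGroup.map K.subtype k : GL (Fin 2) F) := ⟨_, rfl⟩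
  rw [← hk'] at hk
  have hkK : ∀ i j, k' i j ∈ K := fun i j => by rw [hk']; exact ((k : Matrix (Fin 2) (Fin 2) K) i j).2
  have ht : u * k'.trace = 2 := by
    rw [← htr, hk, Matrix.trace_smul, Matrix.trace_units_conj, smul_eq_mul]
  have hd : u ^ 2 * k'.det = 1 := by
    rw [← y.2, hk, Matrix.det_smul, Matrix.det_units_conj, Fintype.card_fin]
  have htK : k'.trace ∈ K := by rw [Matrix.trace_fin_two]; exact add_mem (hkK _ _) (hkK _ _)
  have hdK : k'.det ∈ K := by
    rw [Matrix.det_fin_two]; exact sub_mem (mul_mem (hkK _ _) (hkK _ _)) (mul_mem (hkK _ _) (hkK _ _))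
  have huK : u ∈ K := by
    by_cases h2 : (2 : F) = 0
    · have : CharP F 2 := CharTwo.of_one_ne_zero_of_two_eq_zero one_ne_zero h2
      obtain ⟨b, hb⟩ := FiniteField.isSquare_of_char_two (F := K) (ringChar.eq K 2) ⟨_, inv_mem hdK⟩
      have hb' : (k'.det)⁻¹ = (b : F) * b := congrArg Subtype.val hb
      rw [← sq, ← eq_inv_of_mul_eq_one_left hd] at hb'
      rw [CharTwo.sq_injective hb']
      exact b.2
    · have h0 : k'.trace ≠ 0 := fun e => h2 (by rw [← ht, e, mul_zero])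
      rw [show u = 2 / k'.trace by rw [← ht, mul_div_cancel_right₀ _ h0], show (2 : F) = 1 + 1 by norm_num]
      exact div_mem (add_mem (one_mem _) (one_mem _)) htK
  obtain ⟨z, hz⟩ : ∃ z, z = ((P⁻¹ : GL (Fin 2) F) : M₂) *ᵥ v := ⟨_, rfl⟩
  have hN : (u • k' - 1) *ᵥ z = 0 := by
    have h1 := congrArg (fun x => ((P⁻¹ : GL (Fin 2) F) : M₂) *ᵥ x) hv
    simp only [hk, Matrix.smul_mulVec, Matrix.mulVec_smul, ← Matrix.mulVec_mulVec] at h1
    simp only [Matrix.mulVec_mulVec _ ((P⁻¹ : GL (Fin 2) F) : M₂) (P : M₂), ← Units.val_mul, inv_mul_cancel,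
      Units.val_one, Matrix.one_mulVec, ← hz] at h1
    rw [Matrix.sub_mulVec, Matrix.smul_mulVec, Matrix.one_mulVec, h1, sub_self]
  obtain ⟨i, j, hij⟩ : ∃ i j, (u • k' - 1) i j ≠ 0 := by
    by_contra hc
    push Not at hc
    refine hy1 (Subtype.ext ?_)
    have : u • k' = 1 := sub_eq_zero.1 (Matrix.ext fun i j => hc i j)
    rw [hk, ← Matrix.smul_mul, ← Matrix.mul_smul, this, mul_one, ← Units.val_mul, mul_inv_cancel,
      Units.val_one, Matrix.SpecialLinearGroup.coe_one]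
  have hr := congrFun hN i
  simp only [Matrix.mulVec, dotProduct, Fin.sum_univ_two, Pi.zero_apply] at hr
  obtain ⟨a, ha⟩ : ∃ a, a = (u • k' - 1) i 0 := ⟨_, rfl⟩
  obtain ⟨b, hb⟩ : ∃ b, b = (u • k' - 1) i 1 := ⟨_, rfl⟩
  rw [← ha, ← hb] at hr
  have hNK : ∀ j, (u • k' - 1) i j ∈ K := fun j => by
    rw [Matrix.sub_apply, Matrix.smul_apply, smul_eq_mul]
    refine sub_mem (mul_mem huK (hkK _ _)) ?_
    by_cases e : i = j
    · subst e; rw [Matrix.one_apply_eq]; exact one_mem _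
    · rw [Matrix.one_apply_ne e]; exact zero_mem _
  have hab : a ≠ 0 ∨ b ≠ 0 := by
    fin_cases j
    · exact Or.inl (ha ▸ hij)
    · exact Or.inr (hb ▸ hij)
  rcases hab with h | h
  · refine ⟨![-⟨b, hb ▸ hNK 1⟩, ⟨a, ha ▸ hNK 0⟩], z 1 / a,
      fun e => h (by simpa using congrArg Subtype.val (congrFun e 1)), ?_⟩
    rw [← hz]; funext l; fin_cases l
    · simp; field_simp; linear_combination hr
    · simp [h]
  · refine ⟨![⟨b, hb ▸ hNK 1⟩, -⟨a, ha ▸ hNK 0⟩], z 0 / b,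
      fun e => h (by simpa using congrArg Subtype.val (congrFun e 0)), ?_⟩
    rw [← hz]; funext l; fin_cases l
    · simp [h]
    · simp; field_simp; linear_combination hr

/-- The upper elements and the torus of a subgroup of subfield type. -/
theorem exists_frame {H : Subgroup PSL₂} (hH : SubfieldType H) {x₀ : F} (hx₀ : x₀ ∈ upSet H) (hx₀0 : x₀ ≠ 0) :
    ∃ (K : Subfield F) (c : F), 3 ≤ Nat.card K ∧ c ≠ 0 ∧ (∀ x, x ∈ upSet H ↔ x / c ∈ K) ∧
      ∀ a ∈ K, a ≠ 0 → ∃ m : SL₂, proj m ∈ H ∧ (m : M₂) 1 0 = 0 ∧ (m : M₂) 0 0 = a ∧ (m : M₂) 1 1 = a⁻¹ := by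
  classical
  obtain ⟨K, P, h3, h⟩ := hH
  have hle : H.map Matrix.ProjectiveSpecialLinearGroup.toPGL ≤
      ((pglMap K.subtype).range).map (MulAut.conj (Matrix.ProjGenLinGroup.mk P)).toMonoidHom := by
    rcases h with h | h <;> rw [h]
    exact Subgroup.map_mono (pslImg_le _)
  have hge : (pslImg K.subtype).map (MulAut.conj (Matrix.ProjGenLinGroup.mk P)).toMonoidHom ≤
      H.map Matrix.ProjectiveSpecialLinearGroup.toPGL := by
    rcases h with h | h <;> rw [h]
    exact Subgroup.map_mono (pslImg_le _)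
  obtain ⟨w, s, hw, hws⟩ := exists_rational_fixed hle (y := up x₀) hx₀
    (by rw [Matrix.trace_fin_two]; simp [up]; norm_num)
    (fun e => hx₀0 (by simpa [up] using congrArg (fun z : SL₂ => (z : M₂) 0 1) e))
    (v := ![1, 0]) (by funext i; fin_cases i <;> simp [up, Matrix.mulVec, dotProduct, Fin.sum_univ_two])
  -- a rational frame at infinity
  obtain ⟨B, hB⟩ : ∃ B : GL (Fin 2) K, (B : Matrix (Fin 2) (Fin 2) K) *ᵥ ![1, 0] = w := by
    by_cases h0 : w 0 = 0
    · have h1 : w 1 ≠ 0 := fun e => hw (funext fun i => by fin_cases i <;> assumption)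
      refine ⟨Matrix.GeneralLinearGroup.mkOfDetNeZero !![w 0, 1; w 1, 0] (by simp [Matrix.det_fin_two, h1]), ?_⟩
      funext i; fin_cases i <;> simp [Matrix.mulVec, dotProduct, Fin.sum_univ_two]
    · refine ⟨Matrix.GeneralLinearGroup.mkOfDetNeZero !![w 0, 0; w 1, 1] (by simp [Matrix.det_fin_two, h0]), ?_⟩
      funext i; fin_cases i <;> simp [Matrix.mulVec, dotProduct, Fin.sum_univ_two]
  obtain ⟨B', hB'⟩ : ∃ B' : GL (Fin 2) F, B' = Matrix.GeneralLinearGroup.map K.subtype B := ⟨_, rfl⟩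
  obtain ⟨Q, hQ⟩ : ∃ Q : GL (Fin 2) F, Q = P * B' := ⟨_, rfl⟩
  have hQ10 : (Q : M₂) 1 0 = 0 := by
    have h1 : (Q : M₂) *ᵥ (s • ![1, 0]) = ![1, 0] := by
      have h2 : (B' : M₂) *ᵥ ![1, 0] = fun i => (w i : F) := by
        rw [hB', ← hB]
        funext i; fin_cases i <;> simp [Matrix.mulVec, dotProduct, Fin.sum_univ_two]
      rw [hQ, Units.val_mul, ← Matrix.mulVec_mulVec, Matrix.mulVec_smul, h2, ← hws, Matrix.mulVec_mulVec,
        ← Units.val_mul, mul_inv_cancel, Units.val_one, Matrix.one_mulVec]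
    have h3 := congrFun h1 1
    have h4 := congrFun h1 0
    simp [Matrix.mulVec, dotProduct, Fin.sum_univ_two] at h3 h4
    exact h3.resolve_right fun e => by rw [e, mul_zero] at h4; exact zero_ne_one h4
  have hdQ : (Q : M₂) 0 0 * (Q : M₂) 1 1 ≠ 0 := by
    have := ((Matrix.isUnit_iff_isUnit_det _).1 Q.isUnit).ne_zero
    rwa [Matrix.det_fin_two, hQ10, mul_zero, sub_zero] at this
  obtain ⟨hQ00, hQ11⟩ := mul_ne_zero_iff.1 hdQ
  have hback : ∀ g : Matrix.SpecialLinearGroup (Fin 2) K, ∀ m : SL₂,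
      (m : M₂) * (Q : M₂) = (Q : M₂) * (g : Matrix (Fin 2) (Fin 2) K).map K.subtype → proj m ∈ H := by
    intro g m hm
    have hmem : Matrix.ProjectiveSpecialLinearGroup.toPGL (proj m) ∈ H.map Matrix.ProjectiveSpecialLinearGroup.toPGL := by
      refine hge ⟨_, ⟨QuotientGroup.mk (⟨(B : Matrix (Fin 2) (Fin 2) K) * g * ((B⁻¹ : GL (Fin 2) K) : Matrix (Fin 2) (Fin 2) K),
        by rw [Matrix.det_units_conj]; exact g.2⟩ : Matrix.SpecialLinearGroup (Fin 2) K), rfl⟩, ?_⟩
      rw [toPGL_proj, MulEquiv.coe_toMonoidHom, MulAut.conj_apply, MonoidHom.comp_apply]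
      show Matrix.ProjGenLinGroup.mk P * Matrix.ProjGenLinGroup.mk _ * (Matrix.ProjGenLinGroup.mk P)⁻¹ =
        Matrix.ProjGenLinGroup.mk _
      rw [← map_inv, ← map_mul, ← map_mul]
      refine congrArg _ (Units.ext ?_)
      rw [Units.val_mul, Units.val_mul]
      show (P : M₂) * ((B : Matrix (Fin 2) (Fin 2) K) * g * ((B⁻¹ : GL (Fin 2) K) : Matrix (Fin 2) (Fin 2) K)).map K.subtype *
        ((P⁻¹ : GL (Fin 2) F) : M₂) = (m : M₂)
      rw [Matrix.map_mul, Matrix.map_mul]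
      have e1 : (B : Matrix (Fin 2) (Fin 2) K).map K.subtype = (B' : M₂) := by rw [hB']; rfl
      have e2 : ((B⁻¹ : GL (Fin 2) K) : Matrix (Fin 2) (Fin 2) K).map K.subtype = ((B'⁻¹ : GL (Fin 2) F) : M₂) := by
        rw [hB', ← map_inv]; rfl
      rw [e1, e2, ← mul_assoc, ← mul_assoc, ← Units.val_mul, ← hQ, ← hm, mul_assoc (m : M₂) (Q : M₂),
        mul_assoc (m : M₂), ← Units.val_mul, ← Units.val_mul, hQ]
      simp
    obtain ⟨z, hz, hze⟩ := hmem
    rw [← Matrix.ProjectiveSpecialLinearGroup.toPGL_injective hze]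
    exact hz
  refine ⟨K, (Q : M₂) 0 0 / (Q : M₂) 1 1, h3, div_ne_zero hQ00 hQ11, fun x => ⟨fun hx => ?_, fun hx => ?_⟩,
    fun a ha ha0 => ?_⟩
  · obtain ⟨k, u, hu, hk⟩ := exists_coe_conj hle (y := up x) hx
    obtain ⟨k₁, hk₁⟩ : ∃ k₁ : GL (Fin 2) K, k₁ = B⁻¹ * k * B := ⟨_, rfl⟩
    have h1 : (up x : SL₂).1 * (Q : M₂) =
        u • ((Q : M₂) * (Matrix.GeneralLinearGroup.map K.subtype k₁ : GL (Fin 2) F)) := by
      rw [hk, Matrix.smul_mul, hQ, hk₁, map_mul, map_mul, map_inv, ← hB']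
      simp only [Units.val_mul, mul_assoc]
      congr 2
      rw [Units.inv_mul_cancel_left, Units.mul_inv_cancel_left]
    have e10 := congrFun (congrFun h1 1) 0
    have e00 := congrFun (congrFun h1 0) 0
    have e01 := congrFun (congrFun h1 0) 1
    have e11 := congrFun (congrFun h1 1) 1
    simp [up, Matrix.mul_apply, Fin.sum_univ_two, hQ10] at e10 e00 e01 e11
    have f10 : ((k₁ : Matrix (Fin 2) (Fin 2) K) 1 0 : F) = 0 := by simpa [hu, hQ11] using e10.symm
    rw [f10, mul_zero, add_zero] at e00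
    have f00 : u * ((k₁ : Matrix (Fin 2) (Fin 2) K) 0 0 : F) = 1 := mul_left_cancel₀ hQ00 (by linear_combination -e00)
    have huK : u ∈ K := by rw [eq_inv_of_mul_eq_one_left f00]; exact inv_mem (SetLike.coe_mem _)
    rw [show x / ((Q : M₂) 0 0 / (Q : M₂) 1 1) = u * ((k₁ : Matrix (Fin 2) (Fin 2) K) 0 1 : F) from ?_]
    · exact mul_mem huK (SetLike.coe_mem _)
    have f11 : u * ((k₁ : Matrix (Fin 2) (Fin 2) K) 1 1 : F) = 1 := mul_left_cancel₀ hQ11 (by linear_combination -e11)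
    field_simp
    linear_combination e01 + (Q : M₂) 0 1 * f11
  · refine hback ⟨!![1, ⟨_, hx⟩; 0, 1], by simp [Matrix.det_fin_two]⟩ (up x) ?_
    ext i j; fin_cases i <;> fin_cases j <;> simp [up, Matrix.mul_apply, Fin.sum_univ_two, hQ10]
    field_simp; ring
  · refine ⟨⟨!![a, (Q : M₂) 0 1 * (a⁻¹ - a) / (Q : M₂) 1 1; 0, a⁻¹], by simp [Matrix.det_fin_two, ha0]⟩, ?_,
      rfl, rfl, rfl⟩
    refine hback ⟨!![⟨a, ha⟩, 0; 0, ⟨a, ha⟩⁻¹], by
      have : (⟨a, ha⟩ : K) ≠ 0 := fun e => ha0 (congrArg Subtype.val e)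
      simp [Matrix.det_fin_two, this]⟩ _ ?_
    ext i j; fin_cases i <;> fin_cases j <;> simp [Matrix.mul_apply, Fin.sum_univ_two, hQ10]
    all_goals try field_simp
    all_goals ring

end Frame

end Cfsg.Agent.Classical.SLThree
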