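import Cfsg.Agent.Lib.Classical.SLThree.Field
import Cfsg.Agent.Lib.Classical.SLThree.TwoFrame

/-!
All transvections are rational over the field of a frame of six root groups.
-/

set_option autoImplicit false
set_option linter.unusedSectionVars false

namespace Cfsg.Agent.Classical.SLThree

open Matrix Module MaxTv

variable {F : Type*} [Field F]

local notation "V" => (Fin 3 → F)
local notation "M₃" => Matrix (Fin 3) (Fin 3) F

/-- Coordinates in `K`. -/
def KV (K : Subfield F) (v : Fin 3 → F) : Prop := ∀ i, v i ∈ K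

/-- A multiple of a vector with coordinates in `K`. -/
def KLine (K : Subfield F) (v : Fin 3 → F) : Prop := ∃ c : F, ∃ r, KV K r ∧ v = c • r

variable {M : Subgroup (GL (Fin 3) F)} {K : Subfield F} {v φ : Fin 3 → F}

theorem Exact.root (h : Exact M K) {y χ : V} (hy : KV K y) (hχ : KV K χ) (h0 : χ ⬝ᵥ y = 0) : InT M y χ := by
  let y' : Fin 3 → K := fun i => ⟨y i, hy i⟩
  let χ' : Fin 3 → K := fun i => ⟨χ i, hχ i⟩
  have h0' : χ' ⬝ᵥ y' = 0 := Subtype.ext (by simpa [dotProduct, Fin.sum_univ_three, y', χ'] using h0)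
  have hdet : (1 + vecMulVec y' χ' : Matrix (Fin 3) (Fin 3) K).det = 1 := by
    rw [Matrix.vecMulVec_eq Unit, Matrix.det_one_add_replicateCol_mul_replicateRow, h0', add_zero]
  refine ⟨_, h.map_mem ⟨_, hdet⟩, fun x => ?_⟩
  show (1 + vecMulVec y' χ' : Matrix (Fin 3) (Fin 3) K).map K.subtype *ᵥ x = _
  have hm : (1 + vecMulVec y' χ' : Matrix (Fin 3) (Fin 3) K).map K.subtype = 1 + vecMulVec y χ := by
    ext a b
    simp only [Matrix.map_apply, Matrix.add_apply, Matrix.one_apply, Matrix.vecMulVec_apply, map_add, map_mul,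
      apply_ite K.subtype, map_one, map_zero]
    rfl
  rw [hm, Matrix.add_mulVec, Matrix.one_mulVec, Matrix.vecMulVec_mulVec]
  simp

theorem step (h : InT M v φ) {i j : Fin 3} (hij : i ≠ j) {x : F} (hx : InT M (e i) (x • e j)) :
    InT M (v + (x * v j) • e i) (φ - (φ i * x) • e j) := by
  have h1 := h.tv_conj hx (by rw [smul_dotProduct, e_orth hij.symm, smul_zero])
  rwa [smul_dotProduct, e_dot, smul_eq_mul, dotProduct_comm φ (e i), e_dot, smul_smul] at h1

/-- A transvection with coordinate centre. -/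
theorem kv_of_coord (h : Exact M K) {i : Fin 3} {c : F} (hc : c ∈ K) (hc0 : c ≠ 0) (hd : φ ⬝ᵥ (c • e i) = 0)
    (ht : InT M (c • e i) φ) : KV K φ := by
  rw [dotProduct_smul, dotProduct_comm, e_dot, smul_eq_mul, mul_eq_zero, or_iff_right hc0] at hd
  have h1 := ht.scale_right
  intro j
  rcases eq_or_ne i j with rfl | hji
  · rw [hd]; exact zero_mem _
  obtain ⟨k, hki, hkj⟩ := exists_third i j
  have h0 : (c • φ) ⬝ᵥ e i = 0 := by rw [smul_dotProduct, dotProduct_comm, e_dot, hd, smul_zero]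
  have h2 := step h1 hkj.symm (x := 1) ((h j k hkj.symm 1).2 (one_mem _))
  rw [show (e i : V) k = 0 by simp [e, hki], mul_zero, zero_smul, add_zero] at h2
  have h3 := h1.add_right (h2.neg (by
    rw [sub_dotProduct, h0, smul_dotProduct, e_orth hki, smul_zero, sub_zero])) h0
  have h4 := (h i k hki.symm ((c • φ) j * 1)).1 (by convert h3 using 1; abel)
  rw [mul_one, Pi.smul_apply, smul_eq_mul] at h4
  have := mul_mem (inv_mem hc) h4
  rwa [inv_mul_cancel_left₀ hc0] at this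

/-- A rational centre has a rational axis. -/
theorem kv_of_centre (h : Exact M K) (hv : KV K v) (hv0 : v ≠ 0) (hd : φ ⬝ᵥ v = 0) (ht : InT M v φ) :
    KV K φ := by
  obtain ⟨i, hi⟩ : ∃ i, v i ≠ 0 := by
    by_contra hc
    push Not at hc
    exact hv0 (funext hc)
  obtain ⟨j, k, hji, hki, hjk, hall⟩ : ∃ j k : Fin 3, j ≠ i ∧ k ≠ i ∧ j ≠ k ∧ ∀ l, l = i ∨ l = j ∨ l = k := by
    revert hi; clear ht hd hv0 hv
    intro _
    fin_cases i <;> decide
  obtain ⟨a, ha⟩ : ∃ a, a = -(v j / v i) := ⟨_, rfl⟩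
  obtain ⟨b, hb⟩ : ∃ b, b = -(v k / v i) := ⟨_, rfl⟩
  have haK : a ∈ K := ha ▸ neg_mem (div_mem (hv j) (hv i))
  have hbK : b ∈ K := hb ▸ neg_mem (div_mem (hv k) (hv i))
  have h1 := step (step ht hji ((h j i hji a).2 haK)) hki ((h k i hki b).2 hbK)
  have hd2 : (φ - (φ j * a) • e i - ((φ - (φ j * a) • e i : V) k * b) • e i) ⬝ᵥ
      (v + (a * v i) • e j + (b * (v + (a * v i) • e j : V) i) • e k) = 0 := by
    simp only [sub_dotProduct, dotProduct_add, smul_dotProduct, dotProduct_smul, e_dot, hd, Pi.sub_apply,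
      Pi.add_apply, Pi.smul_apply, dotProduct_comm φ (e j), dotProduct_comm φ (e k)]
    simp [e, hji, hji.symm, hki, hki.symm, hjk, hjk.symm]
    ring
  have hv2 : v + (a * v i) • e j + (b * (v + (a * v i) • e j : V) i) • e k = v i • e i := by
    funext l
    rcases hall l with rfl | rfl | rfl <;>
      simp [e, hji, hji.symm, hki, hki.symm, hjk, hjk.symm, ha, hb, hi]
  rw [hv2] at h1 hd2
  have h2 := kv_of_coord h (hv i) hi hd2 h1
  have hj : φ j ∈ K := by simpa [e, hji, hki, hjk] using h2 j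
  have hk : φ k ∈ K := by simpa [e, hji, hki, hjk.symm] using h2 k
  have hi' : φ i ∈ K := by
    have := h2 i
    simp [e, hji.symm, hki.symm, hki] at this
    have := add_mem (add_mem this (mul_mem hj haK)) (mul_mem hk hbK)
    convert this using 1
    ring
  intro l
  rcases hall l with rfl | rfl | rfl <;> assumption

theorem kv_of_axis (h : Exact M K) (hφ : KV K φ) (hφ0 : φ ≠ 0) (hd : φ ⬝ᵥ v = 0) (ht : InT M v φ) :
    KV K v :=
  kv_of_centre h.dual hφ hφ0 (by rw [dotProduct_comm]; exact hd) (inT_dual hd ht)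

theorem kline_of_line (h : Exact M K) (hv0 : v ≠ 0) (hd : φ ⬝ᵥ v = 0) (ht : InT M v φ) (hv : KLine K v) :
    KLine K φ := by
  obtain ⟨c, r, hr, rfl⟩ := hv
  obtain ⟨hc, hr0⟩ := smul_ne_zero_iff.1 hv0
  refine ⟨c⁻¹, c • φ, kv_of_centre h hr hr0 ?_ ht.scale_right, by rw [smul_smul, inv_mul_cancel₀ hc, one_smul]⟩
  rw [smul_dotProduct, ← dotProduct_smul, hd]

/-- A centre on a rational line. -/
theorem kline_of_rational_zero (h : Exact M K) (hv0 : v ≠ 0) (hφ0 : φ ≠ 0) (hd : φ ⬝ᵥ v = 0) (ht : InT M v φ)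
    {χ : V} (hχ : KV K χ) (hχ0 : χ ≠ 0) (hχv : χ ⬝ᵥ v = 0) : KLine K v := by
  obtain ⟨i, hi⟩ : ∃ i, χ i ≠ 0 := by
    by_contra hc
    push Not at hc
    exact hχ0 (funext hc)
  by_cases hy : ∃ y : V, KV K y ∧ χ ⬝ᵥ y = 0 ∧ φ ⬝ᵥ y ≠ 0
  · obtain ⟨y, hyK, hχy, hφy⟩ := hy
    have h1 := rule (h.root hyK hχ hχy) ht hχy hχv hd
    refine ⟨(φ ⬝ᵥ y)⁻¹, (φ ⬝ᵥ y) • v, kv_of_axis h hχ hχ0 ?_ h1, by rw [smul_smul, inv_mul_cancel₀ hφy, one_smul]⟩
    rw [dotProduct_smul, hχv, smul_zero]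
  · push Not at hy
    have hprop : φ = (φ i / χ i) • χ := funext fun j => by
      have h1 := hy (χ i • e j - χ j • e i) (fun l => by
        simp only [Pi.sub_apply, Pi.smul_apply, smul_eq_mul]
        refine sub_mem (mul_mem (hχ _) ?_) (mul_mem (hχ _) ?_) <;>
          simp only [e, Pi.single_apply] <;> split_ifs <;> simp [one_mem, zero_mem]) (by
        rw [dotProduct_sub, dotProduct_smul, dotProduct_smul, dotProduct_comm χ (e j), dotProduct_comm χ (e i),
          e_dot, e_dot, smul_eq_mul, smul_eq_mul]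
        ring)
      rw [dotProduct_sub, dotProduct_smul, dotProduct_smul, dotProduct_comm φ (e j), dotProduct_comm φ (e i),
        e_dot, e_dot, smul_eq_mul, smul_eq_mul, sub_eq_zero] at h1
      rw [Pi.smul_apply, smul_eq_mul]
      field_simp
      linear_combination h1
    exact kline_of_line h.dual hφ0 (by rw [dotProduct_comm]; exact hd) (inT_dual hd ht) ⟨_, χ, hχ, hprop⟩

theorem subfield_eq_of_card [Finite F] {A B : Subfield F} (h : Nat.card A = Nat.card B) : A = B := by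
  classical
  have : Fintype F := Fintype.ofFinite F
  have hn : 1 < Nat.card A := Finite.one_lt_card
  let S : Finset F := Finset.univ.filter fun a => a ^ Nat.card A = a
  have hS : S.card ≤ Nat.card A := by
    have hne := FiniteField.X_pow_card_sub_X_ne_zero F hn
    refine le_trans ?_ ((Polynomial.card_roots' (Polynomial.X ^ Nat.card A - Polynomial.X : Polynomial F)).trans
      (FiniteField.X_pow_card_sub_X_natDegree_eq F hn).le)
    refine le_trans (Finset.card_le_card (t := (Polynomial.X ^ Nat.card A - Polynomial.X : Polynomial F).roots.toFinset)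
      fun a ha => ?_) (Multiset.toFinset_card_le _)
    simp only [S, Finset.mem_filter, Finset.mem_univ, true_and] at ha
    rw [Multiset.mem_toFinset, Polynomial.mem_roots hne, Polynomial.IsRoot.def, Polynomial.eval_sub,
      Polynomial.eval_pow, Polynomial.eval_X, ha, sub_self]
  have key : ∀ C : Subfield F, Nat.card C = Nat.card A → (C : Set F) = (S : Set F) := fun C hC => by
    have hpow : ∀ x : C, x ^ Nat.card A = x := fun x => by
      have : Fintype C := Fintype.ofFinite C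
      rw [← hC, Nat.card_eq_fintype_card]
      exact FiniteField.pow_card x
    have hsub : (C : Set F) ⊆ (S : Set F) := fun a ha => by
      simp only [S, Finset.coe_filter, Finset.mem_univ, true_and, Set.mem_ofPred_eq]
      exact congrArg Subtype.val (hpow ⟨a, ha⟩)
    refine Set.eq_of_subset_of_ncard_le hsub ?_ (S.finite_toSet)
    rw [Set.ncard_coe_finset]
    exact hS.trans (by rw [← hC]; exact (Nat.card_coe_set_eq _).le)
  exact SetLike.coe_injective ((key A rfl).trans (key B h.symm).symm)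

/-- The values of a functional on a rational plane form a subfield line. -/
theorem plane_field [Fintype F] (h : Exact M K) (hd : φ ⬝ᵥ v = 0) (ht : InT M v φ) {i j k : Fin 3} (hij : i ≠ j)
    (hik : i ≠ k) (hjk : j ≠ k) (hvk : v k ≠ 0)
    (hgen : ∀ a b : K, (a : F) * φ i + (b : F) * φ j = 0 → a = 0 ∧ b = 0) :
    ∃ K₁ : Subfield F, Nat.card K₁ = Nat.card K ^ 2 ∧ φ j / φ i ∈ K₁ ∧
      ∀ a ∈ K₁, ∃ s t : K, a * φ i = (s : F) * φ i + (t : F) * φ j := by
  classical
  obtain ⟨p, hp⟩ := CharP.exists F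
  haveI := hp
  haveI : Fact p.Prime := ⟨CharP.char_is_prime F p⟩
  obtain ⟨π, hπ⟩ : ∃ π : V → (Fin 2 → F), π = fun x => ![φ ⬝ᵥ x, x k] := ⟨_, rfl⟩
  let H : Subgroup (Matrix.SpecialLinearGroup (Fin 2) F) :=
    { carrier := {A | ∃ g ∈ M, ∀ x, π ((g : M₃) *ᵥ x) = (A : Matrix (Fin 2) (Fin 2) F) *ᵥ π x}
      one_mem' := ⟨1, one_mem M, fun x => by simp⟩
      mul_mem' := fun {A B} hA hB => by
        obtain ⟨g, hg, hgx⟩ := hA
        obtain ⟨g', hg', hgx'⟩ := hB
        exact ⟨g * g', mul_mem hg hg', fun x => by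
          rw [Units.val_mul, ← Matrix.mulVec_mulVec, hgx, hgx', Matrix.mulVec_mulVec,
            Matrix.SpecialLinearGroup.coe_mul]⟩
      inv_mem' := fun {A} hA => by
        obtain ⟨g, hg, hgx⟩ := hA
        refine ⟨g⁻¹, inv_mem hg, fun x => ?_⟩
        have h1 := hgx (((g⁻¹ : GL (Fin 3) F) : M₃) *ᵥ x)
        rw [mulVec_inv_cancel] at h1
        rw [h1, Matrix.mulVec_mulVec, ← Matrix.SpecialLinearGroup.coe_mul, inv_mul_cancel,
          Matrix.SpecialLinearGroup.coe_one, Matrix.one_mulVec] }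
  have hlow : Grp.SL2.low (v k) ∈ H := by
    obtain ⟨g, hg, hgx⟩ := ht
    refine ⟨g, hg, fun x => ?_⟩
    funext l
    rw [hgx, hπ]
    fin_cases l <;> simp [Grp.SL2.low, Matrix.mulVec, hd] <;> simp [dotProduct, Fin.sum_univ_two] <;> ring
  have hzv : ∀ a b : K, KV K ((a : F) • e i + (b : F) • e j) := fun a b l => by
    simp only [Pi.add_apply, Pi.smul_apply, smul_eq_mul, e, Pi.single_apply]
    split_ifs <;> simp [add_mem, zero_mem, a.2, b.2]
  have hek : KV K (e k : V) := fun l => by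
    simp only [e, Pi.single_apply]; split_ifs <;> simp [one_mem, zero_mem]
  have hzk : ∀ a b : F, (e k : V) ⬝ᵥ (a • e i + b • e j) = 0 := fun a b => by
    rw [dotProduct_add, dotProduct_smul, dotProduct_smul, e_orth hik.symm, e_orth hjk.symm]; simp
  have hzφ : ∀ a b : F, φ ⬝ᵥ (a • e i + b • e j) = a * φ i + b * φ j := fun a b => by
    rw [dotProduct_add, dotProduct_smul, dotProduct_smul, dotProduct_comm φ (e i), dotProduct_comm φ (e j),
      e_dot, e_dot, smul_eq_mul, smul_eq_mul]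
  have hup : ∀ a b : K, Grp.SL2.up ((a : F) * φ i + (b : F) * φ j) ∈ H := fun a b => by
    obtain ⟨g, hg, hgx⟩ := h.root (hzv a b) hek (hzk a b)
    refine ⟨g, hg, fun x => ?_⟩
    funext l
    rw [hgx, hπ, ← hzφ]
    obtain ⟨z, hz⟩ : ∃ z : V, z = (a : F) • e i + (b : F) • e j := ⟨_, rfl⟩
    have h0 : z k = 0 := by rw [← e_dot k z, hz]; exact hzk a b
    rw [← hz]
    fin_cases l <;>
      simp [Grp.SL2.up, Matrix.mulVec, e_dot, dotProduct_add, dotProduct_smul, h0] <;>
      simp [dotProduct, Fin.sum_univ_two] <;> ring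
  obtain ⟨Hp, hHp⟩ : ∃ Hp, Hp = H.map Cfsg.Agent.PSL2Spec.proj := ⟨_, rfl⟩
  let U₀ : AddSubgroup F :=
    { carrier := {w | ∃ a b : K, w = (a : F) * φ i + (b : F) * φ j}
      zero_mem' := ⟨0, 0, by simp⟩
      add_mem' := fun {w w'} hw hw' => by
        obtain ⟨a, b, rfl⟩ := hw
        obtain ⟨a', b', rfl⟩ := hw'
        exact ⟨a + a', b + b', by push_cast; ring⟩
      neg_mem' := fun {w} hw => by
        obtain ⟨a, b, rfl⟩ := hw
        exact ⟨-a, -b, by push_cast; ring⟩ }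
  have hcardU : Nat.card U₀ = Nat.card K ^ 2 := by
    rw [sq, ← Nat.card_prod]
    refine (Nat.card_congr (Equiv.ofBijective (fun ab : K × K => (⟨_, ab.1, ab.2, rfl⟩ : U₀)) ⟨?_, ?_⟩)).symm
    · rintro ⟨a, b⟩ ⟨a', b'⟩ e'
      have e'' := congrArg Subtype.val e'
      simp only at e''
      obtain ⟨h1, h2⟩ := hgen (a - a') (b - b') (by push_cast; linear_combination e'')
      rw [sub_eq_zero.1 h1, sub_eq_zero.1 h2]
    · rintro ⟨w, a, b, rfl⟩; exact ⟨(a, b), rfl⟩
  have hUle : U₀ ≤ upSet Hp := by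
    rintro w ⟨a, b, rfl⟩
    exact hHp ▸ Subgroup.mem_map_of_mem _ (hup a b)
  have hU4 : 4 ≤ Nat.card (upSet Hp) := by
    have h2 : 2 ≤ Nat.card K := Finite.one_lt_card
    calc 4 ≤ Nat.card K ^ 2 := Nat.pow_le_pow_left h2 2
      _ ≤ _ := hcardU ▸ Nat.card_le_card_of_injective _ (AddSubgroup.inclusion_injective hUle)
  rcases subfieldType_or_small p Hp (by omega) (y := Grp.SL2.low (v k))
    (hHp ▸ Subgroup.mem_map_of_mem _ hlow) (by simp [Grp.SL2.low]; exact hvk) with hS | ⟨-, hle, -⟩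
  swap
  · omega
  have hφi : φ i ≠ 0 := fun e' => one_ne_zero (hgen 1 0 (by simp [e'])).1
  obtain ⟨K₁, c, -, hc0, hmem, htor⟩ := exists_frame hS (hUle (x := φ i) ⟨1, 0, by simp⟩) hφi
  have hic : φ i / c ∈ K₁ := (hmem _).1 (hUle ⟨1, 0, by simp⟩)
  have hx : φ j / φ i ∈ K₁ := by
    have := div_mem ((hmem _).1 (hUle (x := φ j) ⟨0, 1, by simp⟩)) hic
    rwa [div_div_div_cancel_right₀ hc0] at this
  have hsq : ∀ a ∈ K₁, a ^ 2 ∈ multipliers U₀ := by
    intro a ha
    rcases eq_or_ne a 0 with rfl | ha0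
    · simp [zero_mem]
    obtain ⟨m, hm, h10, h00, h11⟩ := htor a ha ha0
    rw [hHp] at hm
    obtain ⟨A, hA, hAm⟩ := hm
    obtain ⟨g, hg, hgx⟩ := hA
    obtain ⟨ε, hε, hA'⟩ : ∃ ε : F, ε * ε = 1 ∧
        (A : Matrix (Fin 2) (Fin 2) F) = ε • (m : Matrix (Fin 2) (Fin 2) F) := by
      rcases Cfsg.Agent.Dickson.proj_eq_iff.1 hAm with e' | e'
      · exact ⟨1, one_mul 1, by rw [e', one_smul]⟩
      · exact ⟨-1, by ring, by rw [e', Matrix.SpecialLinearGroup.coe_neg]; simp⟩
    have hk1 : ∀ x : V, ((g : M₃) *ᵥ x) k = ε * a⁻¹ * x k := fun x => by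
      have := congrFun (hgx x) 1
      rw [hπ, hA'] at this
      simpa [Matrix.mulVec, dotProduct, Fin.sum_univ_two, h10, h11] using this
    refine mem_multipliers.2 ?_
    rintro w ⟨s, t, rfl⟩
    obtain ⟨z, hz⟩ : ∃ z : V, z = (s : F) • e i + (t : F) • e j := ⟨_, rfl⟩
    have hzk' : z k = 0 := by rw [← e_dot k z, hz]; exact hzk _ _
    have h1 := (hz ▸ h.root (hzv s t) hek (hzk s t) : InT M z (e k)).conj hg
    have hfun : (e k : V) ᵥ* ((g⁻¹ : GL (Fin 3) F) : M₃) = (ε * a) • e k := dotProduct_eq _ _ fun y => by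
      obtain ⟨x, rfl⟩ : ∃ x, y = (g : M₃) *ᵥ x := ⟨_, (mulVec_inv_cancel g y).symm⟩
      rw [vecMul_inv_dot, smul_dotProduct, e_dot, e_dot, hk1, smul_eq_mul]
      field_simp
      linear_combination -(x k) * hε
    rw [hfun] at h1
    have h2 := h1.scale_left
    obtain ⟨z', hz'⟩ : ∃ z', z' = (ε * a) • ((g : M₃) *ᵥ z) := ⟨_, rfl⟩
    rw [← hz'] at h2
    have hz'k : z' k = 0 := by rw [hz', Pi.smul_apply, hk1, hzk', mul_zero, smul_zero]
    have hz'K : KV K z' := kv_of_axis h hek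
      (fun e' => one_ne_zero (α := F) (by simpa [e] using congrFun e' k)) (by rw [e_dot, hz'k]) h2
    refine ⟨⟨z' i, hz'K i⟩, ⟨z' j, hz'K j⟩, ?_⟩
    have hφz' : φ ⬝ᵥ z' = z' i * φ i + z' j * φ j := by
      rw [← hzφ]
      congr 1
      funext l
      have hl : l = i ∨ l = j ∨ l = k := by
        revert hij hik hjk
        fin_cases i <;> fin_cases j <;> fin_cases k <;> fin_cases l <;> decide
      rcases hl with rfl | rfl | rfl <;> simp [e, hij, hij.symm, hik, hik.symm, hjk, hjk.symm, hz'k]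
    rw [← hφz', hz', dotProduct_smul, smul_eq_mul]
    have h3 := congrFun (hgx z) 0
    rw [hπ, hA'] at h3
    simp [Matrix.mulVec, dotProduct, Fin.sum_univ_two, h00, hzk'] at h3
    rw [show φ ⬝ᵥ ((g : M₃) *ᵥ z) = ε * a * (φ ⬝ᵥ z) from h3, ← hzφ, ← hz]
    linear_combination -(a ^ 2 * (φ ⬝ᵥ z)) * hε
  have hle : ∀ a ∈ K₁, a ∈ multipliers U₀ := fun a ha => by
    by_cases h2 : (2 : F) = 0
    · have : CharP F 2 := CharTwo.of_one_ne_zero_of_two_eq_zero one_ne_zero h2
      obtain ⟨b, hb⟩ := FiniteField.isSquare_of_char_two (F := K₁) (ringChar.eq K₁ 2) ⟨a, ha⟩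
      rw [show a = (b : F) ^ 2 by rw [sq]; exact congrArg Subtype.val hb]
      exact hsq _ b.2
    · rw [show a = ((a + 1) ^ 2 - a ^ 2 - 1) / 2 by field_simp; ring, show (2 : F) = 1 + 1 by norm_num]
      exact div_mem (sub_mem (sub_mem (hsq _ (add_mem ha (one_mem _))) (hsq _ ha)) (one_mem _))
        (add_mem (one_mem _) (one_mem _))
  have hmul : ∀ a ∈ K₁, a * φ i ∈ U₀ := fun a ha => mem_multipliers.1 (hle a ha) _ ⟨1, 0, by simp⟩
  refine ⟨K₁, le_antisymm ?_ ?_, hx, fun a ha => hmul a ha⟩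
  · rw [← hcardU]
    exact Nat.card_le_card_of_injective (fun a : K₁ => (⟨_, hmul a a.2⟩ : U₀)) fun a b e' =>
      Subtype.ext (mul_right_cancel₀ hφi (congrArg Subtype.val e'))
  · rw [← hcardU]
    exact Nat.card_le_card_of_injective (fun w : U₀ => (⟨(w : F) / c, (hmem _).1 (hUle w.2)⟩ : K₁)) fun a b e' =>
      Subtype.ext ((div_left_inj' hc0).1 (congrArg Subtype.val e'))

/-- All transvections are rational. -/
theorem rational [Fintype F] (h : Exact M K) (hv0 : v ≠ 0) (hφ0 : φ ≠ 0) (hd : φ ⬝ᵥ v = 0)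
    (ht : InT M v φ) : KLine K v ∧ KLine K φ := by
  have hd' : v ⬝ᵥ φ = 0 := by rw [dotProduct_comm]; exact hd
  suffices hv : KLine K v from ⟨hv, kline_of_line h hv0 hd ht hv⟩
  by_cases hzv : ∃ χ : V, KV K χ ∧ χ ≠ 0 ∧ χ ⬝ᵥ v = 0
  · obtain ⟨χ, h1, h2, h3⟩ := hzv
    exact kline_of_rational_zero h hv0 hφ0 hd ht h1 h2 h3
  by_cases hzφ : ∃ χ : V, KV K χ ∧ χ ≠ 0 ∧ χ ⬝ᵥ φ = 0
  · obtain ⟨χ, h1, h2, h3⟩ := hzφ
    have := kline_of_line h.dual hφ0 hd' (inT_dual hd ht)
      (kline_of_rational_zero h.dual hφ0 hv0 hd' (inT_dual hd ht) h1 h2 h3)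
    exact this
  push Not at hzv hzφ
  exfalso
  have hvk : ∀ k, v k ≠ 0 := fun k e' => hzv (e k) (fun l => by
    simp only [e, Pi.single_apply]; split_ifs <;> simp [one_mem, zero_mem])
    (fun e'' => one_ne_zero (α := F) (by simpa [e] using congrFun e'' k)) (by rw [e_dot, e'])
  have hgen : ∀ i j : Fin 3, i ≠ j → ∀ a b : K, (a : F) * φ i + (b : F) * φ j = 0 → a = 0 ∧ b = 0 := by
    intro i j hij a b hab
    by_contra hne
    refine hzφ ((a : F) • e i + (b : F) • e j) (fun l => ?_) (fun e' => hne ⟨?_, ?_⟩) ?_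
    · simp only [Pi.add_apply, Pi.smul_apply, smul_eq_mul, e, Pi.single_apply]
      split_ifs <;> simp [add_mem, zero_mem, a.2, b.2]
    · exact Subtype.ext (by simpa [e, hij] using congrFun e' i)
    · exact Subtype.ext (by simpa [e, hij.symm] using congrFun e' j)
    · rw [add_dotProduct, smul_dotProduct, smul_dotProduct, e_dot, e_dot]; exact hab
  obtain ⟨K₁, hc1, -, hK1⟩ := plane_field h hd ht (i := 0) (j := 1) (k := 2) (by decide) (by decide) (by decide)
    (hvk 2) (hgen 0 1 (by decide))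
  obtain ⟨K₂, hc2, hy2, -⟩ := plane_field h hd ht (i := 0) (j := 2) (k := 1) (by decide) (by decide) (by decide)
    (hvk 1) (hgen 0 2 (by decide))
  rw [subfield_eq_of_card (hc2.trans hc1.symm)] at hy2
  obtain ⟨s, t, hst⟩ := hK1 _ hy2
  have hφ0' : φ 0 ≠ 0 := fun e' => one_ne_zero (hgen 0 1 (by decide) 1 0 (by simp [e'])).1
  rw [div_mul_cancel₀ _ hφ0'] at hst
  refine hzφ ![(s : F), (t : F), -1] (fun l => ?_) (fun e' => ?_) ?_
  · fin_cases l <;> simp [one_mem, s.2, t.2]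
  · simpa using congrFun e' 2
  · simp [dotProduct, Fin.sum_univ_three]; linear_combination -hst

end Cfsg.Agent.Classical.SLThree
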