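import Cfsg.Agent.Lib.Classical.SLThree.SingerSixteen

/-!
The normaliser of a Singer cycle is maximal in `SL(3, q)` for `q` different from four.
-/

set_option autoImplicit false
set_option linter.unusedSectionVars false

namespace Cfsg.Agent.Classical.SLThree.Singer

open Matrix Module MaxTv SLThree

variable {F : Type*} [Field F] [Fintype F] {K : Subalgebra F (Matrix (Fin 3) (Fin 3) F)}
  {M : Subgroup (GL (Fin 3) F)}

local notation "V" => (Fin 3 → F)
local notation "M₃" => Matrix (Fin 3) (Fin 3) F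

theorem Over.top_of_odd (h : Over K M) (h8 : 8 ≤ Fintype.card F) (h2 : (2 : F) ≠ 0) {c : V} (hc : Dbl M c) :
    Geo.specialLinear (Fin 3) F ≤ M := by
  obtain ⟨u, hu, huK, hns⟩ := h.exists_gen
  have hn1 : ∀ s : F, (u : M₃) ≠ s • 1 := fun s e => hns 1 (one_dvd _) s (by rw [pow_one, e])
  have hli := linearIndependent_of_top_le_span_of_card_eq_finrank
    (span_powers h.deg ((mem_Kx h.deg).1 huK) hn1 hc.1).ge (by simp)
  refine h.top_of_six h8 (a := c) (b := (u : M₃) *ᵥ c) (c := (u : M₃) *ᵥ ((u : M₃) *ᵥ c)) (fun x y z e => ?_) ?_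
  · have := Fintype.linearIndependent_iff.1 hli ![x, y, z] (by simpa [Fin.sum_univ_three] using e)
    exact ⟨this 0, this 1, this 2⟩
  intro i j k _ hik _
  obtain ⟨v, hv⟩ : ∃ v : Fin 3 → V, v = ![c, (u : M₃) *ᵥ c, (u : M₃) *ᵥ ((u : M₃) *ᵥ c)] := ⟨_, rfl⟩
  rw [← hv]
  have hd : ∀ l, Dbl M (v l) := fun l => by
    subst hv
    fin_cases l
    · exact hc
    · exact hc.conj hu
    · exact (hc.conj hu).conj hu
  rw [← hv] at hli
  obtain ⟨θ, hθ, ht, h0⟩ := (hd i).line_axis (hd k) h h2 (indep_of_not_mem (hli.ne_zero i) fun t e => by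
    have h1 := Fintype.linearIndependent_iff.1 hli (Pi.single k 1 - Pi.single i t) (by
      simp only [Pi.sub_apply, sub_smul, Finset.sum_sub_distrib]
      simp [Pi.single_apply, ite_smul, e]) k
    simp [Pi.single_apply, hik.symm] at h1)
  exact ⟨θ, hθ, ht, h0⟩

theorem Over.top_of_mem (h : Over K M) {g : GL (Fin 3) F} (hg : g ∈ M)
    (hgn : g ∉ Geo.subalgebraNormalizer K ⊓ Geo.specialLinear (Fin 3) F) :
    Geo.specialLinear (Fin 3) F ≤ M := by
  obtain ⟨v, φ, hv, hφ, ht⟩ := h.exists_transvection hg hgn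
  have hd := h.dot_eq_zero ht
  by_cases hp : (Nat.card F).Prime
  · exact specialLinear_le_of_root h.irr hv hφ hd (inR_of_prime hp hd ht)
  have h8 := h.eight_le hp
  obtain ⟨c, hc⟩ := h.exists_dbl h8 hv hφ ht
  by_cases h2 : (2 : F) = 0
  · have : CharP F 2 := CharTwo.of_one_ne_zero_of_two_eq_zero one_ne_zero h2
    by_contra hne
    exact (Small.mk h h8 hne).false_of_dbl hc
  · exact h.top_of_odd h8 h2 hc

end Cfsg.Agent.Classical.SLThree.Singer

namespace Cfsg.Agent.Classical.SLThree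

/-- The normaliser of a cubic field is maximal. -/
theorem singer_maximal {F : Type*} [Field F] [Fintype F] (h4 : Fintype.card F ≠ 4)
    (K : Subalgebra F (Matrix (Fin 3) (Fin 3) F)) (hK : Geo.IsFieldSubalgebra 3 K) :
    Geo.IsMaximalIn (Geo.specialLinear (Fin 3) F)
      (Geo.subalgebraNormalizer K ⊓ Geo.specialLinear (Fin 3) F) :=
  MaxTv.isMaximalIn_intro inf_le_right (Singer.not_le_normalizer hK) fun M hHM hMK g hgM hgH =>
    Singer.Over.top_of_mem (K := K) ⟨hK, h4, hHM, hMK⟩ hgM hgH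

end Cfsg.Agent.Classical.SLThree
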