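import Cfsg.Agent.Lib.Classical.SLThree.SingerInvariant

/-!
A group with scalar commutators that is invariant under a cubic field element lies in the field.
-/

set_option autoImplicit false
set_option linter.unusedSectionVars false

namespace Cfsg.Agent.Classical.SLThree.Singer

open Matrix Module MaxTv SLThree

variable {F : Type*} [Field F]

local notation "V" => (Fin 3 → F)
local notation "M₃" => Matrix (Fin 3) (Fin 3) F

theorem three_terms {W : Type*} [AddCommGroup W] [Module F W] {ω : F} (hω : ω ^ 3 = 1) (hω1 : ω ≠ 1)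
    {A B C : W} (h0 : A + B + C = 0) (h1 : A + ω • B + ω ^ 2 • C = 0) (h2 : A + ω ^ 2 • B + ω • C = 0) :
    A = 0 ∧ B = 0 ∧ C = 0 := by
  have hs : (1 : F) + ω + ω ^ 2 = 0 := (mul_eq_zero.1 (show (ω - 1) * (1 + ω + ω ^ 2) = 0 by
    linear_combination hω)).resolve_left (sub_ne_zero.2 hω1)
  have h3 : (3 : F) ≠ 0 := fun h => hω1 (by
    have : (ω - 1) ^ 2 = 0 := by linear_combination hs - ω * h
    exact sub_eq_zero.1 (pow_eq_zero_iff two_ne_zero |>.1 this))
  have eA : (3 : F) • A = 0 := by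
    have := congrArg₂ (· + ·) (congrArg₂ (· + ·) h0 h1) h2
    simp only [add_zero] at this
    linear_combination (norm := module) this - congrArg (fun x : F => x • B) hs - congrArg (fun x : F => x • C) hs
  have hA : A = 0 := (smul_eq_zero.1 eA).resolve_left h3
  subst hA
  rw [zero_add] at h0 h1
  have hB : (ω - ω ^ 2) • B = 0 := by
    linear_combination (norm := module) h1 - ω ^ 2 • h0
  have hne : ω - ω ^ 2 ≠ 0 := fun e => hω1 (by
    have hω0 : ω ≠ 0 := fun e' => one_ne_zero (α := F) (by rw [← hω, e']; ring)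
    exact mul_left_cancel₀ hω0 (by linear_combination -e))
  have hB0 := (smul_eq_zero.1 hB).resolve_left hne
  subst hB0
  exact ⟨rfl, rfl, by simpa using h0⟩

variable {ω : F} {x y : Matrix (Fin 3) (Fin 3) F}

theorem pow_comm (h : x * y = ω • (y * x)) (j : ℕ) : x * y ^ j = ω ^ j • (y ^ j * x) := by
  induction j with
  | zero => simp
  | succ j ih =>
    rw [pow_succ, ← mul_assoc, ih, smul_mul_assoc, mul_assoc, h, mul_smul_comm, smul_smul, ← pow_succ, mul_assoc]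

theorem pow_comm' (h : x * y = ω • (y * x)) (i j : ℕ) : x ^ i * y ^ j = ω ^ (i * j) • (y ^ j * x ^ i) := by
  induction i with
  | zero => simp
  | succ i ih =>
    rw [pow_succ, mul_assoc, pow_comm h, mul_smul_comm, ← mul_assoc, ih, smul_mul_assoc, smul_smul, ← pow_add,
      mul_assoc, ← pow_succ, show j + i * j = (i + 1) * j by ring]

theorem eq_zero_of_eig {W : M₃} (hω : ω ^ 3 = 1) (hω1 : ω ≠ 1) (hW : IsUnit W) {A : Fin 3 → M₃}
    (hA : ∀ i : Fin 3, W * A i = ω ^ (i : ℕ) • (A i * W)) (hsum : A 0 + A 1 + A 2 = 0) : ∀ i, A i = 0 := by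
  have h1 : A 0 + ω • A 1 + ω ^ 2 • A 2 = 0 := hW.mul_left_eq_zero.1 (by
    have := congrArg (W * ·) hsum
    simp only [mul_add, mul_zero, hA] at this
    simpa [add_mul, smul_mul_assoc] using this)
  have h2 : A 0 + ω ^ 2 • A 1 + ω • A 2 = 0 := hW.mul_left_eq_zero.1 (by
    have := congrArg (W * ·) h1
    simp only [mul_add, mul_zero, mul_smul_comm, hA, smul_smul] at this
    simp only [add_mul, smul_mul_assoc]
    rw [show ω • (A 2 * W) = (ω ^ 2 * ω ^ 2) • (A 2 * W) by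
      rw [show ω ^ 2 * ω ^ 2 = ω by linear_combination ω * hω]]
    rw [show ω * ω ^ ((1 : Fin 3) : ℕ) = ω ^ 2 by simp [sq],
      show ω ^ 2 * ω ^ ((2 : Fin 3) : ℕ) = (ω ^ 2 * ω ^ 2) by simp] at this
    simpa using this)
  obtain ⟨e0, e1, e2⟩ := three_terms hω hω1 hsum h1 h2
  intro i; fin_cases i <;> assumption

/-- The nine monomials are a basis. -/
theorem monomials_span (hω : ω ^ 3 = 1) (hω1 : ω ≠ 1) (hx : IsUnit x) (hy : IsUnit y)
    (h : x * y = ω • (y * x)) :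
    Submodule.span F (Set.range fun p : Fin 3 × Fin 3 => x ^ (p.1 : ℕ) * y ^ (p.2 : ℕ)) = ⊤ := by
  refine (Fintype.linearIndependent_iff.2 fun g hg => ?_ :
    LinearIndependent F fun p : Fin 3 × Fin 3 => x ^ (p.1 : ℕ) * y ^ (p.2 : ℕ)).span_eq_top_of_card_eq_finrank ?_
  · rw [Fintype.sum_prod_type] at hg
    obtain ⟨A, hA⟩ : ∃ A : Fin 3 → M₃, ∀ j, A j = ∑ i : Fin 3, g (i, j) • x ^ (i : ℕ) := ⟨_, fun j => rfl⟩
    have hsum : A 0 * y ^ ((0 : Fin 3) : ℕ) + A 1 * y ^ ((1 : Fin 3) : ℕ) + A 2 * y ^ ((2 : Fin 3) : ℕ) = 0 := by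
      rw [← hg, hA, hA, hA]
      simp only [Fin.sum_univ_three, add_mul, smul_mul_assoc]
      abel
    have hxA : ∀ j, x * A j = A j * x := fun j => by
      rw [hA, Finset.mul_sum, Finset.sum_mul]
      refine Finset.sum_congr rfl fun i _ => ?_
      rw [mul_smul_comm, smul_mul_assoc, ← pow_succ', ← pow_succ]
    have hB := eq_zero_of_eig hω hω1 hx (A := fun j => A j * y ^ (j : ℕ)) (fun j => by
      rw [← mul_assoc, hxA, mul_assoc, pow_comm h, mul_smul_comm, ← mul_assoc]) hsum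
    have hA0 : ∀ j, A j = 0 := fun j => (hy.pow _).mul_left_eq_zero.1 (hB j)
    rintro ⟨i, j⟩
    have hxy : ∀ k : ℕ, y * x ^ k = (ω ^ 2) ^ k • (x ^ k * y) := fun k => by
      refine pow_comm ?_ k
      rw [h, smul_smul, ← pow_succ, hω, one_smul]
    have hC := eq_zero_of_eig (ω := ω ^ 2) (by rw [← pow_mul, mul_comm, pow_mul, hω, one_pow])
      (fun e => hω1 (by rw [← hω, pow_succ, e, one_mul]))
      hy (A := fun i : Fin 3 => g (i, j) • x ^ (i : ℕ)) (fun i => by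
        rw [mul_smul_comm, hxy, smul_mul_assoc, smul_comm]) (by
        have := hA0 j
        rwa [hA, Fin.sum_univ_three] at this) i
    exact (smul_eq_zero.1 hC).resolve_right (hx.pow _).ne_zero
  · rw [Fintype.card_prod, Fintype.card_fin, Module.finrank_matrix]
    simp

/-- Only scalars commute with both. -/
theorem scalar_of_commute (hω : ω ^ 3 = 1) (hω1 : ω ≠ 1) (hx : IsUnit x) (hy : IsUnit y)
    (h : x * y = ω • (y * x)) {z : M₃} (hzx : Commute z x) (hzy : Commute z y) : ∃ s : F, z = s • 1 := by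
  have hall : ∀ a : M₃, z * a = a * z := fun a => by
    have ha : a ∈ Submodule.span F (Set.range fun p : Fin 3 × Fin 3 => x ^ (p.1 : ℕ) * y ^ (p.2 : ℕ)) :=
      monomials_span hω hω1 hx hy h ▸ Submodule.mem_top
    induction ha using Submodule.span_induction with
    | mem b hb => obtain ⟨p, rfl⟩ := hb; exact ((hzx.pow_right _).mul_right (hzy.pow_right _)).eq
    | zero => simp
    | add b c _ _ hb hc => rw [mul_add, add_mul, hb, hc]
    | smul t b _ hb => rw [mul_smul_comm, smul_mul_assoc, hb]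
  refine ⟨z 0 0, ?_⟩
  ext i j
  have h1 := congrFun (congrFun (hall (Matrix.single 0 i 1)) 0) j
  rcases eq_or_ne i j with rfl | hij
  · simpa [Matrix.mul_apply, Matrix.single_apply] using h1.symm
  · simpa [Matrix.mul_apply, Matrix.single_apply, Matrix.one_apply_ne hij, hij] using h1.symm

/-- A line in the plane of nine points. -/
def lineKey (i j : Fin 3) : Fin 4 := if i = 0 then 3 else (j * i).castSucc

theorem lineKey_spec : ∀ i j k l k' l' : Fin 3, lineKey i j = lineKey k l → (i ≠ 0 ∨ j ≠ 0) → (k ≠ 0 ∨ l ≠ 0) →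
    (j * k' = i * l' ↔ l * k' = k * l') := by decide

theorem prop_spec : ∀ i j k l k' l' : Fin 3, (i ≠ 0 ∨ j ≠ 0) → j * k = i * l → j * k' = i * l' →
    l * k' = k * l' := by decide

variable {K : Subalgebra F (Matrix (Fin 3) (Fin 3) F)}

theorem mem_of_scalar_comm (hK : Geo.IsFieldSubalgebra 3 K) {u : GL (Fin 3) F} (hu : u ∈ Kx K) {m : ℕ}
    (hm : Odd m) (hum : u ^ m = 1) (hns : ∀ s : F, ((u ^ 9 : GL (Fin 3) F) : M₃) ≠ s • 1)
    {N : Subgroup (GL (Fin 3) F)} (hN : N ≤ Geo.specialLinear (Fin 3) F)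
    (hcom : ∀ a ∈ N, ∀ b ∈ N, ∃ s : F, (a : M₃) * b = s • ((b : M₃) * a))
    (hinv : ∀ a ∈ N, u * a * u⁻¹ ∈ N) {g : GL (Fin 3) F} (hg : g ∈ N) : (g : M₃) ∈ K := by
  classical
  have hns3 : ∀ s : F, ((u ^ 3 : GL (Fin 3) F) : M₃) ≠ s • 1 := fun s e => hns (s ^ 3) (by
    rw [show u ^ 9 = (u ^ 3) ^ 3 by rw [← pow_mul], Units.val_pow_eq_pow_val, e, smul_pow, one_pow])
  by_cases hab : ∀ a ∈ N, ∀ b ∈ N, a * b = b * a
  · exact mem_of_abelian hK hu hm hum hns3 hab hinv hg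
  exfalso
  push Not at hab
  obtain ⟨a, ha, b, hb, hne⟩ := hab
  have hdet : ∀ c ∈ N, (c : M₃).det = 1 := fun c hc => mem_specialLinear_iff.1 (hN hc)
  have hcube : ∀ {s : F}, (∃ c ∈ N, ∃ d ∈ N, (c : M₃) * d = s • ((d : M₃) * c)) → s ^ 3 = 1 := by
    rintro s ⟨c, hc, d, hd, e⟩
    have := congrArg Matrix.det e
    rw [Matrix.det_mul, Matrix.det_smul, Matrix.det_mul, hdet c hc, hdet d hd, Fintype.card_fin, mul_one, mul_one]
      at this
    exact this.symm
  obtain ⟨ω, hω'⟩ := hcom a ha b hb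
  have hω : ω ^ 3 = 1 := hcube ⟨a, ha, b, hb, hω'⟩
  have hω1 : ω ≠ 1 := fun e => hne (Units.ext (by rw [Units.val_mul, Units.val_mul, hω', e, one_smul]))
  have hroots : ∀ {s : F}, s ^ 3 = 1 → ∃ k : Fin 3, s = ω ^ (k : ℕ) := fun {s} hs => by
    have hsum : (1 : F) + ω + ω ^ 2 = 0 := (mul_eq_zero.1 (show (ω - 1) * (1 + ω + ω ^ 2) = 0 by
      linear_combination hω)).resolve_left (sub_ne_zero.2 hω1)
    have : (s - 1) * ((s - ω) * (s - ω ^ 2)) = 0 := by
      linear_combination hs - hω + (s * ω - s ^ 2) * hsum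
    rcases mul_eq_zero.1 this with h | h
    · exact ⟨0, by rw [sub_eq_zero.1 h]; simp⟩
    rcases mul_eq_zero.1 h with h | h
    · exact ⟨1, by rw [sub_eq_zero.1 h]; simp⟩
    · exact ⟨2, by rw [sub_eq_zero.1 h]; simp⟩
  -- coordinates
  have hcoord : ∀ c ∈ N, ∃ (i j : Fin 3) (s : F), (c : M₃) = s • ((a : M₃) ^ (i : ℕ) * (b : M₃) ^ (j : ℕ)) := by
    intro c hc
    obtain ⟨s₁, e₁⟩ := hcom a ha c hc
    obtain ⟨k₁, rfl⟩ := hroots (hcube ⟨a, ha, c, hc, e₁⟩)
    obtain ⟨s₂, e₂⟩ := hcom c hc b hb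
    obtain ⟨k₂, rfl⟩ := hroots (hcube ⟨c, hc, b, hb, e₂⟩)
    obtain ⟨P, hP⟩ : ∃ P : GL (Fin 3) F, P = a ^ (k₂ : ℕ) * b ^ (k₁ : ℕ) := ⟨_, rfl⟩
    have hPv : (P : M₃) = (a : M₃) ^ (k₂ : ℕ) * (b : M₃) ^ (k₁ : ℕ) := by
      rw [hP, Units.val_mul, Units.val_pow_eq_pow_val, Units.val_pow_eq_pow_val]
    have hPa : (a : M₃) * P = ω ^ (k₁ : ℕ) • ((P : M₃) * a) := by
      rw [hPv, ← mul_assoc, ← pow_succ', pow_succ, mul_assoc, pow_comm hω', mul_smul_comm, mul_assoc]
    have hPb : (P : M₃) * b = ω ^ (k₂ : ℕ) • ((b : M₃) * P) := by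
      rw [hPv, mul_assoc, ← pow_succ, pow_succ', ← mul_assoc]
      conv_lhs => rw [show (a : M₃) ^ (k₂ : ℕ) * (b : M₃) = ω ^ (k₂ : ℕ) • ((b : M₃) * (a : M₃) ^ (k₂ : ℕ)) by
        simpa using pow_comm' hω' (k₂ : ℕ) 1]
      rw [smul_mul_assoc, mul_assoc]
    obtain ⟨Q, hQ⟩ : ∃ Q : GL (Fin 3) F, Q = P⁻¹ := ⟨_, rfl⟩
    have hQP : (Q : M₃) * P = 1 := by rw [hQ, Units.inv_mul]
    have hPQ : (P : M₃) * Q = 1 := by rw [hQ, Units.mul_inv]
    have hω0 : ω ≠ 0 := fun e' => one_ne_zero (α := F) (by rw [← hω, e']; ring)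
    have c1 : Commute ((c : M₃) * Q) a := by
      have h' : (a : M₃) * Q = (ω ^ (k₁ : ℕ))⁻¹ • ((Q : M₃) * a) := by
        have h2 : (Q : M₃) * ((a : M₃) * P) * Q = (Q : M₃) * (ω ^ (k₁ : ℕ) • ((P : M₃) * a)) * Q := by rw [hPa]
        rw [mul_smul_comm, smul_mul_assoc, mul_assoc, mul_assoc (a : M₃), hPQ, mul_one, ← mul_assoc (Q : M₃),
          hQP, one_mul] at h2
        rw [h2, smul_smul, inv_mul_cancel₀ (pow_ne_zero _ hω0), one_smul]
      show (c : M₃) * Q * a = a * ((c : M₃) * Q)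
      rw [← mul_assoc (a : M₃), e₁, smul_mul_assoc, mul_assoc (c : M₃) (a : M₃), h', mul_smul_comm, smul_smul,
        mul_inv_cancel₀ (pow_ne_zero _ hω0), one_smul, mul_assoc]
    have c2 : Commute ((c : M₃) * Q) b := by
      have h' : (b : M₃) * Q = ω ^ (k₂ : ℕ) • ((Q : M₃) * b) := by
        have h2 : (Q : M₃) * ((P : M₃) * b) * Q = (Q : M₃) * (ω ^ (k₂ : ℕ) • ((b : M₃) * P)) * Q := by rw [hPb]
        rw [← mul_assoc (Q : M₃), hQP, one_mul, mul_smul_comm, smul_mul_assoc, mul_assoc (Q : M₃),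
          mul_assoc (b : M₃), hPQ, mul_one] at h2
        exact h2
      show (c : M₃) * Q * b = b * ((c : M₃) * Q)
      rw [mul_assoc, ← mul_assoc (b : M₃), ← inv_smul_smul₀ (pow_ne_zero (k₂ : ℕ) hω0) ((Q : M₃) * b), ← h',
        mul_smul_comm, ← mul_assoc, e₂, smul_mul_assoc, smul_smul, inv_mul_cancel₀ (pow_ne_zero _ hω0), one_smul]
    obtain ⟨s, hs⟩ := scalar_of_commute hω hω1 a.isUnit b.isUnit hω' c1 c2
    refine ⟨k₂, k₁, s, ?_⟩
    rw [← hPv]
    calc (c : M₃) = (c : M₃) * Q * P := by rw [mul_assoc, hQP, mul_one]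
      _ = s • (P : M₃) := by rw [hs, smul_mul_assoc, one_mul]
  choose ci cj cs hc using fun c : N => hcoord c c.2
  have hcs : ∀ c : N, cs c ≠ 0 := fun c e => (c : GL (Fin 3) F).ne_zero (by rw [hc, e, zero_smul])
  have hcommute : ∀ c d : N, (c : GL (Fin 3) F) * d = (d : GL (Fin 3) F) * c ↔ cj c * ci d = ci c * cj d := by
    intro c d
    have key : ∀ i j k l : Fin 3,
        (a : M₃) ^ (i : ℕ) * (b : M₃) ^ (j : ℕ) * ((a : M₃) ^ (k : ℕ) * (b : M₃) ^ (l : ℕ)) =
          ω ^ (2 * (j * k : ℕ)) • ((a : M₃) ^ ((i : ℕ) + k) * (b : M₃) ^ ((j : ℕ) + l)) := by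
      intro i j k l
      have hba : (b : M₃) * a = ω ^ 2 • ((a : M₃) * b) := by rw [hω', smul_smul, ← pow_succ, hω, one_smul]
      rw [mul_assoc, ← mul_assoc ((b : M₃) ^ (j : ℕ)), pow_comm' hba, smul_mul_assoc, mul_smul_comm, pow_add,
        pow_add, ← pow_mul]
      simp only [mul_assoc]
    have hu : IsUnit ((a : M₃) ^ ((ci c : ℕ) + ci d) * (b : M₃) ^ ((cj c : ℕ) + cj d)) :=
      (a.isUnit.pow _).mul (b.isUnit.pow _)
    have hval : ∀ i j k l : Fin 3, (ω ^ (2 * (j * k : ℕ)) = ω ^ (2 * (l * i : ℕ))) ↔ j * k = i * l := by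
      intro i j k l
      have hord : orderOf ω = 3 := orderOf_eq_prime hω hω1
      rw [(isOfFinOrder_iff_pow_eq_one.2 ⟨3, by norm_num, hω⟩).pow_eq_pow_iff_modEq, hord]
      unfold Nat.ModEq
      revert i j k l
      decide
    rw [Units.ext_iff, Units.val_mul, Units.val_mul, hc c, hc d, smul_mul_smul_comm, smul_mul_smul_comm, key, key,
      smul_smul, smul_smul, add_comm (ci d : ℕ), add_comm (cj d : ℕ), mul_comm (cs d) (cs c),
      ← hval (ci c) (cj c) (ci d) (cj d)]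
    refine ⟨fun e => ?_, fun e => by rw [e]⟩
    exact mul_left_cancel₀ (mul_ne_zero (hcs c) (hcs d)) (smul_left_injective F hu.ne_zero e)
  have hnz : ∀ c : N, (∀ s : F, ((c : GL (Fin 3) F) : M₃) ≠ s • 1) → ci c ≠ 0 ∨ cj c ≠ 0 := fun c h => by
    by_contra hz
    push Not at hz
    exact h (cs c) (by rw [hc, hz.1, hz.2]; simp)
  have hall : ∀ c : N, (∀ s : F, ((c : GL (Fin 3) F) : M₃) ≠ s • 1) → ((c : GL (Fin 3) F) : M₃) ∈ K := by
    intro c hcns
    let f : GL (Fin 3) F → GL (Fin 3) F := fun z => u * z * u⁻¹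
    have hfN : ∀ n : ℕ, f^[n] (c : GL (Fin 3) F) ∈ N := fun n => by
      induction n with
      | zero => exact c.2
      | succ n ih => rw [Function.iterate_succ_apply']; exact hinv _ ih
    obtain ⟨T, hT⟩ : ∃ T : GL (Fin 3) F → Set (GL (Fin 3) F), ∀ z, T z = {w | w ∈ N ∧ z * w = w * z} :=
      ⟨_, fun z => rfl⟩
    obtain ⟨f', hf'⟩ : ∃ f' : Set (GL (Fin 3) F) → Set (GL (Fin 3) F), f' = Set.image f := ⟨_, rfl⟩
    have hfsurj : ∀ w ∈ N, ∃ w' ∈ N, f w' = w := fun w hw => by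
      obtain ⟨t, ht⟩ := hm
      refine ⟨f^[2 * t] w, ?_, ?_⟩
      · clear ht
        induction 2 * t with
        | zero => exact hw
        | succ n ih => rw [Function.iterate_succ_apply']; exact hinv _ ih
      · rw [← Function.iterate_succ_apply' f, show f^[(2 * t) + 1] w = _ from conj_iterate u w _, ← ht, hum]
        simp
    have hfT : ∀ n : ℕ, f'^[n] (T c) = T (f^[n] (c : GL (Fin 3) F)) := fun n => by
      induction n with
      | zero => rfl
      | succ n ih =>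
        rw [Function.iterate_succ_apply', Function.iterate_succ_apply', ih, hf', hT, hT]
        generalize f^[n] (c : GL (Fin 3) F) = Z
        ext w
        constructor
        · rintro ⟨w', ⟨hw', he⟩, rfl⟩
          exact ⟨hinv _ hw', by simp only [f]; rw [show ∀ p q : GL (Fin 3) F, u * p * u⁻¹ * (u * q * u⁻¹) =
            u * (p * q) * u⁻¹ from fun p q => by group, he]; group⟩
        · rintro ⟨hw, he⟩
          obtain ⟨w', hw', rfl⟩ := hfsurj w hw
          refine ⟨w', ⟨hw', conj_injective u ?_⟩, rfl⟩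
          simp only [f] at he
          show u * (_ * _) * u⁻¹ = u * (_ * _) * u⁻¹
          rw [show ∀ p q : GL (Fin 3) F, u * (p * q) * u⁻¹ = u * p * u⁻¹ * (u * q * u⁻¹) from
            fun p q => by group, he]
          group
    obtain ⟨i, j, hij, hk⟩ : ∃ i j : Fin 5, i < j ∧ lineKey (ci ⟨_, hfN i⟩) (cj ⟨_, hfN i⟩) =
        lineKey (ci ⟨_, hfN j⟩) (cj ⟨_, hfN j⟩) :=
      exists_of_injective_five (f := fun i : Fin 5 => (⟨_, hfN i⟩ : N)) (fun z => lineKey (ci z) (cj z)) (by simp)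
    have hnsn : ∀ n : ℕ, ∀ s : F, ((f^[n] (c : GL (Fin 3) F) : GL (Fin 3) F) : M₃) ≠ s • 1 := fun n s e => hcns s (by
      rw [show f^[n] (c : GL (Fin 3) F) = u ^ n * (c : GL (Fin 3) F) * (u ^ n)⁻¹ from conj_iterate _ _ _] at e
      have := congrArg (fun Z => (((u ^ n)⁻¹ : GL (Fin 3) F) : M₃) * Z * ((u ^ n : GL (Fin 3) F) : M₃)) e
      simp only [mul_smul_comm, smul_mul_assoc, mul_one, ← Units.val_mul, inv_mul_cancel] at this
      rw [Units.val_one] at this
      rw [← this]; congr 1; group)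
    have hset : f'^[(i : ℕ)] (T c) = f'^[(j : ℕ)] (T c) := by
      rw [hfT, hfT, hT, hT]
      ext w
      simp only [Set.mem_ofPred_eq]
      refine and_congr_right fun hw => ?_
      rw [hcommute ⟨_, hfN i⟩ ⟨w, hw⟩, hcommute ⟨_, hfN j⟩ ⟨w, hw⟩]
      exact lineKey_spec _ _ _ _ _ _ hk (hnz _ (hnsn i)) (hnz _ (hnsn j))
    have hper : f'^[m] (T c) = T c := by
      rw [hfT, show f^[m] (c : GL (Fin 3) F) = _ from conj_iterate _ _ _, hum]; simp
    have h3 : f'^[3] (T c) = T c :=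
      iterate_three (hf' ▸ (conj_injective u).image_injective) (show (i : ℕ) < j from hij) (by omega) hset hm hper
    -- the centraliser of `c` in the group
    let A : Subgroup (GL (Fin 3) F) := N ⊓ Subgroup.centralizer {(c : GL (Fin 3) F)}
    have hA : ∀ w, w ∈ A ↔ w ∈ T c := fun w => by
      rw [hT]
      simp [A, Subgroup.mem_centralizer_iff]
    refine mem_of_abelian hK (pow_mem hu 3) hm (by rw [← pow_mul, mul_comm, pow_mul, hum, one_pow])
      (fun s => by rw [← pow_mul]; exact hns s) (N := A) ?_ ?_ ((hA _).2 (by rw [hT]; exact ⟨c.2, rfl⟩))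
    · intro p hp q hq
      rw [hA, hT] at hp hq
      refine (hcommute ⟨p, hp.1⟩ ⟨q, hq.1⟩).2 ?_
      exact prop_spec _ _ _ _ _ _ (hnz c hcns) ((hcommute c ⟨p, hp.1⟩).1 hp.2) ((hcommute c ⟨q, hq.1⟩).1 hq.2)
    · intro p hp
      rw [hA] at hp ⊢
      rw [← h3, hf', ← conj_iterate]
      simp only [Function.iterate_succ_apply', Function.iterate_zero_apply]
      exact ⟨_, ⟨_, ⟨_, hp, rfl⟩, rfl⟩, rfl⟩
  have hans : ∀ s : F, (a : M₃) ≠ s • 1 := fun s e => hne (Units.ext (by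
    rw [Units.val_mul, Units.val_mul, e, smul_mul_assoc, mul_smul_comm, one_mul, mul_one]))
  have hbns : ∀ s : F, (b : M₃) ≠ s • 1 := fun s e => hne (Units.ext (by
    rw [Units.val_mul, Units.val_mul, e, smul_mul_assoc, mul_smul_comm, one_mul, mul_one]))
  exact hne (Units.ext (hK.comm _ (hall ⟨a, ha⟩ hans) _ (hall ⟨b, hb⟩ hbns)))

end Cfsg.Agent.Classical.SLThree.Singer
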