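import Cfsg.Agent.Lib.Classical.SLThree.SingerNumbers
import Cfsg.Agent.Lib.Classical.SLThree.SingerScalarComm
import Cfsg.Agent.S0205

/-!
Groups above the normaliser of a Singer cycle: they are irreducible, and of even order unless equal to it.
-/

set_option autoImplicit false
set_option linter.unusedSectionVars false

namespace Cfsg.Agent.Classical.SLThree.Singer

open Matrix Module MaxTv SLThree
open scoped commutatorElement

variable {F : Type*} [Field F] [Fintype F]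

local notation "V" => (Fin 3 → F)
local notation "M₃" => Matrix (Fin 3) (Fin 3) F

/-- A group between the normaliser in `SL` and `SL`. -/
structure Over (K : Subalgebra F (Matrix (Fin 3) (Fin 3) F)) (M : Subgroup (GL (Fin 3) F)) : Prop where
  deg : Geo.IsFieldSubalgebra 3 K
  four : Fintype.card F ≠ 4
  le : Geo.subalgebraNormalizer K ⊓ Geo.specialLinear (Fin 3) F ≤ M
  sl : M ≤ Geo.specialLinear (Fin 3) F

variable {K : Subalgebra F (Matrix (Fin 3) (Fin 3) F)} {M : Subgroup (GL (Fin 3) F)}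

theorem Over.det (h : Over K M) {g : GL (Fin 3) F} (hg : g ∈ M) : (g : M₃).det = 1 :=
  mem_specialLinear_iff.1 (h.sl hg)

theorem Over.unit_mem (h : Over K M) {g : GL (Fin 3) F} (hg : g ∈ Kx K) (hd : (g : M₃).det = 1) : g ∈ M :=
  h.le ⟨Kx_le_normalizer h.deg hg, mem_specialLinear_iff.2 hd⟩

theorem Over.exists_gen (h : Over K M) :
    ∃ u ∈ M, u ∈ Kx K ∧ ∀ n, n ∣ 9 → ∀ s : F, ((u ^ n : GL (Fin 3) F) : M₃) ≠ s • 1 := by
  obtain ⟨u, hu, hd, h27⟩ := Singer.exists_gen h.deg h.four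
  exact ⟨u, h.unit_mem hu hd, hu, fun n hn s => not_scalar_pow h.deg hd h27 hn s⟩

/-- Every orbit vector comes from the group. -/
theorem Over.exists_of_orb (h : Over K M) {c z : V} (hz : Orb K c z) :
    ∃ s : F, s ≠ 0 ∧ ∃ u ∈ M, u ∈ Kx K ∧ z = s • ((u : M₃) *ᵥ c) := by
  obtain ⟨g, hg, s, hs, hd, rfl⟩ := hz
  obtain ⟨t, ht, htt⟩ := exists_scalar h.deg (inv_ne_zero hs)
  refine ⟨s, hs, t * g, h.unit_mem (mul_mem ht hg) ?_, mul_mem ht hg, ?_⟩
  · rw [Units.val_mul, Matrix.det_mul, htt, Matrix.det_smul, Fintype.card_fin, Matrix.det_one, mul_one, hd,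
      inv_pow, inv_mul_cancel₀ (pow_ne_zero _ hs)]
  · rw [Units.val_mul, htt, Matrix.smul_mul, Matrix.one_mul, Matrix.smul_mulVec, smul_smul, mul_inv_cancel₀ hs,
      one_smul]

theorem Over.irr (h : Over K M) : Irr M := fun W hW => by
  obtain ⟨u, hu, huK, hns⟩ := h.exists_gen
  by_cases hb : W = ⊥
  · exact Or.inl hb
  obtain ⟨v, hv, hv0⟩ := (Submodule.ne_bot_iff _).1 hb
  have h1 := hns 1 (one_dvd _)
  rw [pow_one] at h1
  refine Or.inr (eq_top_of_inv h.deg ((mem_Kx h.deg).1 huK) h1 W (fun x hx => ?_) hv0 hv)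
  exact hW (u : M₃) ⟨u, hu, rfl⟩ ⟨x, hx, Matrix.toLin'_apply _ _⟩

/-- A transvection never normalises the field. -/
theorem not_le_normalizer (hK : Geo.IsFieldSubalgebra 3 K) :
    ¬ Geo.specialLinear (Fin 3) F ≤ Geo.subalgebraNormalizer K ⊓ Geo.specialLinear (Fin 3) F := fun hle => by
  have hd : (Pi.single 1 1 : V) ⬝ᵥ Pi.single 0 1 = 0 := by simp
  obtain ⟨T, hT⟩ := exists_tv hd
  have hTn := (hle (det_tv hT hd)).1
  have hfr : finrank F (FieldExtNormalizer.eig (T : M₃) 1) = 2 := by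
    have hiff : ∀ z : V, z ∈ FieldExtNormalizer.eig (T : M₃) 1 ↔ z 1 = 0 := fun z => by
      rw [FieldExtNormalizer.mem_eig, one_smul, hT, single_dotProduct, one_mul, add_eq_left]
      exact ⟨fun e => by simpa using congrFun e 0, fun e => by rw [e, zero_smul]⟩
    obtain ⟨P, hP⟩ : ∃ P : V →ₗ[F] F, ∀ z, P z = z 1 :=
      ⟨{ toFun := fun z => z 1, map_add' := fun _ _ => rfl, map_smul' := fun _ _ => rfl }, fun _ => rfl⟩
    have hk : FieldExtNormalizer.eig (T : M₃) 1 = LinearMap.ker P :=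
      Submodule.ext fun z => by rw [hiff, LinearMap.mem_ker, hP]
    have hsum := LinearMap.finrank_range_add_finrank_ker P
    rw [LinearMap.range_eq_top.2 (fun t => ⟨Pi.single 1 t, by rw [hP, Pi.single_eq_same]⟩), finrank_top,
      Module.finrank_self, finrank_fin_fun] at hsum
    rw [hk]
    omega
  have h3 := FieldExtNormalizer.dvd_finrank hK (by norm_num) (FieldExtNormalizer.eig (T : M₃) 1)
    (FieldExtNormalizer.eig_inv (FieldExtNormalizer.comm_of_large hK hTn (c := (1 : F))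
      (by rw [hfr, Fintype.card_fin]; norm_num)))
  rw [hfr] at h3
  norm_num at h3

/-- A non-scalar element of the field with all its conjugates there. -/
theorem Over.false_of_normal (h : Over K M) {g : GL (Fin 3) F} (hg : g ∈ M)
    (hgn : g ∉ Geo.subalgebraNormalizer K ⊓ Geo.specialLinear (Fin 3) F) {x : GL (Fin 3) F}
    (hx : (x : M₃) ∈ K) (hns : ∀ s : F, (x : M₃) ≠ s • 1)
    (hconj : ((g * x * g⁻¹ : GL (Fin 3) F) : M₃) ∈ K) : False := by
  refine hgn ⟨FieldExtNormalizer.mem_normalizer h.deg (by norm_num) fun a ha => ?_, h.sl hg⟩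
  have hc : (Pi.single 0 1 : V) ≠ 0 := fun e => one_ne_zero (α := F) (by simpa using congrFun e 0)
  have hmem : a *ᵥ (Pi.single 0 1 : V) ∈ Submodule.span F (Set.range ![(Pi.single 0 1 : V),
      (x : M₃) *ᵥ Pi.single 0 1, (x : M₃) *ᵥ ((x : M₃) *ᵥ Pi.single 0 1)]) :=
    span_powers h.deg hx hns hc ▸ Submodule.mem_top
  obtain ⟨f, hf⟩ := (Submodule.mem_span_range_iff_exists_fun F).1 hmem
  obtain ⟨y, hy⟩ : ∃ y, y = ((g * x * g⁻¹ : GL (Fin 3) F) : M₃) := ⟨_, rfl⟩
  rw [← hy] at hconj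
  have ha' : a = f 0 • 1 + f 1 • (x : M₃) + f 2 • ((x : M₃) * x) :=
    eq_of_apply h.deg ha (add_mem (add_mem (Subalgebra.smul_mem _ (one_mem _) _) (Subalgebra.smul_mem _ hx _))
      (Subalgebra.smul_mem _ (mul_mem hx hx) _)) hc (by
        rw [← hf]
        simp only [Fin.sum_univ_three, Matrix.add_mulVec, Matrix.smul_mulVec, Matrix.one_mulVec,
          ← Matrix.mulVec_mulVec]
        rfl)
  refine ⟨f 0 • 1 + f 1 • y + f 2 • (y * y), add_mem (add_mem (Subalgebra.smul_mem _ (one_mem _) _)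
    (Subalgebra.smul_mem _ hconj _)) (Subalgebra.smul_mem _ (mul_mem hconj hconj) _), ?_⟩
  have hyg : y * (g : M₃) = (g : M₃) * x := by
    rw [hy, ← Units.val_mul, ← Units.val_mul, inv_mul_cancel_right]
  rw [ha']
  simp only [mul_add, add_mul, mul_smul_comm, smul_mul_assoc, mul_one, one_mul]
  rw [mul_assoc y y, hyg, ← mul_assoc y, hyg, mul_assoc]

/-- A group properly above the normaliser has even order. -/
theorem Over.exists_involution (h : Over K M) {g : GL (Fin 3) F} (hg : g ∈ M)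
    (hgn : g ∉ Geo.subalgebraNormalizer K ⊓ Geo.specialLinear (Fin 3) F) :
    ∃ t ∈ M, t * t = 1 ∧ t ≠ 1 := by
  classical
  by_cases h2 : 2 ∣ Nat.card M
  · haveI : Fact (Nat.Prime 2) := ⟨Nat.prime_two⟩
    obtain ⟨t, ht⟩ := exists_prime_orderOf_dvd_card' (G := M) 2 h2
    refine ⟨t, t.2, congrArg Subtype.val (show t * t = 1 by rw [← sq, ← ht, pow_orderOf_eq_one]), fun e => ?_⟩
    rw [show t = 1 from Subtype.ext e, orderOf_one] at ht
    norm_num at ht
  exfalso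
  have hodd : Odd (Nat.card M) := Nat.odd_iff.2 (by omega)
  obtain ⟨n, hn⟩ := (Cfsg.Agent.S0205.result (G := M) hodd).solvable
  obtain ⟨u, hu, huK, hns⟩ := h.exists_gen
  obtain ⟨D, hD⟩ : ∃ D : ℕ → Subgroup (GL (Fin 3) F), ∀ k, D k = (derivedSeries M k).map M.subtype :=
    ⟨_, fun k => rfl⟩
  obtain ⟨Sc, hSc⟩ : ∃ Sc : GL (Fin 3) F → Prop, ∀ z, Sc z ↔ ∃ s : F, (z : M₃) = s • 1 := ⟨_, fun z => Iff.rfl⟩
  have hex : ∃ k, ∀ z ∈ D k, Sc z := ⟨n, fun z hz => (hSc z).2 ⟨1, by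
    rw [hD, hn, Subgroup.map_bot, Subgroup.mem_bot] at hz
    rw [hz, one_smul, Units.val_one]⟩⟩
  have h0 : Nat.find hex ≠ 0 := fun e => by
    obtain ⟨s, hs⟩ := (hSc u).1 (Nat.find_spec hex u (by
      rw [hD, e, derivedSeries_zero]; exact ⟨⟨u, hu⟩, Subgroup.mem_top _, rfl⟩))
    exact hns 1 (one_dvd _) s (by rw [pow_one, hs])
  obtain ⟨k, hk⟩ := Nat.exists_eq_succ_of_ne_zero h0
  have hmin := Nat.find_min hex (show k < Nat.find hex by omega)
  push Not at hmin
  obtain ⟨x, hx, hxns⟩ := hmin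
  have hsc : ∀ z ∈ D (k + 1), Sc z := by
    have := Nat.find_spec hex
    rwa [hk] at this
  have hnorm : ∀ a ∈ M, ∀ z ∈ D k, a * z * a⁻¹ ∈ D k := by
    intro a ha z hz
    rw [hD] at hz ⊢
    obtain ⟨z', hz', rfl⟩ := hz
    exact ⟨⟨a, ha⟩ * z' * ⟨a, ha⟩⁻¹, (derivedSeries_normal M k).conj_mem _ hz' _, rfl⟩
  have hle : D k ≤ M := fun z hz => by
    rw [hD] at hz
    obtain ⟨z', -, rfl⟩ := hz
    exact z'.2
  have hum : u ^ Nat.card M = 1 := congrArg Subtype.val (pow_card_eq_one' (x := (⟨u, hu⟩ : M)))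
  have hK : ∀ z ∈ D k, (z : M₃) ∈ K := fun z hz =>
    mem_of_scalar_comm h.deg huK hodd hum (hns 9 dvd_rfl) (hle.trans h.sl) (fun a ha b hb => by
      rw [hD] at ha hb
      obtain ⟨a', ha', rfl⟩ := ha
      obtain ⟨b', hb', rfl⟩ := hb
      obtain ⟨s, hs⟩ := (hSc _).1 (hsc (M.subtype ⁅a', b'⁆) (by
        rw [hD, derivedSeries_succ]
        exact ⟨_, Subgroup.commutator_mem_commutator ha' hb', rfl⟩))
      refine ⟨s, ?_⟩
      have : ((⁅a', b'⁆ : M) : GL (Fin 3) F) * ((b' : GL (Fin 3) F) * a') = (a' : GL (Fin 3) F) * b' := by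
        rw [← Subgroup.coe_mul, ← Subgroup.coe_mul, ← Subgroup.coe_mul]
        congr 1
        simp only [commutatorElement_def]
        group
      show ((a' : GL (Fin 3) F) : M₃) * ((b' : GL (Fin 3) F) : M₃) = _
      rw [← Units.val_mul, ← this, Units.val_mul, Units.val_mul]
      show ((M.subtype ⁅a', b'⁆ : GL (Fin 3) F) : M₃) * _ = _
      rw [hs, smul_mul_assoc, one_mul]
      rfl) (fun a ha => hnorm u hu a ha) hz
  exact h.false_of_normal hg hgn (hK x hx) (fun s e => hxns ((hSc x).2 ⟨s, e⟩)) (hK _ (hnorm g hg x hx))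

theorem Over.dot_eq_zero (h : Over K M) {v φ : V} (ht : MaxTv.InT M v φ) : φ ⬝ᵥ v = 0 := by
  obtain ⟨g, hg, hgx⟩ := ht
  have h1 := h.det hg
  rw [tv_val hgx, Matrix.vecMulVec_eq Unit, Matrix.det_one_add_replicateCol_mul_replicateRow] at h1
  simpa using h1

end Cfsg.Agent.Classical.SLThree.Singer
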