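import Cfsg.Agent.Lib.Classical.SLThree.SingerSix

/-!
Transvection centres above a Singer normaliser: some centre, and then every point of its orbit, has two axes;
every axis at such a centre carries a second point of the orbit.
-/

set_option autoImplicit false
set_option linter.unusedSectionVars false

namespace Cfsg.Agent.Classical.SLThree.Singer

open Matrix Module MaxTv SLThree

variable {F : Type*} [Field F] {K : Subalgebra F (Matrix (Fin 3) (Fin 3) F)} {M : Subgroup (GL (Fin 3) F)}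
  {c d φ : Fin 3 → F}

local notation "V" => (Fin 3 → F)
local notation "M₃" => Matrix (Fin 3) (Fin 3) F

/-- A centre with two axes. -/
def Dbl (M : Subgroup (GL (Fin 3) F)) (c : Fin 3 → F) : Prop :=
  c ≠ 0 ∧ ∃ θ θ' : Fin 3 → F, MaxTv.InT M c θ ∧ MaxTv.InT M c θ' ∧ Indep θ θ'

theorem indep_vecMul {θ θ' : V} (h : Indep θ θ') (g : GL (Fin 3) F) :
    Indep (θ ᵥ* (g : M₃)) (θ' ᵥ* (g : M₃)) := by
  have hback : ∀ η : V, η ᵥ* (g : M₃) ᵥ* ((g⁻¹ : GL (Fin 3) F) : M₃) = η := fun η => by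
    rw [Matrix.vecMul_vecMul, ← Units.val_mul, mul_inv_cancel, Units.val_one, Matrix.vecMul_one]
  refine indep_of_not_mem (fun e => h.ne_zero (by rw [← hback θ, e, Matrix.zero_vecMul])) fun t e => h.not_smul t ?_
  rw [← hback θ', e, Matrix.smul_vecMul, hback]

theorem Dbl.conj (h : Dbl M c) {g : GL (Fin 3) F} (hg : g ∈ M) : Dbl M ((g : M₃) *ᵥ c) := by
  obtain ⟨hc, θ, θ', h1, h2, hi⟩ := h
  exact ⟨apply_ne_zero hc, _, _, h1.conj hg, h2.conj hg, indep_vecMul hi g⁻¹⟩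

theorem inT_smul_left {v φ : V} {s : F} (hs : s ≠ 0) (h : MaxTv.InT M v φ) : MaxTv.InT M (s • v) (s⁻¹ • φ) := by
  refine InT.scale_left ?_
  rwa [smul_smul, mul_inv_cancel₀ hs, one_smul]

theorem Dbl.smul (h : Dbl M c) {s : F} (hs : s ≠ 0) : Dbl M (s • c) := by
  obtain ⟨hc, θ, θ', h1, h2, hi⟩ := h
  refine ⟨smul_ne_zero hs hc, _, _, inT_smul_left hs h1, inT_smul_left hs h2, ?_⟩
  refine indep_of_not_mem (smul_ne_zero (inv_ne_zero hs) hi.ne_zero) fun t e => hi.not_smul t ?_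
  rw [smul_comm] at e
  exact smul_right_injective V (inv_ne_zero hs) e

variable [Fintype F]

theorem Dbl.orb (h : Dbl M c) (hO : Over K M) {z : V} (hz : Orb K c z) : Dbl M z := by
  obtain ⟨s, hs, u, hu, -, rfl⟩ := hO.exists_of_orb hz
  exact (h.conj hu).smul hs

/-- An axis missing a further point. -/
theorem Dbl.exists_axis (h : Dbl M c) (hO : Over K M) (hi : Indep c d) :
    ∃ θ, MaxTv.InT M c θ ∧ θ ⬝ᵥ d ≠ 0 := by
  obtain ⟨-, θ, θ', h1, h2, hθ⟩ := h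
  by_contra hc
  push Not at hc
  obtain ⟨t, ht⟩ := hi.functional hθ.ne_zero (hO.dot_eq_zero h1) (hc θ h1) (hO.dot_eq_zero h2) (hc θ' h2)
  exact hθ.not_smul t ht

/-- The inverse of a non-scalar point is a third point. -/
theorem inverse_point_ne (hK : Geo.IsFieldSubalgebra 3 K) (hc : c ≠ 0) {a : GL (Fin 3) F} (ha : a ∈ Kx K)
    (hns : ∀ r : F, (a : M₃) ≠ r • 1) (w : F) :
    w • ((a : M₃) *ᵥ c) ≠ ((a⁻¹ : GL (Fin 3) F) : M₃) *ᵥ c ∧ w • c ≠ ((a⁻¹ : GL (Fin 3) F) : M₃) *ᵥ c := by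
  constructor
  · intro hw
    have hm : ((a⁻¹ : GL (Fin 3) F) : M₃) = w • (a : M₃) := eq_of_apply hK ((mem_Kx hK).1 (inv_mem ha))
      (Subalgebra.smul_mem _ ((mem_Kx hK).1 ha) w) hc (by rw [← hw, Matrix.smul_mulVec])
    have := indep_pow hK ((mem_Kx hK).1 ha) hns (a := (-1 : F)) (b := 0) (c := w) (by
      rw [← mul_smul_comm, ← hm, Units.mul_inv]; simp)
    exact one_ne_zero (α := F) (neg_eq_zero.1 this.1)
  · intro hw
    have hm : ((a⁻¹ : GL (Fin 3) F) : M₃) = w • 1 := eq_of_apply hK ((mem_Kx hK).1 (inv_mem ha))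
      (Subalgebra.smul_mem _ (one_mem _) w) hc (by rw [← hw, Matrix.smul_mulVec, Matrix.one_mulVec])
    have h1 : w • (a : M₃) = 1 := by rw [← a.mul_inv, hm, mul_smul_comm, mul_one]
    have hw0 : w ≠ 0 := fun e => by rw [e, zero_smul] at h1; exact zero_ne_one h1
    exact hns w⁻¹ (by rw [← h1, smul_smul, inv_mul_cancel₀ hw0, one_smul])

/-- A second point of the orbit on every axis. -/
theorem Over.exists_second (h : Over K M) (h8 : 8 ≤ Fintype.card F) (hc : c ≠ 0) (hφ : φ ≠ 0)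
    (hφc : φ ⬝ᵥ c = 0) : ∃ d, Orb K c d ∧ φ ⬝ᵥ d = 0 ∧ Indep c d := by
  have hmem := (mk_mem_lines h.deg (K := K) (φ := φ) (c := c) hc).2 ⟨hφc, Orb.refl c⟩
  have hne := ncard_ne_one h.deg hc hφ h8
  obtain ⟨p, hp, hpc⟩ : ∃ p ∈ lines K c φ, p ≠ Projectivization.mk F c hc := by
    by_contra hall
    push Not at hall
    exact hne (Set.ncard_eq_one.2 ⟨_, Set.eq_singleton_iff_unique_mem.2 ⟨hmem, hall⟩⟩)
  exact ⟨p.rep, hp.2, hp.1, indep_of_mk_ne hc p.rep_nonzero (by rw [p.mk_rep]; exact hpc.symm)⟩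

/-- Some centre has two axes. -/
theorem Over.exists_dbl (h : Over K M) (h8 : 8 ≤ Fintype.card F) {v φ : V} (hv : v ≠ 0) (hφ : φ ≠ 0)
    (ht : MaxTv.InT M v φ) : ∃ c, Dbl M c := by
  by_contra hno
  push Not at hno
  have hφv := h.dot_eq_zero ht
  have hsymm : ∀ a ∈ Kx K, Orb K v ((a : M₃) *ᵥ v) → φ ⬝ᵥ ((a : M₃) *ᵥ v) = 0 →
      φ ⬝ᵥ (((a⁻¹ : GL (Fin 3) F) : M₃) *ᵥ v) = 0 := by
    intro a ha horb h0
    obtain ⟨s, hs, u, hu, huK, he⟩ := h.exists_of_orb horb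
    rw [he, dotProduct_smul, smul_eq_mul, mul_eq_zero, or_iff_right hs] at h0
    by_contra hne
    have hψv : (φ ᵥ* ((u⁻¹ : GL (Fin 3) F) : M₃)) ⬝ᵥ v ≠ 0 := fun e => by
      have hau : (a : M₃) = s • (u : M₃) := eq_of_apply h.deg ((mem_Kx h.deg).1 ha)
        (Subalgebra.smul_mem _ ((mem_Kx h.deg).1 huK) s) hv (by rw [he, Matrix.smul_mulVec])
      have hinv : ((a⁻¹ : GL (Fin 3) F) : M₃) = s⁻¹ • ((u⁻¹ : GL (Fin 3) F) : M₃) := by
        have h1 : (a : M₃) * (s⁻¹ • ((u⁻¹ : GL (Fin 3) F) : M₃)) = 1 := by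
          rw [hau, smul_mul_assoc, mul_smul_comm, smul_smul, mul_inv_cancel₀ hs, one_smul, Units.mul_inv]
        rw [← mul_one ((a⁻¹ : GL (Fin 3) F) : M₃), ← h1, ← mul_assoc, Units.inv_mul, one_mul]
      refine hne ?_
      rw [hinv, Matrix.smul_mulVec, dotProduct_smul, Matrix.dotProduct_mulVec, e, smul_zero]
    have h1 := SLThree.rule ht (ht.conj hu) hφv h0 (by rw [vecMul_inv_dot, hφv])
    refine hno ((u : M₃) *ᵥ v) ⟨apply_ne_zero hv, _, _, ht.conj hu, h1.scale_right, ?_⟩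
    refine indep_of_not_mem (fun e => hψv (by rw [e, zero_dotProduct])) fun t e => hψv ?_
    obtain ⟨ψ, hψ⟩ : ∃ ψ, ψ = φ ᵥ* ((u⁻¹ : GL (Fin 3) F) : M₃) := ⟨_, rfl⟩
    rw [← hψ] at e hψv ⊢
    have h2 := congrArg (· ⬝ᵥ v) e
    simp only [smul_dotProduct, hφv, smul_eq_mul, mul_zero] at h2
    have ht0 : t = 0 := (mul_eq_zero.1 h2.symm).resolve_right hψv
    rw [ht0, zero_smul] at e
    exact (smul_eq_zero.1 e).resolve_right hφ
  have hle := ncard_le_two h.deg hv hφ hsymm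
  obtain ⟨d, hd, hd0, hi⟩ := h.exists_second h8 hv hφ hφv
  obtain ⟨a, ha, s, hs, hdet, rfl⟩ := id hd
  have hns : ∀ r : F, (a : M₃) ≠ r • 1 := fun r e => hi.not_smul r (by rw [e, Matrix.smul_mulVec, Matrix.one_mulVec])
  have horb' : Orb K v (((a⁻¹ : GL (Fin 3) F) : M₃) *ᵥ v) := ⟨a⁻¹, inv_mem ha, s⁻¹, inv_ne_zero hs, by
    have h1 := congrArg Matrix.det a.inv_mul
    rw [Matrix.det_mul, hdet, Matrix.det_one] at h1
    rw [inv_pow]
    exact eq_inv_of_mul_eq_one_left h1, rfl⟩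
  have m1 := (mk_mem_lines h.deg (φ := φ) (c := v) hv).2 ⟨hφv, Orb.refl v⟩
  have m2 := (mk_mem_lines h.deg (φ := φ) (c := v) (apply_ne_zero (g := a) hv)).2 ⟨hd0, hd⟩
  have m3 := (mk_mem_lines h.deg (φ := φ) (c := v) (apply_ne_zero (g := a⁻¹) hv)).2 ⟨hsymm a ha hd hd0, horb'⟩
  have h3 : 2 < (lines K v φ).ncard := (Set.two_lt_ncard).2 ⟨_, m1, _, m2, _, m3,
    fun e => by
      obtain ⟨w, hw⟩ := (mk_eq_mk (apply_ne_zero (g := a) hv) hv).1 e.symm
      exact hi.not_smul w hw.symm,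
    fun e => by
      obtain ⟨w, hw⟩ := (mk_eq_mk (apply_ne_zero (g := a⁻¹) hv) hv).1 e.symm
      exact (inverse_point_ne h.deg hv ha hns w).2 hw,
    fun e => by
      obtain ⟨w, hw⟩ := (mk_eq_mk (apply_ne_zero (g := a⁻¹) hv) (apply_ne_zero (g := a) hv)).1 e.symm
      exact (inverse_point_ne h.deg hv ha hns w).1 hw⟩
  omega

/-- The axis of a double centre is an axis at the second point. -/
theorem Dbl.common_axis (hd : Dbl M d) (h : Over K M) (hi : Indep c d) (ht : MaxTv.InT M c φ)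
    (hφd : φ ⬝ᵥ d = 0) : ∃ t : F, t ≠ 0 ∧ MaxTv.InT M d (t • φ) := by
  obtain ⟨ψ, hψ, hψc⟩ := hd.exists_axis h hi.symm
  exact ⟨ψ ⬝ᵥ c, hψc, (SLThree.rule ht hψ (h.dot_eq_zero ht) hφd (h.dot_eq_zero hψ)).scale_right⟩

end Cfsg.Agent.Classical.SLThree.Singer
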