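import Cfsg.Agent.Lib.Classical.SLThree.SingerField
import Cfsg.Agent.Lib.Classical.MaxQuadratic

/-!
The points of a line in the orbits of the index three subgroup of the multiplicative group of the cubic field.
-/

set_option autoImplicit false
set_option linter.unusedSectionVars false

namespace Cfsg.Agent.Classical.SLThree.Singer

open Matrix Module MaxTv SLThree

variable {F : Type*} [Field F]

local notation "V" => (Fin 3 → F)
local notation "M₃" => Matrix (Fin 3) (Fin 3) F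

/-- The orbit of `c` under the units whose determinant is a cube. -/
def Orb (K : Subalgebra F (Matrix (Fin 3) (Fin 3) F)) (c z : Fin 3 → F) : Prop :=
  ∃ g ∈ Kx K, ∃ s : F, s ≠ 0 ∧ (g : Matrix (Fin 3) (Fin 3) F).det = s ^ 3 ∧
    (g : Matrix (Fin 3) (Fin 3) F) *ᵥ c = z

/-- The points of the orbit on the line of zeros of `φ`. -/
def lines (K : Subalgebra F (Matrix (Fin 3) (Fin 3) F)) (c φ : Fin 3 → F) :
    Set (Projectivization F (Fin 3 → F)) :=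
  {p | φ ⬝ᵥ p.rep = 0 ∧ Orb K c p.rep}

variable {K : Subalgebra F (Matrix (Fin 3) (Fin 3) F)} {c φ z : Fin 3 → F}

theorem Orb.refl (c : V) : Orb K c c := ⟨1, one_mem _, 1, one_ne_zero, by simp, by simp⟩

theorem Orb.symm (h : Orb K c z) : Orb K z c := by
  obtain ⟨g, hg, s, hs, hd, rfl⟩ := h
  refine ⟨g⁻¹, inv_mem hg, s⁻¹, inv_ne_zero hs, ?_, inv_mulVec_cancel g c⟩
  have h1 := congrArg Matrix.det g.inv_mul
  rw [Matrix.det_mul, hd, Matrix.det_one] at h1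
  rw [inv_pow]
  exact eq_inv_of_mul_eq_one_left h1

theorem Orb.trans {y : V} (h : Orb K c z) (h' : Orb K z y) : Orb K c y := by
  obtain ⟨g, hg, s, hs, hd, rfl⟩ := h
  obtain ⟨g', hg', s', hs', hd', rfl⟩ := h'
  exact ⟨g' * g, mul_mem hg' hg, s' * s, mul_ne_zero hs' hs, by rw [Units.val_mul, Matrix.det_mul, hd', hd, mul_pow],
    by rw [Units.val_mul, Matrix.mulVec_mulVec]⟩

theorem Orb.ne_zero (h : Orb K c z) (hc : c ≠ 0) : z ≠ 0 := by
  obtain ⟨g, -, -, -, -, rfl⟩ := h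
  exact apply_ne_zero hc

theorem exists_scalar (hK : Geo.IsFieldSubalgebra 3 K) {t : F} (ht : t ≠ 0) :
    ∃ g ∈ Kx K, (g : M₃) = t • 1 := by
  refine exists_unit hK (Subalgebra.smul_mem _ (one_mem _) t) fun e => ht ?_
  simpa using congrFun (congrFun e 0) 0

theorem orb_smul (hK : Geo.IsFieldSubalgebra 3 K) {t : F} (ht : t ≠ 0) : Orb K c (t • c) := by
  obtain ⟨g, hg, hgt⟩ := exists_scalar hK ht
  exact ⟨g, hg, t, ht, by rw [hgt, Matrix.det_smul, Fintype.card_fin, Matrix.det_one, mul_one],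
    by rw [hgt, Matrix.smul_mulVec, Matrix.one_mulVec]⟩

theorem Orb.smul (h : Orb K c z) (hK : Geo.IsFieldSubalgebra 3 K) {t : F} (ht : t ≠ 0) : Orb K c (t • z) :=
  h.trans (orb_smul hK ht)

theorem mk_mem_lines (hK : Geo.IsFieldSubalgebra 3 K) (hz : z ≠ 0) :
    Projectivization.mk F z hz ∈ lines K c φ ↔ φ ⬝ᵥ z = 0 ∧ Orb K c z := by
  obtain ⟨a, ha⟩ := Projectivization.exists_smul_eq_mk_rep F z hz
  show φ ⬝ᵥ _ = 0 ∧ Orb K c _ ↔ _
  rw [← ha, Units.smul_def, dotProduct_smul, smul_eq_mul, mul_eq_zero, or_iff_right a.ne_zero]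
  refine and_congr Iff.rfl ⟨fun h => ?_, fun h => h.smul hK a.ne_zero⟩
  have := h.smul hK (inv_ne_zero a.ne_zero)
  rwa [smul_smul, inv_mul_cancel₀ a.ne_zero, one_smul] at this

theorem mk_eq_mk {v w : V} (hv : v ≠ 0) (hw : w ≠ 0) :
    Projectivization.mk F v hv = Projectivization.mk F w hw ↔ ∃ a : F, a • w = v :=
  Projectivization.mk_eq_mk_iff' F v w hv hw

theorem indep_of_mk_ne {v w : V} (hv : v ≠ 0) (hw : w ≠ 0)
    (h : Projectivization.mk F v hv ≠ Projectivization.mk F w hw) : Indep v w :=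
  indep_of_not_mem hv fun t e => h (((mk_eq_mk hw hv).2 ⟨t, e.symm⟩).symm)

/-- Three independent elements on a line cannot all have their inverses there. -/
theorem three (hK : Geo.IsFieldSubalgebra 3 K) (hc : c ≠ 0) (hφ : φ ≠ 0) {a b d : GL (Fin 3) F} (ha : a ∈ Kx K)
    (hb : b ∈ Kx K) (hd : (d : M₃) = a + b) (hdK : d ∈ Kx K) (hab : Indep ((a : M₃) *ᵥ c) ((b : M₃) *ᵥ c))
    (ha0 : φ ⬝ᵥ ((a : M₃) *ᵥ c) = 0) (hb0 : φ ⬝ᵥ ((b : M₃) *ᵥ c) = 0)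
    (ha1 : φ ⬝ᵥ (((a⁻¹ : GL (Fin 3) F) : M₃) *ᵥ c) = 0) (hb1 : φ ⬝ᵥ (((b⁻¹ : GL (Fin 3) F) : M₃) *ᵥ c) = 0)
    (hd1 : φ ⬝ᵥ (((d⁻¹ : GL (Fin 3) F) : M₃) *ᵥ c) = 0) : False := by
  letI := FieldExtNormalizer.fieldOf hK (by norm_num : 0 < 3)
  have hcomb : ∀ g ∈ Kx K, φ ⬝ᵥ ((g : M₃) *ᵥ c) = 0 → ∃ x y : F, (g : M₃) = x • (a : M₃) + y • (b : M₃) := by
    intro g hg h0
    obtain ⟨x, y, hxy⟩ := hab.exists_comb hφ ha0 hb0 h0
    exact ⟨x, y, eq_of_apply hK ((mem_Kx hK).1 hg) (add_mem (Subalgebra.smul_mem _ ((mem_Kx hK).1 ha) x)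
      (Subalgebra.smul_mem _ ((mem_Kx hK).1 hb) y)) hc (by rw [hxy, Matrix.add_mulVec, Matrix.smul_mulVec,
        Matrix.smul_mulVec])⟩
  obtain ⟨α, β, h1⟩ := hcomb _ (inv_mem ha) ha1
  obtain ⟨γ, δ, h2⟩ := hcomb _ (inv_mem hb) hb1
  obtain ⟨ε, ζ, h3⟩ := hcomb _ (inv_mem hdK) hd1
  obtain ⟨A, hA⟩ : ∃ A : K, (A : M₃) = a := ⟨⟨_, (mem_Kx hK).1 ha⟩, rfl⟩
  obtain ⟨B, hB⟩ : ∃ B : K, (B : M₃) = b := ⟨⟨_, (mem_Kx hK).1 hb⟩, rfl⟩
  have hA0 : A ≠ 0 := fun e => a.ne_zero (by rw [← hA, e]; rfl)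
  have e1 : A * (α • A + β • B) = 1 := Subtype.ext (by
    push_cast; rw [hA, hB, ← h1, Units.mul_inv])
  have e2 : B * (γ • A + δ • B) = 1 := Subtype.ext (by
    push_cast; rw [hA, hB, ← h2, Units.mul_inv])
  have e3 : (A + B) * (ε • A + ζ • B) = 1 := Subtype.ext (by
    push_cast; rw [hA, hB, ← h3, ← hd, Units.mul_inv])
  obtain ⟨Z, hZ⟩ : ∃ Z : K, Z = B / A := ⟨_, rfl⟩
  have hBZ : B = Z * A := by rw [hZ, div_mul_cancel₀ _ hA0]
  have hns : ∀ s : F, (Z : M₃) ≠ s • 1 := fun s e => by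
    have : (b : M₃) = s • (a : M₃) := by
      rw [← hB, hBZ]; push_cast; rw [e, hA, Matrix.smul_mul, Matrix.one_mul]
    exact hab.not_smul s (by rw [this, Matrix.smul_mulVec])
  have hquad : ∀ x y w : F, algebraMap F K x + algebraMap F K y * Z + algebraMap F K w * (Z * Z) = 0 →
      x = 0 ∧ y = 0 ∧ w = 0 := fun x y w h => indep_pow hK Z.2 hns (by
    have := congrArg Subtype.val h
    simpa [Algebra.algebraMap_eq_smul_one, Matrix.smul_mul] using this)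
  simp only [Algebra.smul_def] at e1 e2 e3
  rw [hBZ] at e1 e2 e3
  obtain ⟨hα, hβγ, hδ⟩ := hquad α (β - γ) (-δ) (by
    refine (mul_eq_zero.1 (?_ : (A * A) * _ = 0)).resolve_left (mul_ne_zero hA0 hA0)
    rw [map_sub, map_neg]
    linear_combination e1 - e2)
  obtain ⟨hε, hβζ, hζ⟩ := hquad ε (ε + ζ - β) ζ (by
    refine (mul_eq_zero.1 (?_ : (A * A) * _ = 0)).resolve_left (mul_ne_zero hA0 hA0)
    rw [map_sub, map_add]
    rw [hα, map_zero] at e1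
    linear_combination e3 - e1)
  rw [hε, hζ, zero_add, zero_sub, neg_eq_zero] at hβζ
  rw [hα, hβζ, map_zero] at e1
  simp at e1

/-- Inversion-closed points number at most two. -/
theorem ncard_le_two (hK : Geo.IsFieldSubalgebra 3 K) [Fintype F] (hc : c ≠ 0) (hφ : φ ≠ 0)
    (hsymm : ∀ a ∈ Kx K, Orb K c ((a : M₃) *ᵥ c) → φ ⬝ᵥ ((a : M₃) *ᵥ c) = 0 →
      φ ⬝ᵥ (((a⁻¹ : GL (Fin 3) F) : M₃) *ᵥ c) = 0) : (lines K c φ).ncard ≤ 2 := by
  by_contra hlt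
  push Not at hlt
  obtain ⟨p, hp, q, hq, r, hr, hpq, hpr, hqr⟩ := (Set.two_lt_ncard).1 hlt
  obtain ⟨s, t, hst⟩ := (indep_of_mk_ne p.rep_nonzero q.rep_nonzero (by
    rwa [p.mk_rep, q.mk_rep])).exists_comb hφ hp.1 hq.1 hr.1
  have hs : s ≠ 0 := fun e => hqr (by
    rw [← q.mk_rep, ← r.mk_rep]
    exact ((mk_eq_mk r.rep_nonzero q.rep_nonzero).2 ⟨t, by rw [hst, e, zero_smul, zero_add]⟩).symm)
  have ht : t ≠ 0 := fun e => hpr (by
    rw [← p.mk_rep, ← r.mk_rep]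
    exact ((mk_eq_mk r.rep_nonzero p.rep_nonzero).2 ⟨s, by rw [hst, e, zero_smul, add_zero]⟩).symm)
  have hp' := hp.2.smul hK hs
  have hq' := hq.2.smul hK ht
  have hr' := hr.2
  obtain ⟨a, ha, sa, hsa, hda, hca⟩ := hp'
  obtain ⟨b, hb, sb, hsb, hdb, hcb⟩ := hq'
  obtain ⟨d, hd, sd, hsd, hdd, hcd⟩ := hr'
  have ha0 : φ ⬝ᵥ ((a : M₃) *ᵥ c) = 0 := by rw [hca, dotProduct_smul, hp.1, smul_zero]
  have hb0 : φ ⬝ᵥ ((b : M₃) *ᵥ c) = 0 := by rw [hcb, dotProduct_smul, hq.1, smul_zero]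
  refine three hK hc hφ ha hb (eq_of_apply hK ((mem_Kx hK).1 hd)
    (add_mem ((mem_Kx hK).1 ha) ((mem_Kx hK).1 hb)) hc ?_) hd ?_ ha0 hb0
    (hsymm a ha ⟨a, ha, sa, hsa, hda, rfl⟩ ha0) (hsymm b hb ⟨b, hb, sb, hsb, hdb, rfl⟩ hb0)
    (hsymm d hd ⟨d, hd, sd, hsd, hdd, rfl⟩ (by rw [hcd]; exact hr.1))
  · rw [Matrix.add_mulVec, hca, hcb, hcd, hst]
  · rw [hca, hcb]
    refine indep_of_mk_ne (smul_ne_zero hs p.rep_nonzero) (smul_ne_zero ht q.rep_nonzero) fun e => hpq ?_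
    obtain ⟨w, hw⟩ := (mk_eq_mk (smul_ne_zero hs p.rep_nonzero) (smul_ne_zero ht q.rep_nonzero)).1 e
    rw [← p.mk_rep, ← q.mk_rep]
    refine (mk_eq_mk p.rep_nonzero q.rep_nonzero).2 ⟨s⁻¹ * (w * t), ?_⟩
    rw [mul_smul, mul_smul, hw, smul_smul, inv_mul_cancel₀ hs, one_smul]

variable [Fintype F]

/-- A scalar closed set of vectors and its points. -/
theorem card_closed {S : Set (Fin 3 → F)} (h0 : (0 : V) ∉ S) (hS : ∀ t : F, t ≠ 0 → ∀ z ∈ S, t • z ∈ S) :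
    Nat.card S = (Fintype.card F - 1) * {p : Projectivization F V | p.rep ∈ S}.ncard := by
  classical
  rw [← Nat.card_coe_set_eq, show Fintype.card F - 1 = Nat.card Fˣ by
    rw [Nat.card_eq_fintype_card, Fintype.card_units], ← Nat.card_prod]
  refine (Nat.card_congr (Equiv.ofBijective
    (fun x : Fˣ × {p : Projectivization F V | p.rep ∈ S} =>
      (⟨(x.1 : F) • x.2.1.rep, hS _ x.1.ne_zero _ x.2.2⟩ : S)) ⟨?_, ?_⟩)).symm
  · rintro ⟨s, p⟩ ⟨t, q⟩ e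
    have e' : (s : F) • p.1.rep = (t : F) • q.1.rep := congrArg Subtype.val e
    have hpq : p.1 = q.1 := by
      rw [← p.1.mk_rep, ← q.1.mk_rep]
      exact (mk_eq_mk p.1.rep_nonzero q.1.rep_nonzero).2
        ⟨(s : F)⁻¹ * t, by rw [mul_smul, ← e', smul_smul, inv_mul_cancel₀ s.ne_zero, one_smul]⟩
    rw [hpq] at e'
    exact Prod.ext (Units.ext (smul_left_injective F q.1.rep_nonzero e')) (Subtype.ext hpq)
  · rintro ⟨z, hz⟩
    have hz0 : z ≠ 0 := fun e => h0 (e ▸ hz)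
    obtain ⟨a, ha⟩ := Projectivization.exists_smul_eq_mk_rep F z hz0
    refine ⟨(a⁻¹, ⟨Projectivization.mk F z hz0, ?_⟩), Subtype.ext ?_⟩
    · show _ ∈ S
      rw [← ha]
      exact hS _ a.ne_zero _ hz
    · show ((a⁻¹ : Fˣ) : F) • (Projectivization.mk F z hz0).rep = z
      rw [← ha, Units.smul_def, smul_smul, Units.inv_mul, one_smul]

theorem card_ker_dot (hφ : φ ≠ 0) : Nat.card {z : V // φ ⬝ᵥ z = 0} = Fintype.card F ^ 2 := by
  classical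
  obtain ⟨a, ha1, ha2⟩ := exists_ker_dot (ψ := (0 : V)) (φ := φ) (fun t e => hφ (by rw [e, smul_zero])) 1
  let e : F × {z : V // φ ⬝ᵥ z = 0} ≃ V :=
    { toFun := fun x => x.1 • a + x.2.1
      invFun := fun z => (φ ⬝ᵥ z, ⟨z - (φ ⬝ᵥ z) • a, by
        rw [dotProduct_sub, dotProduct_smul, ha2, smul_eq_mul, mul_one, sub_self]⟩)
      left_inv := fun ⟨s, z⟩ => by
        have h1 : φ ⬝ᵥ (s • a + z.1) = s := by
          rw [dotProduct_add, dotProduct_smul, ha2, z.2, smul_eq_mul, mul_one, add_zero]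
        simp only [h1, add_sub_cancel_left]
      right_inv := fun z => by simp }
  have h := Nat.card_congr e
  rw [Nat.card_prod, Nat.card_eq_fintype_card (α := F), Nat.card_eq_fintype_card (α := V), Fintype.card_fun,
    Fintype.card_fin, pow_succ'] at h
  exact Nat.eq_of_mul_eq_mul_left Fintype.card_pos h

theorem card_ker_dot_pair {ψ : V} (h : Indep φ ψ) :
    Nat.card {z : V // φ ⬝ᵥ z = 0 ∧ ψ ⬝ᵥ z = 0 ∧ z ≠ 0} = Fintype.card F - 1 := by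
  classical
  obtain ⟨P, hP⟩ : ∃ P, P = crossProduct φ ψ := ⟨_, rfl⟩
  have hP0 : P ≠ 0 := hP ▸ h
  rw [← Fintype.card_units, ← Nat.card_eq_fintype_card]
  refine (Nat.card_congr (Equiv.ofBijective (fun t : Fˣ => (⟨(t : F) • P, ?_, ?_, smul_ne_zero t.ne_zero hP0⟩ :
    {z : V // φ ⬝ᵥ z = 0 ∧ ψ ⬝ᵥ z = 0 ∧ z ≠ 0})) ⟨fun a b e => Units.ext
      (smul_left_injective F hP0 (congrArg Subtype.val e)), fun z => ?_⟩)).symm
  · rw [hP, dotProduct_smul, dot_self_cross, smul_zero]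
  · rw [hP, dotProduct_smul, dot_cross_self, smul_zero]
  · obtain ⟨t, ht⟩ := Indep.functional (φ := P) h hP0 (hP ▸ cross_dot_left _ _) (hP ▸ cross_dot_right _ _)
      (ψ := z.1) (by rw [dotProduct_comm]; exact z.2.1) (by rw [dotProduct_comm]; exact z.2.2.1)
    exact ⟨Units.mk0 t fun e => z.2.2.2 (by rw [ht, e, zero_smul]), Subtype.ext ht.symm⟩

/-- The determinant modulo cubes. -/
noncomputable def cls (K : Subalgebra F (Matrix (Fin 3) (Fin 3) F)) :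
    Kx K →* Fˣ ⧸ (powMonoidHom 3 : Fˣ →* Fˣ).range :=
  (QuotientGroup.mk' _).comp (detK K)

theorem cls_eq_one {g : Kx K} :
    cls K g = 1 ↔ ∃ s : F, s ≠ 0 ∧ ((g : GL (Fin 3) F) : M₃).det = s ^ 3 := by
  rw [cls, MonoidHom.comp_apply, QuotientGroup.mk'_apply, QuotientGroup.eq_one_iff]
  constructor
  · rintro ⟨s, hs⟩
    exact ⟨s, s.ne_zero, by rw [← detK_apply, ← hs]; simp⟩
  · rintro ⟨s, hs, h⟩
    exact ⟨Units.mk0 s hs, Units.ext (by rw [detK_apply, h]; simp)⟩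

theorem orb_apply_iff (hK : Geo.IsFieldSubalgebra 3 K) (hc : c ≠ 0) (a b : Kx K) :
    Orb K (((a : GL (Fin 3) F) : M₃) *ᵥ c) (((b : GL (Fin 3) F) : M₃) *ᵥ c) ↔ cls K b = cls K a := by
  constructor
  · rintro ⟨g, hg, s, hs, hd, he⟩
    rw [Matrix.mulVec_mulVec, ← Units.val_mul] at he
    have : b = ⟨g, hg⟩ * a :=
      Subtype.ext (gl_eq_of_apply hK b.2 (mul_mem hg a.2) hc he.symm)
    rw [this, map_mul, (cls_eq_one).2 ⟨s, hs, hd⟩, one_mul]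
  · intro h
    obtain ⟨s, hs, hd⟩ := (cls_eq_one (g := b * a⁻¹)).1 (by rw [map_mul, h, map_inv, mul_inv_cancel])
    refine ⟨(b * a⁻¹ : Kx K), (b * a⁻¹).2, s, hs, hd, ?_⟩
    rw [Matrix.mulVec_mulVec, ← Units.val_mul, ← Subgroup.coe_mul, inv_mul_cancel_right]

theorem ncard_lines_mul (hK : Geo.IsFieldSubalgebra 3 K) (hc : c ≠ 0) (a : Kx K) :
    Nat.card {b : Kx K // φ ⬝ᵥ (((b : GL (Fin 3) F) : M₃) *ᵥ c) = 0 ∧ cls K b = cls K a} =
      (Fintype.card F - 1) * (lines K (((a : GL (Fin 3) F) : M₃) *ᵥ c) φ).ncard := by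
  have h := card_closed (S := {z | φ ⬝ᵥ z = 0 ∧ Orb K (((a : GL (Fin 3) F) : M₃) *ᵥ c) z})
    (fun h => h.2.ne_zero (apply_ne_zero hc) rfl)
    (fun t ht z hz => ⟨by rw [dotProduct_smul, hz.1, smul_zero], hz.2.smul hK ht⟩)
  refine Eq.trans (Nat.card_congr (Equiv.ofBijective
    (fun b => (⟨((b.1 : GL (Fin 3) F) : M₃) *ᵥ c, b.2.1, (orb_apply_iff hK hc a b.1).2 b.2.2⟩ :
      {z | φ ⬝ᵥ z = 0 ∧ Orb K (((a : GL (Fin 3) F) : M₃) *ᵥ c) z})) ⟨fun x y e => ?_, fun z => ?_⟩)) h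
  · exact Subtype.ext (Subtype.ext (gl_eq_of_apply hK x.1.2 y.1.2 hc (congrArg Subtype.val e)))
  · obtain ⟨g, hg, hgz⟩ := exists_apply hK hc (z.2.2.ne_zero (apply_ne_zero hc))
    refine ⟨⟨⟨g, hg⟩, ?_, (orb_apply_iff hK hc a ⟨g, hg⟩).1 ?_⟩, Subtype.ext hgz⟩
    · show φ ⬝ᵥ ((g : M₃) *ᵥ c) = 0
      rw [hgz]; exact z.2.1
    · show Orb K _ ((g : M₃) *ᵥ c)
      rw [hgz]; exact z.2.2

/-- The units whose image has `φ` zero. -/
theorem card_plane (hK : Geo.IsFieldSubalgebra 3 K) (hc : c ≠ 0) (hφ : φ ≠ 0) :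
    Nat.card {b : Kx K // φ ⬝ᵥ (((b : GL (Fin 3) F) : M₃) *ᵥ c) = 0} = Fintype.card F ^ 2 - 1 := by
  classical
  rw [← card_ker_dot hφ, Nat.card_eq_fintype_card (α := {z : V // φ ⬝ᵥ z = 0}),
    show (1 : ℕ) = Fintype.card {z : {z : V // φ ⬝ᵥ z = 0} // z = ⟨0, dotProduct_zero _⟩} from
      (Fintype.card_subtype_eq _).symm, ← Fintype.card_subtype_compl, ← Nat.card_eq_fintype_card]
  refine Nat.card_congr (Equiv.ofBijective (fun b => (⟨⟨((b.1 : GL (Fin 3) F) : M₃) *ᵥ c, b.2⟩,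
    fun e => apply_ne_zero hc (congrArg Subtype.val e)⟩ :
      {z : {z : V // φ ⬝ᵥ z = 0} // ¬ z = ⟨0, dotProduct_zero _⟩})) ⟨fun x y e => ?_, fun z => ?_⟩)
  · exact Subtype.ext (Subtype.ext (gl_eq_of_apply hK x.1.2 y.1.2 hc (congrArg (fun w => w.1.1) e)))
  · obtain ⟨g, hg, hgz⟩ := exists_apply hK hc (fun e => z.2 (Subtype.ext e))
    exact ⟨⟨⟨g, hg⟩, by show φ ⬝ᵥ ((g : M₃) *ᵥ c) = 0; rw [hgz]; exact z.1.2⟩, Subtype.ext (Subtype.ext hgz)⟩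

/-- Pairs in a line with given quotient. -/
theorem card_shift (hK : Geo.IsFieldSubalgebra 3 K) (hc : c ≠ 0) (hφ : φ ≠ 0) (s : Kx K) :
    Nat.card {b : Kx K // φ ⬝ᵥ (((b : GL (Fin 3) F) : M₃) *ᵥ c) = 0 ∧
        φ ⬝ᵥ (((s * b : Kx K) : GL (Fin 3) F) : M₃) *ᵥ c = 0} =
      @ite ℕ (∃ t : F, ((s : GL (Fin 3) F) : M₃) = t • 1) (Classical.dec _) (Fintype.card F ^ 2 - 1)
        (Fintype.card F - 1) := by
  classical
  split_ifs with hs
  · obtain ⟨t, ht⟩ := hs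
    rw [← card_plane hK hc hφ]
    refine Nat.card_congr (Equiv.subtypeEquivRight fun b => ⟨fun h => h.1, fun h => ⟨h, ?_⟩⟩)
    rw [Subgroup.coe_mul, Units.val_mul, ht, Matrix.smul_mul, Matrix.one_mul, Matrix.smul_mulVec, dotProduct_smul,
      h, smul_zero]
  · push Not at hs
    obtain ⟨ψ, hψ⟩ : ∃ ψ, ψ = φ ᵥ* ((s : GL (Fin 3) F) : M₃) := ⟨_, rfl⟩
    have hind : Indep φ ψ := indep_of_not_mem hφ fun t e => by
      obtain ⟨W, hW⟩ : ∃ W : Submodule F V, ∀ z, z ∈ W ↔ φ ⬝ᵥ z = 0 :=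
        ⟨{ carrier := {z | φ ⬝ᵥ z = 0}
           add_mem' := fun {x y} hx hy => by
             simp only [Set.mem_ofPred_eq] at hx hy ⊢; rw [dotProduct_add, hx, hy, add_zero]
           zero_mem' := dotProduct_zero _
           smul_mem' := fun t x hx => by
             simp only [Set.mem_ofPred_eq] at hx ⊢; rw [dotProduct_smul, hx, smul_zero] }, fun z => Iff.rfl⟩
      obtain ⟨z, hz, hz0⟩ : ∃ z ∈ W, z ≠ 0 := by
        by_contra hno
        push Not at hno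
        have h1 : Nat.card {z : V // φ ⬝ᵥ z = 0} ≤ 1 := by
          rw [Finite.card_le_one_iff_subsingleton]
          exact ⟨fun a b => Subtype.ext (by rw [hno _ ((hW _).2 a.2), hno _ ((hW _).2 b.2)])⟩
        rw [card_ker_dot hφ] at h1
        have h2 := Fintype.one_lt_card (α := F)
        exact absurd h1 (Nat.not_le.2 (Nat.one_lt_pow two_ne_zero h2))
      have htop := eq_top_of_inv hK ((mem_Kx hK).1 s.2) hs W (fun x hx => (hW _).2 (by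
        rw [Matrix.dotProduct_mulVec, ← hψ, e, smul_dotProduct, (hW _).1 hx, smul_zero])) hz0 hz
      exact hφ (dotProduct_eq_zero _ fun y => (hW y).1 (htop ▸ Submodule.mem_top))
    rw [← card_ker_dot_pair hind]
    refine Nat.card_congr (Equiv.ofBijective (fun b => (⟨((b.1 : GL (Fin 3) F) : M₃) *ᵥ c, b.2.1, ?_,
      apply_ne_zero hc⟩ : {z : V // φ ⬝ᵥ z = 0 ∧ ψ ⬝ᵥ z = 0 ∧ z ≠ 0})) ⟨fun x y e => ?_, fun z => ?_⟩)
    · rw [hψ, ← Matrix.dotProduct_mulVec, Matrix.mulVec_mulVec, ← Units.val_mul, ← Subgroup.coe_mul]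
      exact b.2.2
    · exact Subtype.ext (Subtype.ext (gl_eq_of_apply hK x.1.2 y.1.2 hc (congrArg Subtype.val e)))
    · obtain ⟨g, hg, hgz⟩ := exists_apply hK hc z.2.2.2
      refine ⟨⟨⟨g, hg⟩, ?_, ?_⟩, Subtype.ext hgz⟩
      · show φ ⬝ᵥ ((g : M₃) *ᵥ c) = 0
        rw [hgz]; exact z.2.1
      · rw [Subgroup.coe_mul, Units.val_mul, ← Matrix.mulVec_mulVec, Matrix.dotProduct_mulVec, ← hψ, hgz]
        exact z.2.2.1

theorem card_scalars (hK : Geo.IsFieldSubalgebra 3 K) :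
    Nat.card {s : Kx K // cls K s = 1 ∧ ∃ t : F, ((s : GL (Fin 3) F) : M₃) = t • 1} = Fintype.card F - 1 := by
  classical
  rw [← Fintype.card_units, ← Nat.card_eq_fintype_card]
  choose g hg hgt using fun t : Fˣ => exists_scalar hK t.ne_zero
  refine (Nat.card_congr (Equiv.ofBijective (fun t : Fˣ => (⟨⟨g t, hg t⟩, cls_eq_one.2
    ⟨t, t.ne_zero, by
      show (g t : M₃).det = _
      rw [hgt, Matrix.det_smul, Fintype.card_fin, Matrix.det_one, mul_one]⟩,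
    (t : F), hgt t⟩ : {s : Kx K // cls K s = 1 ∧ ∃ t : F, ((s : GL (Fin 3) F) : M₃) = t • 1})) ⟨fun a b e => ?_,
    fun z => ?_⟩)).symm
  · have e' := congrArg (fun x => (((x.1 : Kx K) : GL (Fin 3) F) : M₃) 0 0) e
    simp only [hgt] at e'
    exact Units.ext (by simpa using e')
  · obtain ⟨t, ht⟩ := z.2.2
    have ht0 : t ≠ 0 := fun e => (z.1 : GL (Fin 3) F).ne_zero (by rw [ht, e, zero_smul])
    exact ⟨Units.mk0 t ht0, Subtype.ext (Subtype.ext (Units.ext ((hgt _).trans ht.symm)))⟩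

end Cfsg.Agent.Classical.SLThree.Singer
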