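import Cfsg.Agent.Lib.Classical.SLThree.Basic
import Cfsg.Agent.Lib.Classical.FieldExtNormalizer
import Cfsg.Agent.Lib.Classical.SingerNormalizerDerange

/-!
A cubic field subalgebra of `3 × 3` matrices: its units act simply transitively on non-zero vectors.
-/

set_option autoImplicit false
set_option linter.unusedSectionVars false

namespace Cfsg.Agent.Classical.SLThree.Singer

open Matrix Module MaxTv SLThree

variable {F : Type*} [Field F]

local notation "V" => (Fin 3 → F)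
local notation "M₃" => Matrix (Fin 3) (Fin 3) F

/-- The units of the subalgebra. -/
def Kx (K : Subalgebra F (Matrix (Fin 3) (Fin 3) F)) : Subgroup (GL (Fin 3) F) := K.toSubmonoid.units

variable {K : Subalgebra F (Matrix (Fin 3) (Fin 3) F)}

theorem mem_Kx (hK : Geo.IsFieldSubalgebra 3 K) {g : GL (Fin 3) F} : g ∈ Kx K ↔ (g : M₃) ∈ K := by
  refine ⟨fun h => ((Submonoid.mem_units_iff _ _).1 h).1, fun h => (Submonoid.mem_units_iff _ _).2 ⟨h, ?_⟩⟩
  obtain ⟨y, hy, hgy⟩ := hK.inv _ h g.ne_zero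
  rwa [show ((g⁻¹ : GL (Fin 3) F) : M₃) = y by
    rw [← Matrix.mul_one (((g⁻¹ : GL (Fin 3) F) : M₃)), ← hgy, ← Matrix.mul_assoc, Units.inv_mul,
      Matrix.one_mul]]

theorem Kx_comm (hK : Geo.IsFieldSubalgebra 3 K) {a b : GL (Fin 3) F} (ha : a ∈ Kx K) (hb : b ∈ Kx K) :
    a * b = b * a :=
  Units.ext (hK.comm _ ((mem_Kx hK).1 ha) _ ((mem_Kx hK).1 hb))

theorem scalar_mem (hK : Geo.IsFieldSubalgebra 3 K) {g : GL (Fin 3) F} {s : F} (h : (g : M₃) = s • 1) :
    g ∈ Kx K := (mem_Kx hK).2 (h ▸ Subalgebra.smul_mem _ (one_mem _) s)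

theorem Kx_le_normalizer (hK : Geo.IsFieldSubalgebra 3 K) : Kx K ≤ Geo.subalgebraNormalizer K := fun g hg =>
  FieldExtNormalizer.mem_normalizer hK (by norm_num) fun a ha => ⟨a, ha, hK.comm _ ((mem_Kx hK).1 hg) a ha⟩

/-- Every non-zero element is a unit. -/
theorem exists_unit (hK : Geo.IsFieldSubalgebra 3 K) {a : M₃} (ha : a ∈ K) (h0 : a ≠ 0) :
    ∃ g ∈ Kx K, (g : M₃) = a := by
  obtain ⟨y, hy, hay⟩ := hK.inv a ha h0
  exact ⟨⟨a, y, hay, by rw [hK.comm y hy a ha, hay]⟩, (mem_Kx hK).2 ha, rfl⟩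

theorem eq_of_apply (hK : Geo.IsFieldSubalgebra 3 K) {a b : M₃} (ha : a ∈ K) (hb : b ∈ K) {c : V} (hc : c ≠ 0)
    (h : a *ᵥ c = b *ᵥ c) : a = b := by
  by_contra hne
  exact hc (FieldExtNormalizer.eq_zero_of_mem hK (sub_mem ha hb) (sub_ne_zero.2 hne)
    (by rw [Matrix.sub_mulVec, h, sub_self]))

theorem gl_eq_of_apply (hK : Geo.IsFieldSubalgebra 3 K) {a b : GL (Fin 3) F} (ha : a ∈ Kx K) (hb : b ∈ Kx K)
    {c : V} (hc : c ≠ 0) (h : (a : M₃) *ᵥ c = (b : M₃) *ᵥ c) : a = b :=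
  Units.ext (eq_of_apply hK ((mem_Kx hK).1 ha) ((mem_Kx hK).1 hb) hc h)

theorem apply_ne_zero {g : GL (Fin 3) F} {c : V} (hc : c ≠ 0) : (g : M₃) *ᵥ c ≠ 0 := fun e => hc (by
  rw [← Matrix.one_mulVec c, ← g.inv_mul, ← Matrix.mulVec_mulVec, e, Matrix.mulVec_zero])

theorem exists_mem_apply (hK : Geo.IsFieldSubalgebra 3 K) {c : V} (hc : c ≠ 0) (z : V) :
    ∃ a ∈ K, a *ᵥ c = z := by
  let L : K →ₗ[F] V :=
    { toFun := fun a => (a : M₃) *ᵥ c
      map_add' := fun a b => Matrix.add_mulVec _ _ _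
      map_smul' := fun t a => Matrix.smul_mulVec t _ _ }
  have : FiniteDimensional F K := Module.finite_of_finrank_pos (by rw [hK.finrank_eq]; norm_num)
  have hinj : Function.Injective L := fun a b e => Subtype.ext (eq_of_apply hK a.2 b.2 hc e)
  obtain ⟨a, ha⟩ := (LinearMap.injective_iff_surjective_of_finrank_eq_finrank
    (by rw [hK.finrank_eq, finrank_fin_fun])).1 hinj z
  exact ⟨a, a.2, ha⟩

/-- The units are transitive. -/
theorem exists_apply (hK : Geo.IsFieldSubalgebra 3 K) {c z : V} (hc : c ≠ 0) (hz : z ≠ 0) :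
    ∃ g ∈ Kx K, (g : M₃) *ᵥ c = z := by
  obtain ⟨a, ha, haz⟩ := exists_mem_apply hK hc z
  obtain ⟨g, hg, hga⟩ := exists_unit hK ha (fun e => hz (by rw [← haz, e, Matrix.zero_mulVec]))
  exact ⟨g, hg, by rw [hga, haz]⟩

/-- A non-scalar element satisfies no quadratic equation. -/
theorem indep_pow (hK : Geo.IsFieldSubalgebra 3 K) {u : M₃} (hu : u ∈ K) (hns : ∀ s : F, u ≠ s • 1)
    {a b c : F} (h : a • (1 : M₃) + b • u + c • (u * u) = 0) : a = 0 ∧ b = 0 ∧ c = 0 := by
  letI := FieldExtNormalizer.fieldOf hK (by norm_num : 0 < 3)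
  have : FiniteDimensional F K := Module.finite_of_finrank_pos (by rw [hK.finrank_eq]; norm_num)
  obtain ⟨U, hU⟩ : ∃ U : K, U = ⟨u, hu⟩ := ⟨_, rfl⟩
  have hdeg : (minpoly F U).natDegree = 3 := by
    rcases Nat.Prime.eq_one_or_self_of_dvd (by norm_num) _
      (hK.finrank_eq ▸ minpoly.degree_dvd (K := F) (x := U) (Algebra.IsIntegral.isIntegral U)) with h' | h'
    · obtain ⟨s, hs⟩ := minpoly.natDegree_eq_one_iff.1 h'
      refine absurd ?_ (hns s)
      have := congrArg (fun z : K => (z : M₃)) hs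
      rw [hU] at this
      exact this.symm.trans (Algebra.algebraMap_eq_smul_one s)
    · exact h'
  open Polynomial in
  obtain ⟨P, hP⟩ : ∃ P : F[X], P = C a + C b * X + C c * X ^ 2 := ⟨_, rfl⟩
  have h0 : Polynomial.aeval U P = 0 := by
    refine Subtype.ext ?_
    rw [hP, hU]
    simp only [map_add, map_mul, Polynomial.aeval_C, Polynomial.aeval_X, map_pow, Subalgebra.coe_add,
      Subalgebra.coe_mul, Subalgebra.coe_pow, Subalgebra.coe_algebraMap, Subalgebra.coe_zero]
    rw [Algebra.algebraMap_eq_smul_one, Algebra.algebraMap_eq_smul_one, Algebra.algebraMap_eq_smul_one,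
      Matrix.smul_mul, Matrix.smul_mul, Matrix.one_mul, Matrix.one_mul, sq]
    exact h
  have hP0 : P = 0 := by
    by_contra hne
    have h1 := Polynomial.natDegree_le_of_dvd (minpoly.dvd F U h0) hne
    rw [hdeg] at h1
    have h2 : P.natDegree ≤ 2 := by
      rw [hP]
      compute_degree
    omega
  refine ⟨?_, ?_, ?_⟩
  · simpa [hP] using congrArg (fun Q : Polynomial F => Q.coeff 0) hP0
  · simpa [hP, Polynomial.coeff_X_pow, Polynomial.coeff_C] using congrArg (fun Q : Polynomial F => Q.coeff 1) hP0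
  · simpa [hP, Polynomial.coeff_X, Polynomial.coeff_C] using congrArg (fun Q : Polynomial F => Q.coeff 2) hP0

theorem span_powers (hK : Geo.IsFieldSubalgebra 3 K) {u : M₃} (hu : u ∈ K) (hns : ∀ s : F, u ≠ s • 1) {v : V}
    (hv : v ≠ 0) : Submodule.span F (Set.range ![v, u *ᵥ v, u *ᵥ (u *ᵥ v)]) = ⊤ := by
  refine (Fintype.linearIndependent_iff.2 fun g hg => ?_ : LinearIndependent F ![v, u *ᵥ v, u *ᵥ (u *ᵥ v)]
    ).span_eq_top_of_card_eq_finrank (by simp)
  have hg' : (g 0 • (1 : M₃) + g 1 • u + g 2 • (u * u)) *ᵥ v = 0 := by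
    simpa [Fin.sum_univ_three, Matrix.add_mulVec, Matrix.smul_mulVec, Matrix.mulVec_mulVec] using hg
  have h0 := eq_of_apply hK (add_mem (add_mem (Subalgebra.smul_mem _ (one_mem _) _) (Subalgebra.smul_mem _ hu _))
    (Subalgebra.smul_mem _ (mul_mem hu hu) _)) (zero_mem K) hv (by rw [hg', Matrix.zero_mulVec])
  obtain ⟨h1, h2, h3⟩ := indep_pow hK hu hns h0
  intro i; fin_cases i <;> assumption

/-- A non-scalar element fixes no proper subspace. -/
theorem eq_top_of_inv (hK : Geo.IsFieldSubalgebra 3 K) {u : M₃} (hu : u ∈ K) (hns : ∀ s : F, u ≠ s • 1)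
    (W : Submodule F V) (hW : ∀ x ∈ W, u *ᵥ x ∈ W) {v : V} (hv : v ≠ 0) (hvW : v ∈ W) : W = ⊤ := by
  refine eq_top_iff.2 ((span_powers hK hu hns hv).symm.le.trans (Submodule.span_le.2 ?_))
  rintro _ ⟨i, rfl⟩
  fin_cases i
  · exact hvW
  · exact hW _ hvW
  · exact hW _ (hW _ hvW)

/-- The centraliser of a non-scalar element is the field. -/
theorem mem_of_commute (hK : Geo.IsFieldSubalgebra 3 K) {u x : M₃} (hu : u ∈ K) (hns : ∀ s : F, u ≠ s • 1)
    (h : x * u = u * x) : x ∈ K := by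
  have hc : (Pi.single 0 1 : V) ≠ 0 := fun e => one_ne_zero (α := F) (by simpa using congrFun e 0)
  obtain ⟨a, ha, hac⟩ := exists_mem_apply hK hc (x *ᵥ (Pi.single 0 1 : V))
  suffices x = a from this ▸ ha
  refine Matrix.ext_iff_mulVec.2 fun z => ?_
  let W : Submodule F V := LinearMap.ker (Matrix.toLin' (x - a))
  have hW : W = ⊤ := eq_top_of_inv hK hu hns W (fun y hy => by
    simp only [W, LinearMap.mem_ker, Matrix.toLin'_apply] at hy ⊢
    rw [Matrix.mulVec_mulVec, show (x - a) * u = u * (x - a) by rw [sub_mul, mul_sub, h, hK.comm a ha u hu],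
      ← Matrix.mulVec_mulVec, hy, Matrix.mulVec_zero]) hc
    (by simp only [W, LinearMap.mem_ker, Matrix.toLin'_apply, Matrix.sub_mulVec]; rw [hac, sub_self])
  have hz : z ∈ W := hW ▸ Submodule.mem_top
  simpa [W, Matrix.sub_mulVec, sub_eq_zero] using hz

variable [Fintype F]

theorem card_Kx (hK : Geo.IsFieldSubalgebra 3 K) : Nat.card (Kx K) = Fintype.card F ^ 3 - 1 := by
  classical
  have hc : (Pi.single 0 1 : V) ≠ 0 := fun e => one_ne_zero (α := F) (by simpa using congrFun e 0)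
  rw [Nat.card_congr (Equiv.ofBijective
    (fun g : Kx K => (⟨((g : GL (Fin 3) F) : M₃) *ᵥ (Pi.single 0 1 : V), apply_ne_zero hc⟩ : {z : V // z ≠ 0}))
    ⟨fun a b e => Subtype.ext (gl_eq_of_apply hK a.2 b.2 hc (congrArg Subtype.val e)), fun z => by
      obtain ⟨g, hg, hgz⟩ := exists_apply hK hc z.2
      exact ⟨⟨g, hg⟩, Subtype.ext hgz⟩⟩), Nat.card_eq_fintype_card, Fintype.card_subtype_compl]
  simp

/-- The determinant on the units. -/
noncomputable def detK (K : Subalgebra F (Matrix (Fin 3) (Fin 3) F)) : Kx K →* Fˣ :=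
  Matrix.GeneralLinearGroup.det.comp (Kx K).subtype

theorem detK_apply (g : Kx K) : ((detK K g : Fˣ) : F) = ((g : GL (Fin 3) F) : M₃).det := rfl

theorem detK_surjective (hK : Geo.IsFieldSubalgebra 3 K) : Function.Surjective (detK K) := fun d => by
  obtain ⟨k, hk, hkd⟩ := SingerNormalizerDerange.exists_det (by norm_num) hK d.ne_zero
  obtain ⟨g, hg, hgk⟩ := exists_unit hK hk fun e => d.ne_zero (by rw [← hkd, e, Matrix.det_zero])
  exact ⟨⟨g, hg⟩, Units.ext (by rw [detK_apply, hgk, hkd])⟩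

/-- Few roots of unity. -/
theorem card_pow_eq_one_le (hK : Geo.IsFieldSubalgebra 3 K) {n : ℕ} (hn : 0 < n) :
    Nat.card {g : Kx K // g ^ n = 1} ≤ n := by
  classical
  letI := FieldExtNormalizer.fieldOf hK (by norm_num : 0 < 3)
  let f : {g : Kx K // g ^ n = 1} → {x // x ∈ (Polynomial.nthRoots n (1 : K)).toFinset} := fun g =>
    ⟨⟨((g.1 : GL (Fin 3) F) : M₃), (mem_Kx hK).1 g.1.2⟩, by
      rw [Multiset.mem_toFinset, Polynomial.mem_nthRoots hn]
      refine Subtype.ext ?_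
      have := congrArg (fun x : Kx K => ((x : GL (Fin 3) F) : M₃)) g.2
      simpa using this⟩
  refine (Nat.card_le_card_of_injective f fun a b e => ?_).trans ?_
  · exact Subtype.ext (Subtype.ext (Units.ext (congrArg (fun x => ((x.1 : K) : M₃)) e)))
  · rw [Nat.card_eq_fintype_card, Fintype.card_coe]
    exact (Multiset.toFinset_card_le _).trans (Polynomial.card_nthRoots n 1)

theorem card_detK_ker (hK : Geo.IsFieldSubalgebra 3 K) :
    Nat.card (detK K).ker = Fintype.card F ^ 2 + Fintype.card F + 1 := by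
  classical
  have h := (detK K).ker.card_mul_index
  rw [Subgroup.index_ker, MonoidHom.range_eq_top.2 (detK_surjective hK), Subgroup.card_top, card_Kx hK,
    Nat.card_eq_fintype_card (α := Fˣ), Fintype.card_units] at h
  have hq := Fintype.one_lt_card (α := F)
  obtain ⟨m, hm⟩ : ∃ m, Fintype.card F = m + 1 := ⟨_, (Nat.succ_pred_eq_of_pos (by omega)).symm⟩
  rw [hm] at h hq ⊢
  rw [Nat.add_sub_cancel, show (m + 1) ^ 3 - 1 = ((m + 1) ^ 2 + (m + 1) + 1) * m from
    Nat.sub_eq_of_eq_add (by ring)] at h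
  exact Nat.eq_of_mul_eq_mul_right (by omega) h

/-- An element of determinant one of large order. -/
theorem exists_gen (hK : Geo.IsFieldSubalgebra 3 K) (h4 : Fintype.card F ≠ 4) :
    ∃ u ∈ Kx K, (u : M₃).det = 1 ∧ u ^ 27 ≠ 1 := by
  classical
  by_contra hc
  push Not at hc
  obtain ⟨C, hC⟩ : ∃ C, C = (detK K).ker := ⟨_, rfl⟩
  have hall : ∀ g : C, g ^ 27 = 1 := fun g => Subtype.ext (Subtype.ext (hc _ g.1.2 (by
    have := g.2
    simp only [hC, MonoidHom.mem_ker] at this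
    rw [← detK_apply, this]; rfl)))
  have hle : Nat.card C ≤ 27 := (Nat.card_le_card_of_injective
    (fun g : C => (⟨g.1, by simpa using congrArg Subtype.val (hall g)⟩ : {g : Kx K // g ^ 27 = 1}))
    fun a b e => Subtype.ext (congrArg (fun x : {g : Kx K // g ^ 27 = 1} => x.1) e)).trans
      (card_pow_eq_one_le hK (by norm_num))
  have hcard : Nat.card C = Fintype.card F ^ 2 + Fintype.card F + 1 := hC ▸ card_detK_ker hK
  have hcop : Nat.Coprime 27 (Nat.card C) := by
    rw [hcard] at hle ⊢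
    have hq := Fintype.one_lt_card (α := F)
    have : Fintype.card F < 5 := by nlinarith
    interval_cases (Fintype.card F) <;> first | exact absurd rfl h4 | norm_num
  have hone : ∀ g : C, g = 1 := fun g => by
    have := pow_gcd_eq_one.2 ⟨hall g, pow_card_eq_one' (x := g)⟩
    rwa [hcop, pow_one] at this
  have : Nat.card C ≤ 1 := by
    rw [Nat.card_eq_one_iff_unique.2 ⟨⟨fun a b => by rw [hone a, hone b]⟩, ⟨1⟩⟩]
  rw [hcard] at this
  have := Fintype.one_lt_card (α := F)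
  omega

theorem not_scalar_pow (hK : Geo.IsFieldSubalgebra 3 K) {u : GL (Fin 3) F} (hu : (u : M₃).det = 1)
    (h27 : u ^ 27 ≠ 1) {n : ℕ} (hn : n ∣ 9) (s : F) : ((u ^ n : GL (Fin 3) F) : M₃) ≠ s • 1 := fun e => by
  obtain ⟨m, hm⟩ := hn
  have h1 : s ^ 3 = 1 := by
    have := congrArg Matrix.det e
    rw [Units.val_pow_eq_pow_val, Matrix.det_pow, hu, one_pow, Matrix.det_smul, Fintype.card_fin, Matrix.det_one,
      mul_one] at this
    exact this.symm
  refine h27 (Units.ext ?_)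
  rw [show u ^ 27 = ((u ^ n) ^ 3) ^ m by rw [← pow_mul, ← pow_mul]; congr 1; rw [Nat.mul_left_comm, ← hm],
    Units.val_pow_eq_pow_val, Units.val_pow_eq_pow_val, e, smul_pow, one_pow, h1, one_smul, one_pow, Units.val_one]

end Cfsg.Agent.Classical.SLThree.Singer
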