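import Cfsg.Agent.Lib.Classical.SLThree.SingerSmall

/-!
A frame of three two-axis centres over sixteen elements: the free coefficient generates the field of four elements.
-/

set_option autoImplicit false
set_option linter.unusedSectionVars false

namespace Cfsg.Agent.Classical.SLThree.Singer

open Matrix Module MaxTv SLThree Cfsg.Agent.PSL2Spec

variable {F : Type*} [Field F] [Fintype F] [CharP F 2] {K : Subalgebra F (Matrix (Fin 3) (Fin 3) F)}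
  {M : Subgroup (GL (Fin 3) F)} {c d r φ φ₂ θ₁ : Fin 3 → F}

local notation "V" => (Fin 3 → F)
local notation "M₃" => Matrix (Fin 3) (Fin 3) F
local notation "SL₂" => Matrix.SpecialLinearGroup (Fin 2) F
local notation "M₂" => Matrix (Fin 2) (Fin 2) F

/-- Two axes at `c` with one further normalised centre on each, and the dual functionals. -/
structure Frame (M : Subgroup (GL (Fin 3) F)) (c d r φ φ₂ θ₁ : Fin 3 → F) : Prop where
  dblc : Dbl M c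
  dbld : Dbl M d
  dblr : Dbl M r
  tc : MaxTv.InT M c φ
  tc₂ : MaxTv.InT M c φ₂
  td : MaxTv.InT M d φ
  tr : MaxTv.InT M r φ₂
  φc : φ ⬝ᵥ c = 0
  φd : φ ⬝ᵥ d = 0
  φr : φ ⬝ᵥ r = 1
  ac : φ₂ ⬝ᵥ c = 0
  ad : φ₂ ⬝ᵥ d = 1
  ar : φ₂ ⬝ᵥ r = 0
  bc : θ₁ ⬝ᵥ c = 1
  bd : θ₁ ⬝ᵥ d = 0
  br : θ₁ ⬝ᵥ r = 0

theorem Frame.swap (f : Frame M c d r φ φ₂ θ₁) : Frame M c r d φ₂ φ θ₁ :=
  ⟨f.dblc, f.dblr, f.dbld, f.tc₂, f.tc, f.tr, f.td, f.ac, f.ar, f.ad, f.φc, f.φr, f.φd, f.bc, f.br, f.bd⟩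

theorem Frame.coords (f : Frame M c d r φ φ₂ θ₁) {x y z : F} {v : V} (h : x • c + y • d + z • r = v) :
    x = θ₁ ⬝ᵥ v ∧ y = φ₂ ⬝ᵥ v ∧ z = φ ⬝ᵥ v := by
  subst h
  simp [dotProduct_add, dotProduct_smul, f.φc, f.φd, f.φr, f.ac, f.ad, f.ar, f.bc, f.bd, f.br]

theorem Frame.indep (f : Frame M c d r φ φ₂ θ₁) {x y z : F} (h : x • c + y • d + z • r = 0) :
    x = 0 ∧ y = 0 ∧ z = 0 := by
  obtain ⟨h1, h2, h3⟩ := f.coords h
  simp at h1 h2 h3
  exact ⟨h1, h2, h3⟩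

theorem Frame.decomp (f : Frame M c d r φ φ₂ θ₁) (v : V) :
    (θ₁ ⬝ᵥ v) • c + (φ₂ ⬝ᵥ v) • d + (φ ⬝ᵥ v) • r = v := by
  obtain ⟨D, hD⟩ := exists_columns (fun x y z h => f.indep h : ∀ x y z : F, x • c + y • d + z • r = 0 →
    x = 0 ∧ y = 0 ∧ z = 0)
  obtain ⟨w, hw⟩ : ∃ w, w = ((D⁻¹ : GL (Fin 3) F) : M₃) *ᵥ v := ⟨_, rfl⟩
  have hv : w 0 • c + w 1 • d + w 2 • r = v := by
    have hy : w = w 0 • Pi.single 0 1 + w 1 • Pi.single 1 1 + w 2 • Pi.single 2 1 := by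
      funext i; fin_cases i <;> simp
    have h1 : (D : M₃) *ᵥ w = v := by rw [hw, mulVec_inv_cancel]
    rw [hy, Matrix.mulVec_add, Matrix.mulVec_add, Matrix.mulVec_smul, Matrix.mulVec_smul, Matrix.mulVec_smul, hD,
      hD, hD] at h1
    simpa using h1
  obtain ⟨h1, h2, h3⟩ := f.coords hv
  rw [← h1, ← h2, ← h3, hv]

theorem Frame.indep_cd (f : Frame M c d r φ φ₂ θ₁) : Indep c d :=
  indep_of_not_mem f.dblc.1 fun t e => by
    have := f.ad
    rw [e, dotProduct_smul, f.ac, smul_zero] at this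
    exact zero_ne_one this

theorem Frame.indep_dr (f : Frame M c d r φ φ₂ θ₁) : Indep d r :=
  indep_of_not_mem f.dbld.1 fun t e => by
    have := f.φr
    rw [e, dotProduct_smul, f.φd, smul_zero] at this
    exact zero_ne_one this

theorem Small.exists_frame' (h : Small K M) (hc : Dbl M c) :
    ∃ d r φ φ₂ θ₁, Frame M c d r φ φ₂ θ₁ := by
  obtain ⟨-, θ, θ', ht, ht', hind⟩ := id hc
  have hθ : θ ≠ 0 := hind.ne_zero
  obtain ⟨d₀, hd₀, -, hd₀0, hi₀⟩ := h.exists_other hc hθ ht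
  obtain ⟨t, ht0, hd, htd, hi⟩ := h.exists_normalised hd₀ hi₀ ht hd₀0
  obtain ⟨φ₂, h2, h2d⟩ := hc.exists_axis h.over' hi
  have hφ₂ : φ₂ ≠ 0 := fun e => h2d (by rw [e, zero_dotProduct])
  obtain ⟨r₀, hr₀, -, hr₀0, hi₁⟩ := h.exists_other hc hφ₂ h2
  obtain ⟨s, hs0, hr, htr, hi'⟩ := h.exists_normalised hr₀ hi₁ h2 hr₀0
  obtain ⟨d, hddef⟩ : ∃ d, d = t • d₀ := ⟨_, rfl⟩
  obtain ⟨r, hrdef⟩ : ∃ r, r = s • r₀ := ⟨_, rfl⟩
  rw [← hddef] at hd htd hi h2d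
  rw [← hrdef] at hr htr hi'
  have had : φ₂ ⬝ᵥ d = 1 := by
    rw [show φ₂ ⬝ᵥ d = φ₂ ⬝ᵥ d from rfl]
    exact (h.step hd hc hi.symm hθ htd ht h2 h2d).1
  have hnr : θ ⬝ᵥ r ≠ 0 := fun e => by
    obtain ⟨a, ha⟩ := hi'.functional hφ₂ (h.over'.dot_eq_zero h2) (h.over'.dot_eq_zero htr)
      (h.over'.dot_eq_zero ht) e
    have h1 := h.over'.dot_eq_zero htd
    rw [ha, smul_dotProduct, had, smul_eq_mul, mul_one] at h1
    exact hθ (by rw [ha, h1, zero_smul])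
  have hθr : θ ⬝ᵥ r = 1 := (h.step hr hc hi'.symm hφ₂ htr h2 ht hnr).1
  have hind3 : ∀ x y z : F, x • c + y • d + z • r = 0 → x = 0 ∧ y = 0 ∧ z = 0 := fun x y z e => by
    have h1 := congrArg (θ ⬝ᵥ ·) e
    have h3 := congrArg (φ₂ ⬝ᵥ ·) e
    simp [dotProduct_add, dotProduct_smul, h.over'.dot_eq_zero ht, h.over'.dot_eq_zero htd, hθr] at h1
    simp [dotProduct_add, dotProduct_smul, h.over'.dot_eq_zero h2, h.over'.dot_eq_zero htr, had] at h3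
    rw [h1, h3, zero_smul, zero_smul, add_zero, add_zero] at e
    exact ⟨(smul_eq_zero.1 e).resolve_right hc.1, h3, h1⟩
  obtain ⟨D, hD⟩ := exists_columns hind3
  refine ⟨d, r, θ, φ₂, (e 0 : V) ᵥ* ((D⁻¹ : GL (Fin 3) F) : M₃), hc, hd, hr, ht, h2, htd, htr,
    h.over'.dot_eq_zero ht, h.over'.dot_eq_zero htd, hθr, h.over'.dot_eq_zero h2, had,
    h.over'.dot_eq_zero htr, ?_, ?_, ?_⟩
  · have := vecMul_inv_dot D (e 0 : V) (Pi.single 0 1)
    rw [hD] at this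
    simpa [e_dot, e] using this
  · have := vecMul_inv_dot D (e 0 : V) (Pi.single 1 1)
    rw [hD] at this
    simpa [e_dot, e] using this
  · have := vecMul_inv_dot D (e 0 : V) (Pi.single 2 1)
    rw [hD] at this
    simpa [e_dot, e] using this

/-- The sixth root would give the special linear group. -/
theorem Frame.not_root (f : Frame M c d r φ φ₂ θ₁) (h : Small K M) : ¬ MaxTv.InT M d θ₁ := fun h21 => by
  obtain ⟨g₁, hg₁, hx₁⟩ := id f.td
  obtain ⟨g₂, hg₂, hx₂⟩ := id f.tr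
  obtain ⟨w, hw, hwx⟩ : ∃ w ∈ M, (w : M₃) = (g₁ : M₃) * ((g₂ : M₃) * (g₁ : M₃)) :=
    ⟨g₁ * (g₂ * g₁), mul_mem hg₁ (mul_mem hg₂ hg₁), by rw [Units.val_mul, Units.val_mul]⟩
  have hwc : (w : M₃) *ᵥ c = c := by
    rw [hwx, ← Matrix.mulVec_mulVec, ← Matrix.mulVec_mulVec, hx₁ c, f.φc, zero_smul, add_zero, hx₂ c, f.ac,
      zero_smul, add_zero, hx₁ c, f.φc, zero_smul, add_zero]
  have hwd : (w : M₃) *ᵥ d = r := by
    rw [hwx, ← Matrix.mulVec_mulVec, ← Matrix.mulVec_mulVec, hx₁ d, f.φd, zero_smul, add_zero, hx₂ d, f.ad,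
      one_smul, hx₁, dotProduct_add, f.φd, f.φr, zero_add, one_smul, add_comm d r, add_assoc, add_self_v,
      add_zero]
  have hwr : (w : M₃) *ᵥ r = d := by
    rw [hwx, ← Matrix.mulVec_mulVec, ← Matrix.mulVec_mulVec, hx₁ r, f.φr, one_smul, hx₂ (r + d), dotProduct_add, f.ar,
      f.ad, zero_add, one_smul, add_comm r d, add_assoc, add_self_v, add_zero, hx₁, f.φd, zero_smul, add_zero]
  have h31 := h21.conj hw
  rw [hwd] at h31
  obtain ⟨η, hη⟩ : ∃ η, η = θ₁ ᵥ* ((w⁻¹ : GL (Fin 3) F) : M₃) := ⟨_, rfl⟩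
  rw [← hη] at h31
  have hηd : η ⬝ᵥ d = 0 := by rw [hη, ← hwr, vecMul_inv_dot, f.br]
  have hηc : η ⬝ᵥ c = 1 := by rw [hη, ← hwc, vecMul_inv_dot, f.bc]
  refine h.proper (h.over'.top_of_six h.eight (a := c) (b := d) (c := r) (fun x y z e => f.indep e)
    fun i j k hij hik hjk => ?_)
  have hφ0 : φ ≠ 0 := fun e => by simpa [e] using f.φr
  have ha0 : φ₂ ≠ 0 := fun e => by simpa [e] using f.ad
  have hb0 : θ₁ ≠ 0 := fun e => by simpa [e] using f.bc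
  have hη0 : η ≠ 0 := fun e => by simpa [e] using hηc
  fin_cases i <;> fin_cases k <;> try exact absurd rfl hik
  · exact ⟨φ, hφ0, f.tc, f.φd⟩
  · exact ⟨φ₂, ha0, f.tc₂, f.ar⟩
  · exact ⟨φ, hφ0, f.td, f.φc⟩
  · exact ⟨θ₁, hb0, h21, f.br⟩
  · exact ⟨φ₂, ha0, f.tr, f.ac⟩
  · exact ⟨η, hη0, h31, hηd⟩

/-- The coefficient at `r` satisfies the equation of the field of four elements. -/
theorem Frame.quad (f : Frame M c d r φ φ₂ θ₁) (h : Small K M) :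
    ∃ ψ b, MaxTv.InT M d ψ ∧ ψ ⬝ᵥ c = 1 ∧ ψ ⬝ᵥ d = 0 ∧ ψ ⬝ᵥ r = b ∧ b ^ 2 = b + 1 := by
  classical
  have hφ : φ ≠ 0 := fun e => by simpa [e] using f.φr
  have hb : θ₁ ≠ 0 := fun e => by simpa [e] using f.bc
  obtain ⟨ψ, hψ, hψc⟩ := f.dbld.exists_axis h.over' f.indep_cd.symm
  have hc1 : ψ ⬝ᵥ c = 1 := (h.step f.dblc f.dbld f.indep_cd hφ f.tc f.td hψ hψc).1
  have hψd := h.over'.dot_eq_zero hψ
  obtain ⟨b, hbdef⟩ : ∃ b, b = ψ ⬝ᵥ r := ⟨_, rfl⟩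
  refine ⟨ψ, b, hψ, hc1, hψd, hbdef.symm, ?_⟩
  have hroot : ∀ η, MaxTv.InT M d η → η ⬝ᵥ c = 1 → η ⬝ᵥ r ≠ 0 := fun η hη h1 h0 => f.not_root h (by
    have : η = θ₁ := dotProduct_eq _ _ fun z => by
      rw [← f.decomp z]
      simp only [dotProduct_add, dotProduct_smul, h1, h0, h.over'.dot_eq_zero hη, f.bc, f.bd, f.br]
    rwa [this] at hη)
  have hb0 : b ≠ 0 := hbdef ▸ hroot ψ hψ hc1
  have hb1 : b ≠ 1 := fun e => hroot (ψ + φ) (hψ.add_right f.td hψd)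
    (by rw [add_dotProduct, hc1, f.φc, add_zero])
    (by rw [add_dotProduct, ← hbdef, e, f.φr, CharTwo.add_self_eq_zero])
  obtain ⟨G, hG⟩ : ∃ G, G = (pairGroup M d r 0).map proj := ⟨_, rfl⟩
  have h1U : (1 : F) ∈ upSet G := by
    have := up_mem (c := d) (d := r) f.td f.φd
    rw [f.φr] at this
    exact hG ▸ Subgroup.mem_map_of_mem _ this
  have hbU : b ∈ upSet G := by
    have := up_mem (c := d) (d := r) hψ hψd
    rw [← hbdef] at this
    exact hG ▸ Subgroup.mem_map_of_mem _ this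
  have h3 : 3 ≤ Nat.card (upSet G) := by
    have h3' : ({0, 1, b} : Finset F).card = 3 :=
      Finset.card_eq_three.2 ⟨_, _, _, zero_ne_one, Ne.symm hb0, Ne.symm hb1, rfl⟩
    rw [← h3', ← Nat.card_eq_finsetCard]
    refine Nat.card_le_card_of_injective (fun z : ({0, 1, b} : Finset F) => (⟨z.1, ?_⟩ : upSet G))
      fun x y e => Subtype.ext (congrArg (fun w : upSet G => (w : F)) e)
    have hz := z.2
    simp only [Finset.mem_insert, Finset.mem_singleton] at hz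
    rcases hz with hz | hz | hz <;> rw [hz]
    · exact zero_mem _
    · exact h1U
    · exact hbU
  have hlow := low_mem (c := d) (d := r) f.tr f.ar
  rw [f.ad] at hlow
  have hsub := subfield_of_pair (hG ▸ h3) hlow one_ne_zero
  rw [← hG] at hsub
  obtain ⟨K₂, c₀, -, hc₀, hmem, -⟩ := exists_frame hsub h1U one_ne_zero
  have hbK : b ∈ K₂ := by
    have := div_mem ((hmem _).1 hbU) ((hmem _).1 h1U)
    rwa [div_div_div_cancel_right₀ hc₀, div_one] at this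
  have hbb : b * b ∈ upSet G := (hmem _).2 (by
    rw [mul_div_assoc]; exact mul_mem hbK ((hmem _).1 hbU))
  obtain ⟨g, hg, hgd, hgr, hgθ, hgθ'⟩ := lift_up h.over' f.indep_dr hb f.bd f.br (hG ▸ hbb)
  obtain ⟨α, hα⟩ : ∃ α, α = φ₂ ⬝ᵥ ((g : M₃) *ᵥ c) := ⟨_, rfl⟩
  obtain ⟨β, hβ⟩ : ∃ β, β = φ ⬝ᵥ ((g : M₃) *ᵥ c) := ⟨_, rfl⟩
  have hgc : (g : M₃) *ᵥ c = c + α • d + β • r := by
    conv_lhs => rw [← f.decomp ((g : M₃) *ᵥ c)]
    rw [hgθ, f.bc, one_smul, ← hα, ← hβ]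
  have hgen : ∀ z : V, (g : M₃) *ᵥ z =
      z + ((α • θ₁ + (b * b) • φ) ⬝ᵥ z) • d + (β * (θ₁ ⬝ᵥ z)) • r := fun z => by
    conv_lhs => rw [← f.decomp z, Matrix.mulVec_add, Matrix.mulVec_add, Matrix.mulVec_smul, Matrix.mulVec_smul,
      Matrix.mulVec_smul, hgc, hgd, hgr]
    conv_rhs => arg 1; arg 1; rw [← f.decomp z]
    rw [add_dotProduct, smul_dotProduct, smul_dotProduct, smul_eq_mul, smul_eq_mul]
    module
  have hfour : ∀ η, MaxTv.InT M d η → η = 0 ∨ η = φ ∨ η = ψ ∨ η = ψ + φ := fun η hη =>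
    h.axis_cases f.dbld f.dblc f.indep_cd.symm hφ f.td f.φc hψ (by rw [hc1]; exact one_ne_zero) hη
  have hβ0 : β = 0 := by
    have hsq : MaxTv.InT M d ((β * (b * b)) • θ₁) := by
      refine ⟨g * g, mul_mem hg hg, fun z => ?_⟩
      rw [Units.val_mul, ← Matrix.mulVec_mulVec, hgen z, Matrix.mulVec_add, Matrix.mulVec_add,
        Matrix.mulVec_smul, Matrix.mulVec_smul, hgd, hgr, hgen z]
      simp only [smul_dotProduct, smul_eq_mul]
      match_scalars <;> ring_nf <;> simp [CharTwo.two_eq_zero]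
    by_contra hne
    have hval : ((β * (b * b)) • θ₁) ⬝ᵥ r = 0 := by rw [smul_dotProduct, f.br, smul_zero]
    rcases hfour _ hsq with e | e | e | e
    · exact smul_ne_zero (mul_ne_zero hne (mul_ne_zero hb0 hb0)) hb e
    · rw [e, f.φr] at hval; exact one_ne_zero hval
    · rw [e, ← hbdef] at hval; exact hb0 hval
    · rw [e, add_dotProduct, ← hbdef, f.φr, CharTwo.add_eq_zero] at hval; exact hb1 hval
  have hone : MaxTv.InT M d (α • θ₁ + (b * b) • φ) := ⟨g, hg, fun z => by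
    rw [hgen z, hβ0, zero_mul, zero_smul, add_zero]⟩
  have hval : (α • θ₁ + (b * b) • φ) ⬝ᵥ r = b * b := by
    rw [add_dotProduct, smul_dotProduct, smul_dotProduct, f.br, f.φr, smul_zero, zero_add, smul_eq_mul, mul_one]
  rw [sq]
  rcases hfour _ hone with e | e | e | e <;> rw [e] at hval
  · exact absurd (mul_self_eq_zero.1 (by rw [← hval, zero_dotProduct])) hb0
  · rw [f.φr] at hval
    exact absurd (sub_eq_zero.1 (mul_self_eq_zero.1 (show (b - 1) * (b - 1) = 0 by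
      linear_combination -hval - b * CharTwo.two_eq_zero (R := F) + CharTwo.two_eq_zero (R := F)))) hb1
  · rw [← hbdef] at hval
    exact absurd (mul_left_cancel₀ hb0 (by rw [← hval, mul_one])) hb1
  · rw [add_dotProduct, ← hbdef, f.φr] at hval
    exact hval.symm

end Cfsg.Agent.Classical.SLThree.Singer
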