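import Cfsg.Agent.Lib.Classical.SLThree.SingerField

/-!
Commutative groups and groups with scalar commutators that are invariant under a cubic field element.
-/

set_option autoImplicit false
set_option linter.unusedSectionVars false

namespace Cfsg.Agent.Classical.SLThree.Singer

open Matrix Module MaxTv SLThree

variable {F : Type*} [Field F]

local notation "V" => (Fin 3 → F)
local notation "M₃" => Matrix (Fin 3) (Fin 3) F

/-- Short orbits of a map of odd period have period one or three. -/
theorem iterate_three {α : Type*} {f : α → α} (hf : Function.Injective f) {x : α} {i j m : ℕ} (hij : i < j)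
    (hj : j ≤ i + 4) (h : f^[i] x = f^[j] x) (hm : Odd m) (hm' : f^[m] x = x) : f^[3] x = x := by
  have hper : Function.IsPeriodicPt f (j - i) x := by
    refine hf.iterate i ?_
    rw [← Function.iterate_add_apply, Nat.add_sub_cancel' hij.le, h]
  have hd1 := hper.minimalPeriod_dvd
  have hd2 : Function.minimalPeriod f x ∣ m := Function.IsPeriodicPt.minimalPeriod_dvd hm'
  have hle := Nat.le_of_dvd (by omega) hd1
  have hodd : Odd (Function.minimalPeriod f x) := by
    obtain ⟨t, ht⟩ := hd2
    rw [ht, Nat.odd_mul] at hm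
    exact hm.1
  refine Function.isPeriodicPt_iff_minimalPeriod_dvd.2 ?_
  have : Function.minimalPeriod f x ≤ 4 := by omega
  interval_cases (Function.minimalPeriod f x) <;> simp_all [Nat.odd_iff]

/-- Conjugation by `u`. -/
theorem conj_iterate {G : Type*} [Group G] (u x : G) (n : ℕ) :
    (fun z => u * z * u⁻¹)^[n] x = u ^ n * x * (u ^ n)⁻¹ := by
  induction n with
  | zero => simp
  | succ n ih => rw [Function.iterate_succ_apply', ih, pow_succ']; group

theorem conj_injective {G : Type*} [Group G] (u : G) : Function.Injective fun z : G => u * z * u⁻¹ :=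
  fun a b e => mul_left_cancel (a := u) (mul_right_cancel (b := u⁻¹) e)

theorem exists_of_injective_five {α : Type*} {f : Fin 5 → α} {β : Type*} [Fintype β] (g : α → β)
    (hβ : Fintype.card β < 5) : ∃ i j : Fin 5, i < j ∧ g (f i) = g (f j) := by
  obtain ⟨i, j, hij, h⟩ := Fintype.exists_ne_map_eq_of_card_lt (fun i => g (f i)) (by simpa using hβ)
  rcases lt_or_gt_of_ne hij with h' | h'
  · exact ⟨i, j, h', h⟩
  · exact ⟨j, i, h', h.symm⟩

variable {K : Subalgebra F (Matrix (Fin 3) (Fin 3) F)} {u : GL (Fin 3) F}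

/-- A commutative group invariant under a field element of odd order is in the field. -/
theorem mem_of_abelian (hK : Geo.IsFieldSubalgebra 3 K) (hu : u ∈ Kx K) {m : ℕ} (hm : Odd m) (hum : u ^ m = 1)
    (hns : ∀ s : F, ((u ^ 3 : GL (Fin 3) F) : M₃) ≠ s • 1) {N : Subgroup (GL (Fin 3) F)}
    (hab : ∀ a ∈ N, ∀ b ∈ N, a * b = b * a) (hinv : ∀ a ∈ N, u * a * u⁻¹ ∈ N) {x : GL (Fin 3) F}
    (hx : x ∈ N) : (x : M₃) ∈ K := by
  classical
  have hu1 : ∀ s : F, (u : M₃) ≠ s • 1 := fun s e => hns (s ^ 3) (by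
    rw [Units.val_pow_eq_pow_val, e, smul_pow, one_pow])
  have hu3K : ((u ^ 3 : GL (Fin 3) F) : M₃) ∈ K := (mem_Kx hK).1 (pow_mem hu 3)
  obtain ⟨A, hA⟩ : ∃ A, A = Algebra.adjoin F ((fun g : GL (Fin 3) F => (g : M₃)) '' N) := ⟨_, rfl⟩
  have hcommA : ∀ a ∈ A, ∀ b ∈ A, a * b = b * a := by
    have := Algebra.isMulCommutative_adjoin F
      (s := (fun g : GL (Fin 3) F => (g : M₃)) '' N) (by
        rintro _ ⟨a, ha, rfl⟩ _ ⟨b, hb, rfl⟩
        rw [← Units.val_mul, hab a ha b hb, Units.val_mul])
    subst hA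
    intro a ha b hb
    exact congrArg Subtype.val (this.is_comm.comm ⟨a, ha⟩ ⟨b, hb⟩)
  have hmemA : ∀ a ∈ N, (a : M₃) ∈ A := fun a ha => hA ▸ Algebra.subset_adjoin ⟨a, ha, rfl⟩
  by_cases hdom : ∀ a ∈ A, a ≠ 0 → ∀ z : V, a *ᵥ z = 0 → z = 0
  · -- a domain: at most three roots
    refine mem_of_commute hK hu3K hns ?_
    obtain ⟨P, hP⟩ : ∃ P, P = minpoly F (x : M₃) := ⟨_, rfl⟩
    have hPd : P.natDegree ≤ 3 := by
      rw [hP]
      refine (Polynomial.natDegree_le_of_dvd (Matrix.minpoly_dvd_charpoly _)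
        (Matrix.charpoly_monic _).ne_zero).trans ?_
      rw [Matrix.charpoly_natDegree_eq_dim, Fintype.card_fin]
    have hconjN : ∀ n : ℕ, u ^ n * x * (u ^ n)⁻¹ ∈ N := fun n => by
      rw [← conj_iterate]
      induction n with
      | zero => simpa using hx
      | succ n ih => rw [Function.iterate_succ_apply']; exact hinv _ ih
    letI : CommRing A := { (inferInstance : Ring A) with mul_comm := fun a b => Subtype.ext (hcommA a a.2 b b.2) }
    have : IsDomain A := by
      have : NoZeroDivisors A := ⟨fun {a b} e => by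
        by_contra hne
        push Not at hne
        refine hne.2 (Subtype.ext (Matrix.ext_iff_mulVec.2 fun z => ?_))
        show (b : M₃) *ᵥ z = (0 : M₃) *ᵥ z
        rw [Matrix.zero_mulVec]
        refine hdom a a.2 (fun e' => hne.1 (Subtype.ext e')) _ ?_
        rw [Matrix.mulVec_mulVec, ← Subalgebra.coe_mul, e]
        exact Matrix.zero_mulVec z⟩
      exact NoZeroDivisors.to_isDomain A
    obtain ⟨y, hy⟩ : ∃ y : Fin 4 → A, ∀ i : Fin 4, (y i : M₃) = ((u ^ (i : ℕ) * x * (u ^ (i : ℕ))⁻¹ :
      GL (Fin 3) F) : M₃) := ⟨fun i => ⟨_, hmemA _ (hconjN i)⟩, fun i => rfl⟩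
    obtain ⟨i, j, hij, he⟩ : ∃ i j : Fin 4, i < j ∧ y i = y j := by
      by_contra hc
      push Not at hc
      have hinj : Function.Injective y := fun i j e => by
        rcases lt_trichotomy i j with h | h | h
        · exact absurd e (hc i j h)
        · exact h
        · exact absurd e.symm (hc j i h)
      have hP0 : P.map (algebraMap F A) ≠ 0 :=
        (Polynomial.map_ne_zero_iff (algebraMap F A).injective).2 (hP ▸ minpoly.ne_zero (Matrix.isIntegral _))
      have hsub : Finset.univ.image y ⊆ (P.map (algebraMap F A)).roots.toFinset := fun z hz => by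
        obtain ⟨i, -, rfl⟩ := Finset.mem_image.1 hz
        rw [Multiset.mem_toFinset, Polynomial.mem_roots hP0, Polynomial.IsRoot.def, Polynomial.eval_map_algebraMap]
        refine Subtype.ext ?_
        have h1 : ((Polynomial.aeval (y i) P : A) : M₃) = Polynomial.aeval (y i : M₃) P :=
          (Polynomial.aeval_algHom_apply A.val (y i) P).symm
        rw [h1, hy i, hP]
        obtain ⟨w, hw⟩ : ∃ w : GL (Fin 3) F, w = u ^ (i : ℕ) := ⟨_, rfl⟩
        rw [← hw, Units.val_mul, Units.val_mul]
        let c : M₃ →ₐ[F] M₃ :=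
          { toFun := fun Z => (w : M₃) * Z * ((w⁻¹ : GL (Fin 3) F) : M₃)
            map_one' := by rw [mul_one, Units.mul_inv]
            map_mul' := fun a b => by simp [mul_assoc]
            map_zero' := by simp
            map_add' := fun a b => by simp [mul_add, add_mul]
            commutes' := fun t => by rw [← Algebra.commutes, mul_assoc, Units.mul_inv, mul_one] }
        show Polynomial.aeval (c (x : M₃)) (minpoly F (x : M₃)) = (0 : M₃)
        rw [Polynomial.aeval_algHom_apply, minpoly.aeval, map_zero]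
      have h3 := (Finset.card_le_card hsub).trans ((Multiset.toFinset_card_le _).trans
        ((Polynomial.card_roots' _).trans (Polynomial.natDegree_map_le.trans hPd)))
      rw [Finset.card_image_of_injective _ hinj, Finset.card_univ, Fintype.card_fin] at h3
      omega
    have he' : (fun z => u * z * u⁻¹)^[(i : ℕ)] x = (fun z => u * z * u⁻¹)^[(j : ℕ)] x := by
      rw [conj_iterate, conj_iterate]
      exact Units.ext (by rw [← hy, ← hy, he])
    have h3 := iterate_three (conj_injective u) (show (i : ℕ) < j from hij) (by omega) he' hm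
      (by rw [conj_iterate, hum]; simp)
    rw [conj_iterate, mul_inv_eq_iff_eq_mul] at h3
    rw [← Units.val_mul, ← Units.val_mul, h3]
  · -- an invariant line
    push Not at hdom
    obtain ⟨a, ha, ha0, z₀, hz₀, hz₀0⟩ := hdom
    obtain ⟨U, hU⟩ : ∃ U, U = LinearMap.ker (Matrix.toLin' a) := ⟨_, rfl⟩
    have hUz : ∀ z, z ∈ U ↔ a *ᵥ z = 0 := fun z => by rw [hU, LinearMap.mem_ker, Matrix.toLin'_apply]
    have hNU : ∀ g ∈ N, ∀ z ∈ U, (g : M₃) *ᵥ z ∈ U := fun g hg z hz => by
      rw [hUz] at hz ⊢
      rw [Matrix.mulVec_mulVec, hcommA a ha _ (hmemA g hg), ← Matrix.mulVec_mulVec, hz, Matrix.mulVec_zero]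
    have hz0U : z₀ ∈ U := (hUz _).2 hz₀
    have hUne : U ≠ ⊤ := fun e => ha0 (Matrix.ext_iff_mulVec.2 fun z => by
      rw [Matrix.zero_mulVec]; exact (hUz z).1 (e ▸ Submodule.mem_top))
    obtain ⟨W, hW1, hWN⟩ : ∃ W : Submodule F V, finrank F W = 1 ∧ ∀ g ∈ N, ∀ z ∈ W, (g : M₃) *ᵥ z ∈ W := by
      have hlt := Submodule.finrank_lt hUne
      rw [finrank_fin_fun] at hlt
      have hpos : 0 < finrank F U := Module.finrank_pos_iff_exists_ne_zero.2
        ⟨⟨z₀, hz0U⟩, fun e => hz₀0 (congrArg Subtype.val e)⟩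
      rcases (show finrank F U = 1 ∨ finrank F U = 2 by omega) with h1 | h2
      · exact ⟨U, h1, hNU⟩
      obtain ⟨U', hU'⟩ : ∃ U', U' = U.map (Matrix.toLin' (u : M₃)) := ⟨_, rfl⟩
      have hinj : Function.Injective (Matrix.toLin' (u : M₃)) := fun p q e => by
        rw [Matrix.toLin'_apply, Matrix.toLin'_apply] at e
        exact gl_mulVec_injective u e
      have hU'2 : finrank F U' = 2 := by
        rw [hU', ← (Submodule.equivMapOfInjective _ hinj U).finrank_eq, h2]
      have hne : U' ≠ U := fun e => hUne (eq_top_of_inv hK ((mem_Kx hK).1 hu) hu1 U (fun z hz => by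
        have hz' : (u : M₃) *ᵥ z ∈ U' := hU' ▸ ⟨z, hz, Matrix.toLin'_apply _ _⟩
        rwa [e] at hz') hz₀0 hz0U)
      have hNU' : ∀ g ∈ N, ∀ z ∈ U', (g : M₃) *ᵥ z ∈ U' := fun g hg z hz => by
        rw [hU'] at hz ⊢
        obtain ⟨w, hw, rfl⟩ := hz
        have hg' : u⁻¹ * g * u ∈ N := by
          have hpow : ∀ n : ℕ, u ^ n * g * (u ^ n)⁻¹ ∈ N := fun n => by
            rw [← conj_iterate]
            induction n with
            | zero => simpa using hg
            | succ n ih => rw [Function.iterate_succ_apply']; exact hinv _ ih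
          obtain ⟨t, ht⟩ := hm
          have := hpow (2 * t)
          rwa [show u ^ (2 * t) = u⁻¹ from eq_inv_of_mul_eq_one_left (by rw [← pow_succ, ← ht, hum]), inv_inv]
            at this
        refine ⟨((u⁻¹ * g * u : GL (Fin 3) F) : M₃) *ᵥ w, hNU _ hg' _ hw, ?_⟩
        rw [Matrix.toLin'_apply, Matrix.toLin'_apply, Units.val_mul, Units.val_mul, ← Matrix.mulVec_mulVec,
          ← Matrix.mulVec_mulVec, mulVec_inv_cancel]
      refine ⟨U ⊓ U', ?_, fun g hg z hz => ⟨hNU g hg z hz.1, hNU' g hg z hz.2⟩⟩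
      have hsum := Submodule.finrank_sup_add_finrank_inf_eq U U'
      have hsup : finrank F (U ⊔ U' : Submodule F V) ≤ 3 := (Submodule.finrank_le _).trans_eq (finrank_fin_fun F)
      have hlt2 : finrank F (U ⊓ U' : Submodule F V) < 2 := by
        by_contra hge
        push Not at hge
        have e1 : U ⊓ U' = U := Submodule.eq_of_le_of_finrank_le inf_le_left (by omega)
        exact hne (Submodule.eq_of_le_of_finrank_le (inf_eq_left.1 e1) (by omega)).symm
      omega
    obtain ⟨v, hv0, hWv⟩ := finrank_eq_one_iff'.1 hW1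
    have hv : (v : V) ≠ 0 := fun e => hv0 (Subtype.ext e)
    have heig : ∀ g : N, ∃ χ : F, ((g : GL (Fin 3) F) : M₃) *ᵥ (v : V) = χ • (v : V) := fun g => by
      obtain ⟨χ, hχ⟩ := hWv ⟨_, hWN g g.2 v v.2⟩
      exact ⟨χ, (congrArg Subtype.val hχ).symm⟩
    choose χ hχ using heig
    -- the characters along the orbit
    let sh : (N → F) → (N → F) := fun ψ g => ψ ⟨u * g * u⁻¹, hinv g g.2⟩
    have hsh : ∀ n : ℕ, ∀ g : N, ((g : GL (Fin 3) F) : M₃) *ᵥ (((u⁻¹ ^ n : GL (Fin 3) F) : M₃) *ᵥ (v : V)) =
        (sh^[n] χ) g • (((u⁻¹ ^ n : GL (Fin 3) F) : M₃) *ᵥ (v : V)) := fun n => by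
      induction n with
      | zero => intro g; simpa using hχ g
      | succ n ih =>
        intro g
        have h1 := ih ⟨u * g * u⁻¹, hinv g g.2⟩
        rw [Function.iterate_succ_apply']
        show _ = (sh^[n] χ) ⟨u * g * u⁻¹, hinv g g.2⟩ • _
        rw [pow_succ', Units.val_mul, ← Matrix.mulVec_mulVec, ← Matrix.mulVec_smul, ← h1]
        simp only [Matrix.mulVec_mulVec, ← Units.val_mul]
        congr 2
        group
    have hshinj : Function.Injective sh := fun ψ ψ' e => funext fun g => by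
      obtain ⟨t, ht⟩ := hm
      have hg' : ∀ n : ℕ, u ^ n * (g : GL (Fin 3) F) * (u ^ n)⁻¹ ∈ N := fun n => by
        rw [← conj_iterate]
        induction n with
        | zero => simp
        | succ n ih => rw [Function.iterate_succ_apply']; exact hinv _ ih
      have := congrFun e ⟨_, hg' (2 * t)⟩
      simp only [sh] at this
      have hgg : u * (u ^ (2 * t) * (g : GL (Fin 3) F) * (u ^ (2 * t))⁻¹) * u⁻¹ = g := by
        rw [show u ^ (2 * t) = u⁻¹ from eq_inv_of_mul_eq_one_left (by rw [← pow_succ, ← ht, hum])]; group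
      simpa only [hgg] using this
    have hpow : ∀ n : ℕ, ((u⁻¹ ^ n : GL (Fin 3) F) : M₃) ∈ K := fun n => (mem_Kx hK).1 (pow_mem (inv_mem hu) n)
    have hui : ∀ s : F, ((u⁻¹ ^ 3 : GL (Fin 3) F) : M₃) ≠ s • 1 := fun s e => by
      have hs : s ≠ 0 := fun h => (u⁻¹ ^ 3 : GL (Fin 3) F).ne_zero (by rw [e, h, zero_smul])
      refine hns s⁻¹ ?_
      have h1 : ((u ^ 3 : GL (Fin 3) F) : M₃) * ((u⁻¹ ^ 3 : GL (Fin 3) F) : M₃) = 1 := by
        rw [← Units.val_mul, inv_pow, mul_inv_cancel, Units.val_one]
      rw [e, Matrix.mul_smul, mul_one] at h1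
      rw [← h1, smul_smul, inv_mul_cancel₀ hs, one_smul]
    have hui1 : ∀ s : F, ((u⁻¹ : GL (Fin 3) F) : M₃) ≠ s • 1 := fun s e => hui (s ^ 3) (by
      rw [Units.val_pow_eq_pow_val, e, smul_pow, one_pow])
    have hthree : sh^[3] χ = χ := by
      have hper : sh^[m] χ = χ := funext fun g => by
        have h1 := hsh m g
        rw [inv_pow, hum, inv_one, Units.val_one, Matrix.one_mulVec, hχ g] at h1
        exact (smul_left_injective F hv h1).symm
      obtain ⟨i, j, hij, he⟩ : ∃ i j : Fin 4, i < j ∧ sh^[(i : ℕ)] χ = sh^[(j : ℕ)] χ := by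
        -- three eigenlines span
        have hspan := span_powers hK (hpow 1) (by simpa using hui1) hv
        have hin : ((u⁻¹ ^ 3 : GL (Fin 3) F) : M₃) *ᵥ (v : V) ∈ Submodule.span F (Set.range ![(v : V),
          ((u⁻¹ ^ 1 : GL (Fin 3) F) : M₃) *ᵥ (v : V),
          ((u⁻¹ ^ 1 : GL (Fin 3) F) : M₃) *ᵥ (((u⁻¹ ^ 1 : GL (Fin 3) F) : M₃) *ᵥ (v : V))]) :=
          hspan ▸ Submodule.mem_top
        obtain ⟨cf, hcf⟩ := (Submodule.mem_span_range_iff_exists_fun F).1 hin
        rw [Matrix.mulVec_mulVec, ← Units.val_mul, ← pow_add, Fin.sum_univ_three] at hcf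
        simp only [Matrix.cons_val_zero, Matrix.cons_val_one, Matrix.cons_val_two, Matrix.tail_cons,
          Matrix.head_cons] at hcf
        by_contra hc
        push Not at hc
        have hne : ∀ i : Fin 3, cf i = 0 := by
          intro i
          obtain ⟨g, hg⟩ : ∃ g : N, sh^[(i : ℕ)] χ g ≠ sh^[3] χ g := by
            by_contra hall
            push Not at hall
            exact hc i.castSucc 3 (Fin.castSucc_lt_last i) (funext hall)
          have h3 := hsh 3 g
          rw [← hcf] at h3
          simp only [Matrix.mulVec_add, Matrix.mulVec_smul] at h3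
          rw [hsh 1 g, hsh 2 g, hχ g] at h3
          have hlin : Submodule.span F (Set.range ![(v : V), ((u⁻¹ ^ 1 : GL (Fin 3) F) : M₃) *ᵥ (v : V),
            ((u⁻¹ ^ 1 : GL (Fin 3) F) : M₃) *ᵥ (((u⁻¹ ^ 1 : GL (Fin 3) F) : M₃) *ᵥ (v : V))]) = ⊤ := hspan
          have hli := linearIndependent_of_top_le_span_of_card_eq_finrank hlin.ge (by simp)
          rw [Matrix.mulVec_mulVec, ← Units.val_mul, ← pow_add] at hli
          have h4 := Fintype.linearIndependent_iff.1 hli
            (fun k => cf k * (sh^[(k : ℕ)] χ g - sh^[3] χ g)) (by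
              rw [Fin.sum_univ_three]
              simp only [Matrix.cons_val_zero, Matrix.cons_val_one, Matrix.cons_val_two, Matrix.tail_cons,
                Matrix.head_cons, mul_sub, sub_smul, Fin.val_zero, Fin.val_one, Fin.val_two,
                Function.iterate_zero, id_eq]
              simp only [smul_add, smul_smul] at h3
              simp only [mul_comm (cf _)]
              rw [← sub_eq_zero] at h3
              rw [← h3]
              module) i
          exact (mul_eq_zero.1 h4).resolve_right (sub_ne_zero.2 hg)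
        exact apply_ne_zero hv (show ((u⁻¹ ^ 3 : GL (Fin 3) F) : M₃) *ᵥ (v : V) = 0 by
          rw [← hcf, hne, hne, hne]; simp)
      exact iterate_three hshinj (show (i : ℕ) < j from hij) (by omega) he hm hper
    let E : Submodule F V :=
      { carrier := {z | ∀ g : N, ((g : GL (Fin 3) F) : M₃) *ᵥ z = χ g • z}
        add_mem' := fun {p q} hp hq g => by rw [Matrix.mulVec_add, hp g, hq g, smul_add]
        zero_mem' := fun g => by rw [Matrix.mulVec_zero, smul_zero]
        smul_mem' := fun t p hp g => by rw [Matrix.mulVec_smul, hp g, smul_comm] }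
    have hE : E = ⊤ := eq_top_of_inv hK (hpow 3) hui E (fun z hz g => by
      have hgN : u ^ 3 * (g : GL (Fin 3) F) * (u ^ 3)⁻¹ ∈ N := by
        rw [← conj_iterate]
        simp only [Function.iterate_succ_apply', Function.iterate_zero_apply]
        exact hinv _ (hinv _ (hinv _ g.2))
      have h2 : χ ⟨_, hgN⟩ = χ g := by
        conv_rhs => rw [← hthree]
        show _ = χ _
        congr 1
        exact Subtype.ext (by simp only [pow_succ, pow_zero, one_mul]; group)
      rw [← h2, ← Matrix.mulVec_smul, ← hz ⟨_, hgN⟩, Matrix.mulVec_mulVec, Matrix.mulVec_mulVec,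
        ← Units.val_mul, ← Units.val_mul]
      congr 2
      group) hv hχ
    have : (x : M₃) = χ ⟨x, hx⟩ • 1 := Matrix.ext_iff_mulVec.2 fun z => by
      rw [Matrix.smul_mulVec, Matrix.one_mulVec]
      exact (show z ∈ E from hE ▸ Submodule.mem_top) ⟨x, hx⟩
    rw [this]
    exact Subalgebra.smul_mem _ (one_mem _) _

end Cfsg.Agent.Classical.SLThree.Singer
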