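import Cfsg.Agent.Lib.Classical.SLThree.SingerOdd

/-!
Two-axis centres in characteristic two: the group induced on a common axis has few unipotent elements.
-/

set_option autoImplicit false
set_option linter.unusedSectionVars false

namespace Cfsg.Agent.Classical.SLThree.Singer

open Matrix Module MaxTv SLThree Cfsg.Agent.PSL2Spec

variable {F : Type*} [Field F] [Fintype F] {K : Subalgebra F (Matrix (Fin 3) (Fin 3) F)}
  {M : Subgroup (GL (Fin 3) F)} {c d φ : Fin 3 → F}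

local notation "V" => (Fin 3 → F)
local notation "M₃" => Matrix (Fin 3) (Fin 3) F
local notation "SL₂" => Matrix.SpecialLinearGroup (Fin 2) F
local notation "M₂" => Matrix (Fin 2) (Fin 2) F

/-- An element inducing determinant one on the zeros of `φ` fixes `φ`. -/
theorem fixes_axis (h : Over K M) (hi : Indep c d) (hφ : φ ≠ 0) (hφc : φ ⬝ᵥ c = 0) (hφd : φ ⬝ᵥ d = 0)
    {A : SL₂} {g : GL (Fin 3) F} (hg : g ∈ M)
    (hgz : ∀ z : Fin 2 → F, (g : M₃) *ᵥ (z 0 • c + z 1 • d) =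
      ((A : M₂) *ᵥ z) 0 • c + ((A : M₂) *ᵥ z) 1 • d) :
    (∀ x, φ ⬝ᵥ ((g : M₃) *ᵥ x) = φ ⬝ᵥ x) ∧ φ ᵥ* ((g⁻¹ : GL (Fin 3) F) : M₃) = φ := by
  obtain ⟨r, -, hr⟩ := exists_ker_dot (ψ := (0 : V)) (φ := φ) (fun t e => hφ (by rw [e, smul_zero])) 1
  obtain ⟨D, hD⟩ := exists_columns (a := c) (b := d) (c := r) fun x y z e => by
    have hz : z = 0 := by
      have := congrArg (φ ⬝ᵥ ·) e
      simpa [dotProduct_add, dotProduct_smul, hφc, hφd, hr] using this
    subst hz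
    rw [zero_smul, add_zero] at e
    obtain ⟨hx, hy⟩ := LinearIndependent.pair_iff.1 (indep_iff.1 hi) _ _ e
    exact ⟨hx, hy, rfl⟩
  have hexp : ∀ y : V, (D : M₃) *ᵥ y = y 0 • c + y 1 • d + y 2 • r := fun y => by
    have hy : y = y 0 • Pi.single 0 1 + y 1 • Pi.single 1 1 + y 2 • Pi.single 2 1 := by
      funext i; fin_cases i <;> simp
    conv_lhs => rw [hy, Matrix.mulVec_add, Matrix.mulVec_add, Matrix.mulVec_smul, Matrix.mulVec_smul,
      Matrix.mulVec_smul, hD, hD, hD]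
    simp
  have hc' : ((D⁻¹ : GL (Fin 3) F) : M₃) *ᵥ c = Pi.single 0 1 := by
    rw [← inv_mulVec_cancel D (Pi.single 0 1), hD]; simp
  have hd' : ((D⁻¹ : GL (Fin 3) F) : M₃) *ᵥ d = Pi.single 1 1 := by
    rw [← inv_mulVec_cancel D (Pi.single 1 1), hD]; simp
  obtain ⟨B, hB⟩ : ∃ B : GL (Fin 3) F, B = D⁻¹ * g * D := ⟨_, rfl⟩
  have hBe : ∀ i, (B : M₃) *ᵥ Pi.single i 1 = ((D⁻¹ : GL (Fin 3) F) : M₃) *ᵥ ((g : M₃) *ᵥ ![c, d, r] i) :=
    fun i => by rw [hB, Units.val_mul, Units.val_mul, ← Matrix.mulVec_mulVec, ← Matrix.mulVec_mulVec, hD]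
  have h0 : (B : M₃) *ᵥ Pi.single 0 1 = (A : M₂) 0 0 • Pi.single 0 1 + (A : M₂) 1 0 • Pi.single 1 1 := by
    rw [hBe]
    have := hgz ![1, 0]
    simp [Matrix.mulVec, dotProduct, Fin.sum_univ_two] at this
    have e1 : (g : M₃) *ᵥ c = (A : M₂) 0 0 • c + (A : M₂) 1 0 • d := by
      rw [← this]
    show ((D⁻¹ : GL (Fin 3) F) : M₃) *ᵥ ((g : M₃) *ᵥ c) = _
    rw [e1, Matrix.mulVec_add, Matrix.mulVec_smul, Matrix.mulVec_smul, hc', hd']
  have h1 : (B : M₃) *ᵥ Pi.single 1 1 = (A : M₂) 0 1 • Pi.single 0 1 + (A : M₂) 1 1 • Pi.single 1 1 := by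
    rw [hBe]
    have := hgz ![0, 1]
    simp [Matrix.mulVec, dotProduct, Fin.sum_univ_two] at this
    have e1 : (g : M₃) *ᵥ d = (A : M₂) 0 1 • c + (A : M₂) 1 1 • d := by
      rw [← this]
    show ((D⁻¹ : GL (Fin 3) F) : M₃) *ᵥ ((g : M₃) *ᵥ d) = _
    rw [e1, Matrix.mulVec_add, Matrix.mulVec_smul, Matrix.mulVec_smul, hc', hd']
  have hcol : ∀ i j, (B : M₃) i j = ((B : M₃) *ᵥ Pi.single j 1) i := fun i j => by
    rw [Matrix.mulVec_single_one]; rfl
  have b00 : (B : M₃) 0 0 = (A : M₂) 0 0 := by rw [hcol, h0]; simp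
  have b10 : (B : M₃) 1 0 = (A : M₂) 1 0 := by rw [hcol, h0]; simp
  have b20 : (B : M₃) 2 0 = 0 := by rw [hcol, h0]; simp
  have b01 : (B : M₃) 0 1 = (A : M₂) 0 1 := by rw [hcol, h1]; simp
  have b11 : (B : M₃) 1 1 = (A : M₂) 1 1 := by rw [hcol, h1]; simp
  have b21 : (B : M₃) 2 1 = 0 := by rw [hcol, h1]; simp
  have hdet : (B : M₃).det = 1 := by
    rw [hB, Units.val_mul, Units.val_mul, Matrix.det_units_conj', h.det hg]
  have hA : (A : M₂).det = 1 := A.2
  rw [Matrix.det_fin_two] at hA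
  rw [Matrix.det_fin_three, b00, b10, b20, b01, b11, b21] at hdet
  have b22 : (B : M₃) 2 2 = 1 := by linear_combination hdet - (B : M₃) 2 2 * hA
  have hfix : ∀ x, φ ⬝ᵥ ((g : M₃) *ᵥ x) = φ ⬝ᵥ x := fun x => by
    obtain ⟨y, rfl⟩ : ∃ y, x = (D : M₃) *ᵥ y := ⟨_, (mulVec_inv_cancel D x).symm⟩
    have hlast : ∀ w, φ ⬝ᵥ ((D : M₃) *ᵥ w) = w 2 := fun w => by
      rw [hexp, dotProduct_add, dotProduct_add, dotProduct_smul, dotProduct_smul, dotProduct_smul, hφc, hφd, hr]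
      simp
    have hgD : (g : M₃) *ᵥ ((D : M₃) *ᵥ y) = (D : M₃) *ᵥ ((B : M₃) *ᵥ y) := by
      rw [hB, Units.val_mul, Units.val_mul, ← Matrix.mulVec_mulVec, ← Matrix.mulVec_mulVec, mulVec_inv_cancel]
    rw [hgD, hlast, hlast, Matrix.mulVec, dotProduct, Fin.sum_univ_three, b20, b21, b22]
    ring
  refine ⟨hfix, dotProduct_eq _ _ fun z => ?_⟩
  rw [← Matrix.dotProduct_mulVec, ← hfix, mulVec_inv_cancel]

variable [CharP F 2]

theorem neg_eq_self_v (v : V) : -v = v := funext fun i => CharTwo.neg_eq (v i)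

theorem add_self_v (v : V) : v + v = 0 := funext fun i => CharTwo.add_self_eq_zero (v i)

theorem proj_lift {G : Subgroup SL₂} {A : SL₂} (hA : proj A ∈ G.map proj) : A ∈ G := by
  obtain ⟨B, hB, e⟩ := hA
  rcases Cfsg.Agent.Dickson.proj_eq_iff.1 e with e' | e'
  · exact e' ▸ hB
  · have : A = B := by
      rw [e']
      exact Subtype.ext (Matrix.ext fun i j => by
        rw [Matrix.SpecialLinearGroup.coe_neg, Matrix.neg_apply, CharTwo.neg_eq])
    exact this ▸ hB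

theorem up_mem (hcd : MaxTv.InT M c φ) (hc : φ ⬝ᵥ c = 0) :
    Grp.SL2.up (φ ⬝ᵥ d) ∈ pairGroup M c d 0 := by
  obtain ⟨g, hg, hgx⟩ := hcd
  refine ⟨g, hg, fun z => ?_, by simp⟩
  obtain ⟨e0, e1⟩ := up_mulVec (φ ⬝ᵥ d) z
  rw [hgx, dotProduct_add, dotProduct_smul, dotProduct_smul, hc, e0, e1, smul_eq_mul, smul_eq_mul]
  module

theorem low_mem (hcd : MaxTv.InT M d φ) (hd : φ ⬝ᵥ d = 0) :
    Grp.SL2.low (φ ⬝ᵥ c) ∈ pairGroup M c d 0 := by
  obtain ⟨g, hg, hgx⟩ := hcd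
  refine ⟨g, hg, fun z => ?_, by simp⟩
  obtain ⟨e0, e1⟩ := low_mulVec (φ ⬝ᵥ c) z
  rw [hgx, dotProduct_add, dotProduct_smul, dotProduct_smul, hd, e0, e1, smul_eq_mul, smul_eq_mul]
  module

theorem lift_up (h : Over K M) (hi : Indep c d) (hφ : φ ≠ 0) (hφc : φ ⬝ᵥ c = 0) (hφd : φ ⬝ᵥ d = 0) {x : F}
    (hx : x ∈ upSet ((pairGroup M c d 0).map proj)) :
    ∃ g ∈ M, (g : M₃) *ᵥ c = c ∧ (g : M₃) *ᵥ d = x • c + d ∧
      (∀ y, φ ⬝ᵥ ((g : M₃) *ᵥ y) = φ ⬝ᵥ y) ∧ φ ᵥ* ((g⁻¹ : GL (Fin 3) F) : M₃) = φ := by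
  obtain ⟨g, hg, hgz, -⟩ := proj_lift hx
  obtain ⟨f1, f2⟩ := fixes_axis h hi hφ hφc hφd hg hgz
  refine ⟨g, hg, ?_, ?_, f1, f2⟩
  · have := hgz ![1, 0]
    obtain ⟨e0, e1⟩ := up_mulVec x ![1, 0]
    rw [e0, e1] at this
    simpa using this
  · have := hgz ![0, 1]
    obtain ⟨e0, e1⟩ := up_mulVec x ![0, 1]
    rw [e0, e1] at this
    simpa using this

theorem subfield_of_pair {x : F} (hx : 3 ≤ Nat.card (upSet ((pairGroup M c d 0).map proj)))
    (hl : Grp.SL2.low x ∈ pairGroup M c d 0) (hx0 : x ≠ 0) :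
    Cfsg.Agent.Dickson.SubfieldType ((pairGroup M c d 0).map proj) := by
  haveI : Fact (Nat.Prime 2) := ⟨Nat.prime_two⟩
  refine (subfieldType_or_small 2 _ hx (y := Grp.SL2.low x) (Subgroup.mem_map_of_mem _ hl) ?_).resolve_right
    fun h => absurd h.1 (by norm_num)
  simp [Grp.SL2.low]
  exact hx0

/-- Many unipotent elements on a common axis give the special linear group. -/
theorem top_of_many (h : Over K M) (h8 : 8 ≤ Fintype.card F) (hc : Dbl M c) (hd : Dbl M d) (hi : Indep c d)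
    (hφ : φ ≠ 0) (ht : MaxTv.InT M c φ) (hφd : φ ⬝ᵥ d = 0)
    (hbig : 3 ≤ Nat.card (upSet ((pairGroup M c d 0).map proj))) : Geo.specialLinear (Fin 3) F ≤ M := by
  classical
  have hφc := h.dot_eq_zero ht
  obtain ⟨φ₂, hφ₂, hφ₂d⟩ := hc.exists_axis h hi
  obtain ⟨ψ, hψ, hψc⟩ := hd.exists_axis h hi.symm
  obtain ⟨t, ht0, htd⟩ := hd.common_axis h hi ht hφd
  have hsub := subfield_of_pair hbig (low_mem hψ (h.dot_eq_zero hψ)) hψc
  obtain ⟨G, hG⟩ : ∃ G, G = (pairGroup M c d 0).map proj := ⟨_, rfl⟩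
  rw [← hG] at hbig hsub
  have hx₀ : φ₂ ⬝ᵥ d ∈ upSet G := hG ▸ Subgroup.mem_map_of_mem _ (up_mem hφ₂ (h.dot_eq_zero hφ₂))
  have hmove : ∀ x ∈ upSet G, MaxTv.InT M (x • c + d) (t • φ) ∧ Dbl M (x • c + d) := fun x hx => by
    obtain ⟨g, hg, -, hgd, -, hgφ⟩ := lift_up h hi hφ hφc hφd (hG ▸ hx)
    have h1 := htd.conj hg
    rw [hgd, Matrix.smul_vecMul, hgφ] at h1
    exact ⟨h1, hgd ▸ hd.conj hg⟩
  obtain ⟨K', P, hK3, h'⟩ := hsub
  have hle : G.map Matrix.ProjectiveSpecialLinearGroup.toPGL ≤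
      ((Cfsg.Agent.Dickson.pglMap K'.subtype).range).map
        (MulAut.conj (Matrix.ProjGenLinGroup.mk P)).toMonoidHom := by
    rcases h' with h' | h' <;> rw [h']
    exact Subgroup.map_mono (Cfsg.Agent.Dickson.pslImg_le _)
  by_cases hK : K' = ⊤
  · subst hK
    haveI := Cfsg.Agent.Dickson.finite_pgl (F := F)
    have hge : ((Cfsg.Agent.Dickson.pslImg (Subfield.subtype (⊤ : Subfield F))).map
        (MulAut.conj (Matrix.ProjGenLinGroup.mk P)).toMonoidHom) ≤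
          G.map Matrix.ProjectiveSpecialLinearGroup.toPGL := by
      rcases h' with h' | h' <;> rw [h']
      exact Subgroup.map_mono (Cfsg.Agent.Dickson.pslImg_le _)
    obtain ⟨j⟩ := Cfsg.Agent.Dickson.nonempty_pslImg (Subfield.subtype (⊤ : Subfield F))
    obtain ⟨k⟩ := Cfsg.Agent.Dickson.nonempty_psl_congr (Subfield.topEquiv : (⊤ : Subfield F) ≃+* F)
    have htop : G = ⊤ := by
      refine Subgroup.eq_top_of_le_card _ ?_
      calc Nat.card (Matrix.ProjectiveSpecialLinearGroup (Fin 2) F)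
          = Nat.card (Cfsg.Agent.Dickson.pslImg (Subfield.subtype (⊤ : Subfield F))) :=
            (Nat.card_congr (j.trans k).toEquiv).symm
        _ = Nat.card ((Cfsg.Agent.Dickson.pslImg (Subfield.subtype (⊤ : Subfield F))).map
            (MulAut.conj (Matrix.ProjGenLinGroup.mk P)).toMonoidHom) :=
          (Subgroup.card_map_of_injective (MulAut.conj (Matrix.ProjGenLinGroup.mk P)).injective).symm
        _ ≤ Nat.card (G.map Matrix.ProjectiveSpecialLinearGroup.toPGL) :=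
          Nat.card_le_card_of_injective _ (Subgroup.inclusion_injective hge)
        _ = Nat.card G := Subgroup.card_map_of_injective Matrix.ProjectiveSpecialLinearGroup.toPGL_injective
    refine specialLinear_le_of_root h.irr hc.1 hφ hφc fun a => ?_
    have hx : a / t ∈ upSet G := by
      show proj _ ∈ G
      rw [htop]; exact Subgroup.mem_top _
    have h2 := (hmove _ hx).1.add_left htd (by rw [smul_dotProduct, hφd, smul_zero])
    rw [add_assoc, add_self_v, add_zero] at h2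
    have h3 := h2.scale_right
    rwa [smul_smul, div_mul_cancel₀ a ht0] at h3
  exfalso
  haveI := Fintype.ofFinite K'
  have hrat : ∀ e, Dbl M e → φ ⬝ᵥ e = 0 → ∀ v : Fin 2 → F, e = v 0 • c + v 1 • d →
      ∃ (w : Fin 2 → K') (s : F), w ≠ 0 ∧ ((P⁻¹ : GL (Fin 2) F) : M₂) *ᵥ v = s • fun i => (w i : F) := by
    intro e he hφe v hv
    obtain ⟨θ, hθ, hne⟩ : ∃ θ, MaxTv.InT M e θ ∧ (θ ⬝ᵥ c ≠ 0 ∨ θ ⬝ᵥ d ≠ 0) := by
      by_cases hec : Indep e c
      · obtain ⟨θ, h1, h2⟩ := he.exists_axis h hec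
        exact ⟨θ, h1, Or.inl h2⟩
      · obtain ⟨θ, h1, h2⟩ := he.exists_axis h (d := d) (indep_of_not_mem he.1 fun t hd' => hec
          (indep_of_not_mem he.1 fun t' hc' => hi.not_smul (t / t') (by
            have ht' : t' ≠ 0 := fun e' => hc.1 (by rw [hc', e', zero_smul])
            rw [hd', hc', smul_smul, div_mul_cancel₀ _ ht'])))
        exact ⟨θ, h1, Or.inr h2⟩
    have hθe := h.dot_eq_zero hθ
    obtain ⟨a, ha⟩ : ∃ a, a = θ ⬝ᵥ c := ⟨_, rfl⟩
    obtain ⟨b, hb⟩ : ∃ b, b = θ ⬝ᵥ d := ⟨_, rfl⟩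
    rw [← ha, ← hb] at hne
    have hsum : a * v 0 + b * v 1 = 0 := by
      rw [hv, dotProduct_add, dotProduct_smul, dotProduct_smul, ← ha, ← hb, smul_eq_mul, smul_eq_mul] at hθe
      linear_combination hθe
    obtain ⟨A, hA⟩ : ∃ A : SL₂, (A : M₂) = !![1 + v 0 * a, v 0 * b; v 1 * a, 1 + v 1 * b] :=
      ⟨⟨!![1 + v 0 * a, v 0 * b; v 1 * a, 1 + v 1 * b], by
        rw [Matrix.det_fin_two_of]; linear_combination hsum⟩, rfl⟩
    have hAm : A ∈ pairGroup M c d 0 := by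
      obtain ⟨g, hg, hgx⟩ := hθ
      refine ⟨g, hg, fun z => ?_, by simp⟩
      rw [hgx, dotProduct_add, dotProduct_smul, dotProduct_smul, ← ha, ← hb, hv, hA]
      simp [Matrix.vecHead, Matrix.vecTail]
      module
    refine exists_rational_fixed hle (hG ▸ Subgroup.mem_map_of_mem _ hAm)
      (by rw [hA, Matrix.trace_fin_two_of]; linear_combination hsum) (fun e1 => ?_) ?_
    · have e2 := hA
      rw [e1, Matrix.SpecialLinearGroup.coe_one] at e2
      have p00 := congrFun (congrFun e2 0) 0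
      have p01 := congrFun (congrFun e2 0) 1
      have p10 := congrFun (congrFun e2 1) 0
      have p11 := congrFun (congrFun e2 1) 1
      simp at p00 p01 p10 p11
      have hv0 : v 0 ≠ 0 ∨ v 1 ≠ 0 := by
        by_contra hz
        push Not at hz
        exact he.1 (by rw [hv, hz.1, hz.2, zero_smul, zero_smul, add_zero])
      grind
    · funext i
      rw [hA]
      fin_cases i <;> simp [Matrix.vecHead, Matrix.vecTail]
      · linear_combination v 0 * hsum
      · linear_combination v 1 * hsum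
  have hbound : ∀ e, Dbl M e → φ ⬝ᵥ e = 0 → (lines K e φ).ncard ≤ Nat.card K' + 1 := by
    intro e he _
    have hP1 : Nat.card (Projectivization K' (Fin 2 → K')) = Nat.card K' + 1 :=
      Projectivization.card_of_finrank_two _ _ (by simp)
    rw [← hP1, ← Nat.card_coe_set_eq]
    have hex : ∀ p : lines K e φ, ∃ (w : Fin 2 → K') (hw : w ≠ 0) (s : F) (v : Fin 2 → F),
        p.1.rep = v 0 • c + v 1 • d ∧ ((P⁻¹ : GL (Fin 2) F) : M₂) *ᵥ v = s • fun i => (w i : F) := by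
      intro p
      obtain ⟨x, y, hxy⟩ := hi.exists_comb hφ hφc hφd p.2.1
      obtain ⟨w, s, hw, hws⟩ := hrat _ (he.orb h p.2.2) p.2.1 ![x, y] (by simpa using hxy)
      exact ⟨w, hw, s, ![x, y], by simpa using hxy, hws⟩
    choose w hw s v hv hws using hex
    refine Nat.card_le_card_of_injective (fun p => Projectivization.mk K' (w p) (hw p)) fun p q e' => ?_
    obtain ⟨a, ha⟩ := (Projectivization.mk_eq_mk_iff' K' _ _ (hw p) (hw q)).1 e'
    have hP : ∀ p, v p = (P : M₂) *ᵥ (s p • fun i => (w p i : F)) := fun p => by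
      rw [← hws, mulVec_inv_cancel]
    have hs : ∀ p, s p ≠ 0 := fun p e0 => p.1.rep_nonzero (by rw [hv, hP, e0]; simp)
    have hpq : v p = (s p * a / s q) • v q := by
      rw [hP, hP, ← Matrix.mulVec_smul]
      congr 1
      funext i
      rw [← ha]
      simp only [Pi.smul_apply, smul_eq_mul, Subfield.coe_mul]
      field_simp [hs q]
    apply Subtype.ext
    rw [← p.1.mk_rep, ← q.1.mk_rep, mk_eq_mk]
    exact ⟨s p * a / s q, by rw [hv p, hv q, hpq]; simp [smul_add, smul_smul]⟩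
  obtain ⟨m, -, hm⟩ := FiniteField.card F 2
  have hsq := card_subfield hK
  rw [sq] at hsq
  obtain ⟨h16, hn, hoth⟩ := few_points h.deg hc.1 hφ (hbound c hc hφc) hsq hm h8
  have horb : ∀ e, Dbl M e → φ ⬝ᵥ e = 0 → Orb K c e := fun e he hφe => by
    rcases hoth e he.1 with h1 | h1
    · exact h1
    · have := (few_points h.deg he.1 hφ (hbound e he hφe) hsq hm h8).2.1
      omega
  obtain ⟨f, hf⟩ : ∃ f : Option (upSet G) → lines K c φ,
      ∀ o, (f o).1 = o.elim (Projectivization.mk F c hc.1) fun x => Projectivization.mk F _ (hmove x x.2).2.1 := by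
    refine ⟨fun o => ⟨o.elim (Projectivization.mk F c hc.1)
      fun x => Projectivization.mk F _ (hmove x x.2).2.1, ?_⟩, fun o => rfl⟩
    rcases o with _ | x
    · exact (mk_mem_lines h.deg hc.1).2 ⟨hφc, Orb.refl c⟩
    · have h0 : φ ⬝ᵥ ((x : F) • c + d) = 0 := by rw [dotProduct_add, dotProduct_smul, hφc, hφd, smul_zero, add_zero]
      exact (mk_mem_lines h.deg (hmove x x.2).2.1).2 ⟨h0, horb _ (hmove x x.2).2 h0⟩
  have hne : ∀ x : upSet G, Indep c ((x : F) • c + d) := fun x =>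
    indep_of_not_mem hc.1 fun r e' => hi.not_smul (r - (x : F)) (by
      rw [sub_smul, ← e']; abel)
  have hinj : Function.Injective f := fun o o' e' => by
    have e'' := congrArg Subtype.val e'
    rw [hf, hf] at e''
    rcases o with _ | x <;> rcases o' with _ | y
    · rfl
    · obtain ⟨r, hr⟩ := (mk_eq_mk (hmove y y.2).2.1 hc.1).1 e''.symm
      exact absurd hr.symm ((hne y).not_smul r)
    · obtain ⟨r, hr⟩ := (mk_eq_mk (hmove x x.2).2.1 hc.1).1 e''
      exact absurd hr.symm ((hne x).not_smul r)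
    · obtain ⟨r, hr⟩ := (mk_eq_mk (hmove x x.2).2.1 (hmove y y.2).2.1).1 e''
      have : (r * (y : F) - x) • c + (r - 1) • d = 0 := by
        linear_combination (norm := module) hr
      obtain ⟨h1, h2⟩ := LinearIndependent.pair_iff.1 (indep_iff.1 hi) _ _ this
      rw [sub_eq_zero.1 h2, one_mul] at h1
      exact congrArg some (Subtype.ext (sub_eq_zero.1 h1).symm)
  have h4 := Nat.card_le_card_of_injective f hinj
  rw [Finite.card_option, Nat.card_coe_set_eq, hn] at h4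
  omega

end Cfsg.Agent.Classical.SLThree.Singer
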