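import Cfsg.Agent.Lib.Classical.SLThree.SingerCount

/-!
The numbers of points of a line in the three orbits and their consequences.
-/

set_option autoImplicit false
set_option linter.unusedSectionVars false

namespace Cfsg.Agent.Classical.SLThree.Singer

open Matrix Module MaxTv SLThree

variable {F : Type*} [Field F] [Fintype F] {K : Subalgebra F (Matrix (Fin 3) (Fin 3) F)} {c φ : Fin 3 → F}

local notation "V" => (Fin 3 → F)
local notation "M₃" => Matrix (Fin 3) (Fin 3) F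

theorem cls_surjective (hK : Geo.IsFieldSubalgebra 3 K) : Function.Surjective (cls K) :=
  (QuotientGroup.mk'_surjective _).comp (detK_surjective hK)

theorem card_classes :
    Nat.card (Fˣ ⧸ (powMonoidHom 3 : Fˣ →* Fˣ).range) = (Fintype.card F - 1).gcd 3 := by
  classical
  rw [← Subgroup.index_eq_card, IsCyclic.index_powMonoidHom_range, Nat.card_eq_fintype_card, Fintype.card_units]

/-- The number of units with given class and `φ` zero. -/
noncomputable def cnt (K : Subalgebra F (Matrix (Fin 3) (Fin 3) F)) (c φ : Fin 3 → F)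
    (i : Fˣ ⧸ (powMonoidHom 3 : Fˣ →* Fˣ).range) : ℕ :=
  Nat.card {b : Kx K // φ ⬝ᵥ (((b : GL (Fin 3) F) : M₃) *ᵥ c) = 0 ∧ cls K b = i}

theorem cnt_cls (hK : Geo.IsFieldSubalgebra 3 K) (hc : c ≠ 0) (a : Kx K) :
    cnt K c φ (cls K a) = (Fintype.card F - 1) * (lines K (((a : GL (Fin 3) F) : M₃) *ᵥ c) φ).ncard :=
  ncard_lines_mul hK hc a

theorem cnt_one (hK : Geo.IsFieldSubalgebra 3 K) (hc : c ≠ 0) :
    cnt K c φ 1 = (Fintype.card F - 1) * (lines K c φ).ncard := by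
  have := cnt_cls (φ := φ) hK hc 1
  rwa [map_one, Subgroup.coe_one, Units.val_one, Matrix.one_mulVec] at this

theorem sum_cnt (hK : Geo.IsFieldSubalgebra 3 K) (hc : c ≠ 0) (hφ : φ ≠ 0)
    [Fintype (Fˣ ⧸ (powMonoidHom 3 : Fˣ →* Fˣ).range)] :
    ∑ i, cnt K c φ i = Fintype.card F ^ 2 - 1 := by
  classical
  rw [← card_plane hK hc hφ, ← Nat.card_congr (Equiv.sigmaFiberEquiv
    fun b : {b : Kx K // φ ⬝ᵥ (((b : GL (Fin 3) F) : M₃) *ᵥ c) = 0} => cls K b.1), Nat.card_sigma]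
  refine Finset.sum_congr rfl fun i _ => ?_
  exact (Nat.card_congr (Equiv.subtypeSubtypeEquivSubtypeInter
    (fun b : Kx K => φ ⬝ᵥ (((b : GL (Fin 3) F) : M₃) *ᵥ c) = 0) (fun b => cls K b = i))).symm

theorem sum_sq_cnt (hK : Geo.IsFieldSubalgebra 3 K) (hc : c ≠ 0) (hφ : φ ≠ 0)
    [Fintype (Fˣ ⧸ (powMonoidHom 3 : Fˣ →* Fˣ).range)] :
    ∑ i, cnt K c φ i ^ 2 + (Fintype.card F - 1) * (Fintype.card F - 1) =
      (Fintype.card F - 1) * (Fintype.card F ^ 2 - 1) +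
        Nat.card (cls K).ker * (Fintype.card F - 1) := by
  classical
  obtain ⟨P, hP⟩ : ∃ P, P = fun b : Kx K => φ ⬝ᵥ (((b : GL (Fin 3) F) : M₃) *ᵥ c) = 0 := ⟨_, rfl⟩
  have hcnt : ∀ i, cnt K c φ i = Nat.card {b : Kx K // P b ∧ cls K b = i} := fun i => by rw [hP]; rfl
  have h1 : ∑ i, cnt K c φ i ^ 2 = Nat.card {p : Kx K × Kx K // (P p.1 ∧ P p.2) ∧ cls K p.1 = cls K p.2} := by
    rw [← Nat.card_congr (Equiv.sigmaFiberEquiv
      fun p : {p : Kx K × Kx K // (P p.1 ∧ P p.2) ∧ cls K p.1 = cls K p.2} => cls K p.1.1), Nat.card_sigma]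
    refine Finset.sum_congr rfl fun i _ => ?_
    rw [sq, hcnt, ← Nat.card_prod]
    exact Nat.card_congr
      { toFun := fun x => ⟨⟨(x.1.1, x.2.1), ⟨x.1.2.1, x.2.2.1⟩, by show cls K x.1.1 = cls K x.2.1
                                                                   rw [x.1.2.2, x.2.2.2]⟩, x.1.2.2⟩
        invFun := fun z => (⟨z.1.1.1, z.1.2.1.1, z.2⟩, ⟨z.1.1.2, z.1.2.1.2, z.1.2.2.symm.trans z.2⟩)
        left_inv := fun _ => rfl
        right_inv := fun _ => rfl }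
  have h2 : Nat.card {p : Kx K × Kx K // (P p.1 ∧ P p.2) ∧ cls K p.1 = cls K p.2} =
      ∑ s : (cls K).ker, Nat.card {b : Kx K // P b ∧ P ((s : Kx K) * b)} := by
    rw [← Nat.card_sigma]
    exact Nat.card_congr
      { toFun := fun p => ⟨⟨p.1.2 * p.1.1⁻¹, by rw [MonoidHom.mem_ker, map_mul, map_inv, p.2.2, mul_inv_cancel]⟩,
          ⟨p.1.1, p.2.1.1, by show P (p.1.2 * p.1.1⁻¹ * p.1.1); rw [inv_mul_cancel_right]; exact p.2.1.2⟩⟩
        invFun := fun z => ⟨(z.2.1, (z.1 : Kx K) * z.2.1), ⟨z.2.2.1, z.2.2.2⟩, by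
          show cls K z.2.1 = cls K ((z.1 : Kx K) * z.2.1)
          rw [map_mul, z.1.2, one_mul]⟩
        left_inv := fun p => Subtype.ext (Prod.ext rfl (inv_mul_cancel_right _ _))
        right_inv := fun z => by
          obtain ⟨⟨s, hs⟩, b, hb⟩ := z
          have : s * b * b⁻¹ = s := mul_inv_cancel_right s b
          refine Sigma.subtype_ext (Subtype.ext this) rfl }
  rw [h1, h2, hP]
  have hshift : ∀ s : (cls K).ker, Nat.card {b : Kx K // φ ⬝ᵥ (((b : GL (Fin 3) F) : M₃) *ᵥ c) = 0 ∧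
      φ ⬝ᵥ ((((s : Kx K) * b : Kx K) : GL (Fin 3) F) : M₃) *ᵥ c = 0} =
      if ∃ t : F, (((s : Kx K) : GL (Fin 3) F) : M₃) = t • 1 then Fintype.card F ^ 2 - 1 else Fintype.card F - 1 :=
    fun s => by rw [card_shift hK hc hφ]; congr 1
  simp only [hshift]
  rw [Finset.sum_ite, Finset.sum_const, Finset.sum_const, smul_eq_mul, smul_eq_mul]
  obtain ⟨A, hA⟩ : ∃ A, A = (Finset.univ.filter fun s : (cls K).ker =>
    ∃ t : F, (((s : Kx K) : GL (Fin 3) F) : M₃) = t • 1) := ⟨_, rfl⟩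
  have hAc : A.card = Fintype.card F - 1 := by
    rw [hA, ← card_scalars hK, ← Fintype.card_subtype, ← Nat.card_eq_fintype_card]
    exact Nat.card_congr
      { toFun := fun s => ⟨s.1.1, s.1.2, s.2⟩
        invFun := fun s => ⟨⟨s.1, s.2.1⟩, s.2.2⟩
        left_inv := fun _ => rfl
        right_inv := fun _ => rfl }
  rw [← hA, hAc, Nat.card_eq_fintype_card, add_assoc, ← add_mul]
  congr 2
  conv_rhs => rw [← Finset.card_univ, ← Finset.card_filter_add_card_filter_not (s := Finset.univ)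
    (fun s : (cls K).ker => ∃ t : F, (((s : Kx K) : GL (Fin 3) F) : M₃) = t • 1), ← hA, hAc, add_comm]

theorem card_ker_cls (hK : Geo.IsFieldSubalgebra 3 K) :
    Nat.card (cls K).ker * (Fintype.card F - 1).gcd 3 = Fintype.card F ^ 3 - 1 := by
  rw [← card_Kx hK, ← (cls K).ker.card_mul_index, Subgroup.index_ker, MonoidHom.range_eq_top.2 (cls_surjective hK),
    Subgroup.card_top, card_classes]

/-- Without non-cubes every point of the line is in the orbit. -/
theorem ncard_lines_one (hK : Geo.IsFieldSubalgebra 3 K) (hc : c ≠ 0) (hφ : φ ≠ 0)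
    (h3 : ¬ 3 ∣ Fintype.card F - 1) : (lines K c φ).ncard = Fintype.card F + 1 := by
  classical
  have : Fintype (Fˣ ⧸ (powMonoidHom 3 : Fˣ →* Fˣ).range) := Fintype.ofFinite _
  have hQ : Fintype.card (Fˣ ⧸ (powMonoidHom 3 : Fˣ →* Fˣ).range) = 1 := by
    rw [← Nat.card_eq_fintype_card, card_classes]
    exact (Nat.coprime_comm.1 ((Nat.Prime.coprime_iff_not_dvd (by norm_num)).2 h3))
  have := Fintype.card_le_one_iff_subsingleton.1 hQ.le
  have h := sum_cnt hK hc hφ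
  rw [Fintype.sum_subsingleton _ 1, cnt_one hK hc] at h
  have hq := Fintype.one_lt_card (α := F)
  obtain ⟨m, hm⟩ : ∃ m, Fintype.card F = m + 1 := ⟨_, (Nat.succ_pred_eq_of_pos (by omega)).symm⟩
  rw [hm, Nat.add_sub_cancel, show (m + 1) ^ 2 - 1 = m * (m + 2) from Nat.sub_eq_of_eq_add (by ring)] at h
  rw [hm, Nat.eq_of_mul_eq_mul_left (show 0 < m by omega) h]

/-- The three numbers. -/
theorem exists_counts (hK : Geo.IsFieldSubalgebra 3 K) (hc : c ≠ 0) (hφ : φ ≠ 0)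
    (h3 : 3 ∣ Fintype.card F - 1) :
    ∃ x y : ℕ, (lines K c φ).ncard + x + y = Fintype.card F + 1 ∧
      3 * ((lines K c φ).ncard ^ 2 + x ^ 2 + y ^ 2) = Fintype.card F ^ 2 + 4 * Fintype.card F + 1 ∧
      ∀ e : V, e ≠ 0 → Orb K c e ∨ (lines K e φ).ncard = x ∨ (lines K e φ).ncard = y := by
  classical
  have : Fintype (Fˣ ⧸ (powMonoidHom 3 : Fˣ →* Fˣ).range) := Fintype.ofFinite _
  have hQ : Fintype.card (Fˣ ⧸ (powMonoidHom 3 : Fˣ →* Fˣ).range) = 3 := by
    rw [← Nat.card_eq_fintype_card, card_classes]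
    exact Nat.gcd_eq_right h3
  obtain ⟨i, hi⟩ := Fintype.exists_ne_of_one_lt_card (by rw [hQ]; norm_num)
    (1 : Fˣ ⧸ (powMonoidHom 3 : Fˣ →* Fˣ).range)
  obtain ⟨t, ht⟩ := cls_surjective hK i
  have hi3 : i ^ 3 = 1 := orderOf_dvd_iff_pow_eq_one.1 ((orderOf_dvd_card (x := i)).trans (dvd_of_eq hQ))
  have hi2 : i ^ 2 ≠ 1 := fun e => hi (by rw [← mul_one i, ← e, ← pow_succ', hi3, e])
  have huniv : (Finset.univ : Finset (Fˣ ⧸ (powMonoidHom 3 : Fˣ →* Fˣ).range)) = {1, i, i ^ 2} := by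
    refine (Finset.eq_univ_of_card _ ?_).symm
    rw [hQ, Finset.card_eq_three]
    exact ⟨1, i, i ^ 2, Ne.symm hi, Ne.symm hi2, fun e => hi (by
      exact mul_left_cancel (a := i) (by rw [← sq, ← e, mul_one])), rfl⟩
  have hsum : ∀ f : (Fˣ ⧸ (powMonoidHom 3 : Fˣ →* Fˣ).range) → ℕ, ∑ j, f j = f 1 + f i + f (i ^ 2) := fun f => by
    rw [huniv, Finset.sum_insert (by simp [Ne.symm hi, Ne.symm hi2]), Finset.sum_pair (fun e => hi
      (mul_left_cancel (a := i) (by rw [← sq, ← e, mul_one]))), add_assoc]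
  obtain ⟨x, hx⟩ : ∃ x, x = (lines K (((t : GL (Fin 3) F) : M₃) *ᵥ c) φ).ncard := ⟨_, rfl⟩
  obtain ⟨y, hy⟩ : ∃ y, y = (lines K ((((t ^ 2 : Kx K) : GL (Fin 3) F) : M₃) *ᵥ c) φ).ncard := ⟨_, rfl⟩
  have hcx : cnt K c φ i = (Fintype.card F - 1) * x := by rw [← ht, cnt_cls hK hc, hx]
  have hcy : cnt K c φ (i ^ 2) = (Fintype.card F - 1) * y := by rw [← ht, ← map_pow, cnt_cls hK hc, hy]
  have h1 := sum_cnt hK hc hφ
  have h2 := sum_sq_cnt hK hc hφ
  have h3' := card_ker_cls hK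
  rw [Nat.gcd_eq_right h3] at h3'
  rw [hsum, cnt_one hK hc, hcx, hcy] at h1 h2
  have hq := Fintype.one_lt_card (α := F)
  obtain ⟨m, hm⟩ : ∃ m, Fintype.card F = m + 1 := ⟨_, (Nat.succ_pred_eq_of_pos (by omega)).symm⟩
  obtain ⟨n, hn⟩ : ∃ n, n = (lines K c φ).ncard := ⟨_, rfl⟩
  rw [← hn] at h1 h2 ⊢
  rw [hm] at h1 h2 h3'
  rw [Nat.add_sub_cancel] at h1 h2
  rw [show (m + 1) ^ 2 - 1 = m * (m + 2) from Nat.sub_eq_of_eq_add (by ring)] at h1 h2
  rw [show (m + 1) ^ 3 - 1 = m * (m ^ 2 + 3 * m + 3) from Nat.sub_eq_of_eq_add (by ring)] at h3'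
  refine ⟨x, y, ?_, ?_, fun e he => ?_⟩
  · rw [hm]
    exact Nat.eq_of_mul_eq_mul_left (show 0 < m by omega) (by linarith)
  · rw [hm]
    refine Nat.eq_of_mul_eq_mul_left (show 0 < m * m by apply Nat.mul_pos <;> omega) ?_
    nlinarith [h2, h3']
  · obtain ⟨a, ha, hae⟩ := exists_apply hK hc he
    have hcl := cnt_cls (φ := φ) hK hc ⟨a, ha⟩
    have hm0 : Fintype.card F - 1 ≠ 0 := by omega
    rw [← hae]
    have hmem : cls K ⟨a, ha⟩ ∈ ({1, i, i ^ 2} : Finset _) := huniv ▸ Finset.mem_univ _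
    simp only [Finset.mem_insert, Finset.mem_singleton] at hmem
    rcases hmem with h | h | h
    · left
      have := (orb_apply_iff hK hc 1 ⟨a, ha⟩).2 (by rw [h, map_one])
      rwa [Subgroup.coe_one, Units.val_one, Matrix.one_mulVec] at this
    · exact Or.inr (Or.inl (mul_left_cancel₀ hm0 (by rw [← hcl, h, hcx])))
    · exact Or.inr (Or.inr (mul_left_cancel₀ hm0 (by rw [← hcl, h, hcy])))

/-- The number of points is not one. -/
theorem ncard_ne_one (hK : Geo.IsFieldSubalgebra 3 K) (hc : c ≠ 0) (hφ : φ ≠ 0) (h8 : 8 ≤ Fintype.card F) :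
    (lines K c φ).ncard ≠ 1 := fun h => by
  by_cases h3 : 3 ∣ Fintype.card F - 1
  · obtain ⟨x, y, h1, h2, -⟩ := exists_counts hK hc hφ h3
    rw [h] at h1 h2
    nlinarith [two_mul_le_add_sq x y]
  · rw [ncard_lines_one hK hc hφ h3] at h
    omega

/-- Neither none nor two. -/
theorem false_of_none_or_two (hK : Geo.IsFieldSubalgebra 3 K) (hc : c ≠ 0) (hφ : φ ≠ 0)
    (h4 : Fintype.card F ≠ 4) (h : (lines K c φ).ncard = 0 ∨ (lines K c φ).ncard = 2) : False := by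
  have hq := Fintype.one_lt_card (α := F)
  by_cases h3 : 3 ∣ Fintype.card F - 1
  · obtain ⟨x, y, h1, h2, -⟩ := exists_counts hK hc hφ h3
    rcases h with h | h <;> rw [h] at h1 h2
    · nlinarith [two_mul_le_add_sq x y]
    · have hle : Fintype.card F ≤ 11 := by nlinarith [two_mul_le_add_sq x y]
      have : x ≤ Fintype.card F + 1 := by omega
      obtain ⟨Q, hQ⟩ : ∃ Q, Q = Fintype.card F := ⟨_, rfl⟩
      rw [← hQ] at h1 h2 h3 h4 hq hle this
      interval_cases Q <;> first | omega | (interval_cases x <;> (obtain rfl : y = _ := by omega) <;> omega) |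
        (interval_cases x <;> nlinarith)
  · rw [ncard_lines_one hK hc hφ h3] at h
    omega

/-- Few points happen over sixteen elements only. -/
theorem few_points (hK : Geo.IsFieldSubalgebra 3 K) (hc : c ≠ 0) (hφ : φ ≠ 0) {r : ℕ}
    (hn : (lines K c φ).ncard ≤ r + 1) (hr : r * r ≤ Fintype.card F) {k : ℕ} (hk : Fintype.card F = 2 ^ k)
    (h8 : 8 ≤ Fintype.card F) :
    Fintype.card F = 16 ∧ (lines K c φ).ncard = 3 ∧
      ∀ e : V, e ≠ 0 → Orb K c e ∨ (lines K e φ).ncard = 7 := by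
  obtain ⟨n, hn'⟩ : ∃ n, n = (lines K c φ).ncard := ⟨_, rfl⟩
  rw [← hn'] at hn ⊢
  by_cases h3 : 3 ∣ Fintype.card F - 1
  swap
  · rw [hn', ncard_lines_one hK hc hφ h3] at hn
    nlinarith
  obtain ⟨x, y, h1, h2, h⟩ := exists_counts hK hc hφ h3
  rw [← hn'] at h1 h2
  have h64 : Fintype.card F < 64 := by
    by_contra hge
    push Not at hge
    have hr8 : 8 * r ≤ Fintype.card F := by nlinarith
    nlinarith [two_mul_le_add_sq x y]
  have hk6 : k < 6 := (Nat.pow_lt_pow_iff_right (by norm_num : 1 < 2)).1 (hk ▸ h64)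
  have h16 : Fintype.card F = 16 := by
    rw [hk] at h3 h8 ⊢
    interval_cases k <;> first | rfl | omega | norm_num at h3 h8
  rw [h16] at h1 h2 hr
  have hr4 : r ≤ 4 := by nlinarith
  have hx : x ≤ 17 := by omega
  have hval : n = 3 ∧ x = 7 ∧ y = 7 := by
    have hn5 : n ≤ 5 := by omega
    have hxy : y = 17 - n - x := by omega
    subst hxy
    interval_cases n <;> interval_cases x <;> omega
  obtain ⟨rfl, rfl, rfl⟩ := hval
  refine ⟨h16, rfl, fun e he => ?_⟩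
  rcases h e he with h | h | h
  · exact Or.inl h
  · exact Or.inr h
  · exact Or.inr h

end Cfsg.Agent.Classical.SLThree.Singer
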