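import Cfsg.Agent.Lib.Classical.SLThree.SingerCentres
import Cfsg.Agent.Lib.Classical.DicksonGeneration

/-!
Two-axis centres in odd characteristic: the line through two of them is an axis at both.
-/

set_option autoImplicit false
set_option linter.unusedSectionVars false

namespace Cfsg.Agent.Classical.SLThree.Singer

open Matrix Module MaxTv SLThree Cfsg.Agent.PSL2Spec

variable {F : Type*} [Field F] [Fintype F] {K : Subalgebra F (Matrix (Fin 3) (Fin 3) F)}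
  {M : Subgroup (GL (Fin 3) F)} {c d : Fin 3 → F}

local notation "V" => (Fin 3 → F)
local notation "M₃" => Matrix (Fin 3) (Fin 3) F
local notation "SL₂" => Matrix.SpecialLinearGroup (Fin 2) F
local notation "M₂" => Matrix (Fin 2) (Fin 2) F

/-- Upper and lower unipotent elements give minus one in odd characteristic. -/
theorem neg_one_mem_of_frames (h2 : (2 : F) ≠ 0) {G : Subgroup SL₂} {x y : F} (hx : x ≠ 0) (hy : y ≠ 0)
    (hu : Grp.SL2.up x ∈ G) (hl : Grp.SL2.low y ∈ G) : (-1 : SL₂) ∈ G := by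
  classical
  obtain ⟨p, hch⟩ := CharP.exists F
  haveI := hch
  haveI : Fact p.Prime := ⟨CharP.char_is_prime F p⟩
  refine Dickson.Gen.neg_one_mem h2 ?_
  obtain ⟨H, hH⟩ : ∃ H, H = G.map proj := ⟨_, rfl⟩
  rw [← hH]
  have hxU : x ∈ upSet H := hH ▸ Subgroup.mem_map_of_mem _ hu
  have hp3 : 3 ≤ p := by
    have := (CharP.char_is_prime F p).two_le
    rcases eq_or_ne p 2 with rfl | hne
    · exact absurd (CharTwo.two_eq_zero (R := F)) h2
    · omega
  have hcard : 3 ≤ Nat.card (upSet H) := by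
    have hd : addOrderOf (⟨x, hxU⟩ : upSet H) ∣ Nat.card (upSet H) := addOrderOf_dvd_natCard _
    have hord : addOrderOf (⟨x, hxU⟩ : upSet H) = p := by
      rw [AddSubgroup.addOrderOf_mk]
      exact addOrderOf_eq_prime (by rw [nsmul_eq_mul, CharP.cast_eq_zero, zero_mul]) hx
    exact le_trans hp3 (Nat.le_of_dvd Nat.card_pos (hord ▸ hd))
  rcases subfieldType_or_small p H hcard (y := Grp.SL2.low y) (hH ▸ Subgroup.mem_map_of_mem _ hl)
    (by simp [Grp.SL2.low]; exact hy) with hS | ⟨-, -, -, h2'⟩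
  swap
  · exact h2'
  obtain ⟨K, P, -, h⟩ := hS
  haveI := Dickson.finite_pgl (F := F)
  have hge : ((Dickson.pslImg K.subtype).map (MulAut.conj (Matrix.ProjGenLinGroup.mk P)).toMonoidHom) ≤
      H.map Matrix.ProjectiveSpecialLinearGroup.toPGL := by
    rcases h with h | h <;> rw [h]
    exact Subgroup.map_mono (Dickson.pslImg_le _)
  have h1 := Subgroup.card_dvd_of_le hge
  obtain ⟨i⟩ := Dickson.nonempty_pslImg K.subtype
  rw [Subgroup.card_map_of_injective (MulAut.conj (Matrix.ProjGenLinGroup.mk P)).injective,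
    Subgroup.card_map_of_injective Matrix.ProjectiveSpecialLinearGroup.toPGL_injective,
    Nat.card_congr i.toEquiv] at h1
  haveI := Fintype.ofFinite K
  exact (Dickson.Gen.even_card_psl (F := K) fun e => h2
    ((map_ofNat K.subtype 2).symm.trans ((congrArg K.subtype e).trans (map_zero _)))).trans h1

theorem up_mulVec (x : F) (z : Fin 2 → F) :
    ((Grp.SL2.up x : SL₂) : M₂).mulVec z 0 = z 0 + x * z 1 ∧ ((Grp.SL2.up x : SL₂) : M₂).mulVec z 1 = z 1 := by
  simp [Grp.SL2.up, Matrix.vecHead, Matrix.vecTail]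

theorem low_mulVec (y : F) (z : Fin 2 → F) :
    ((Grp.SL2.low y : SL₂) : M₂).mulVec z 0 = z 0 ∧ ((Grp.SL2.low y : SL₂) : M₂).mulVec z 1 = y * z 0 + z 1 := by
  simp [Grp.SL2.low, Matrix.vecHead, Matrix.vecTail]

/-- The restrictions to a pair fixing a third point. -/
def pairGroup (M : Subgroup (GL (Fin 3) F)) (c d P : Fin 3 → F) :
    Subgroup (Matrix.SpecialLinearGroup (Fin 2) F) where
  carrier := {A | ∃ g ∈ M, (∀ z : Fin 2 → F, (g : Matrix (Fin 3) (Fin 3) F) *ᵥ (z 0 • c + z 1 • d) =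
    ((A : Matrix (Fin 2) (Fin 2) F) *ᵥ z) 0 • c + ((A : Matrix (Fin 2) (Fin 2) F) *ᵥ z) 1 • d) ∧
      (g : Matrix (Fin 3) (Fin 3) F) *ᵥ P = P}
  one_mem' := ⟨1, one_mem M, fun z => by simp, by simp⟩
  mul_mem' := fun {A B} hA hB => by
    obtain ⟨g, hg, h1, h2⟩ := hA
    obtain ⟨g', hg', h1', h2'⟩ := hB
    refine ⟨g * g', mul_mem hg hg', fun z => ?_, ?_⟩
    · rw [Units.val_mul, ← Matrix.mulVec_mulVec, h1', h1, Matrix.mulVec_mulVec, Matrix.SpecialLinearGroup.coe_mul]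
    · rw [Units.val_mul, ← Matrix.mulVec_mulVec, h2', h2]
  inv_mem' := fun {A} hA => by
    obtain ⟨g, hg, h1, h2⟩ := hA
    refine ⟨g⁻¹, inv_mem hg, fun z => ?_, ?_⟩
    · have h3 := h1 (((A⁻¹ : Matrix.SpecialLinearGroup (Fin 2) F) : Matrix (Fin 2) (Fin 2) F) *ᵥ z)
      rw [Matrix.mulVec_mulVec z, ← Matrix.SpecialLinearGroup.coe_mul, mul_inv_cancel,
        Matrix.SpecialLinearGroup.coe_one, Matrix.one_mulVec] at h3
      rw [← h3, inv_mulVec_cancel]
    · conv_lhs => rw [← h2]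
      exact inv_mulVec_cancel g P

/-- The line through two double centres is an axis. -/
theorem Dbl.line_axis (hc : Dbl M c) (hd : Dbl M d) (h : Over K M) (h2 : (2 : F) ≠ 0) (hi : Indep c d) :
    ∃ θ : V, θ ≠ 0 ∧ MaxTv.InT M c θ ∧ θ ⬝ᵥ d = 0 := by
  by_contra hno
  push Not at hno
  obtain ⟨φ₂, hφ, hφd⟩ := hc.exists_axis h hi
  obtain ⟨ψ, hψ, hψc⟩ := hd.exists_axis h hi.symm
  obtain ⟨-, θ₁, θ₂, ht1, ht2, hθ⟩ := id hc
  obtain ⟨θ, hθE, hθi⟩ : ∃ θ, MaxTv.InT M c θ ∧ Indep φ₂ θ := by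
    by_contra hall
    push Not at hall
    have hφ0 : φ₂ ≠ 0 := fun e => hφd (by rw [e, zero_dotProduct])
    have hmul : ∀ η, MaxTv.InT M c η → ∃ t : F, η = t • φ₂ := fun η hη => by
      by_contra hne
      push Not at hne
      exact hall η hη (indep_of_not_mem hφ0 hne)
    obtain ⟨a, rfl⟩ := hmul θ₁ ht1
    obtain ⟨b, rfl⟩ := hmul θ₂ ht2
    have ha : a ≠ 0 := (smul_ne_zero_iff.1 hθ.ne_zero).1
    exact hθ.not_smul (b / a) (by rw [smul_smul, div_mul_cancel₀ _ ha])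
  obtain ⟨P, hP⟩ : ∃ P, P = crossProduct φ₂ ψ := ⟨_, rfl⟩
  have hφc := h.dot_eq_zero hφ
  have hψd := h.dot_eq_zero hψ
  have hPφ : φ₂ ⬝ᵥ P = 0 := hP ▸ dot_self_cross _ _
  have hPψ : ψ ⬝ᵥ P = 0 := hP ▸ dot_cross_self _ _
  have hP0 : P ≠ 0 := hP ▸ Indep.dot (c := c) (by rw [dotProduct_comm, hφc]) (by rw [dotProduct_comm]; exact hψc)
    (fun e => hφd (by rw [e, zero_dotProduct]))
  have hup : Grp.SL2.up (φ₂ ⬝ᵥ d) ∈ pairGroup M c d P := by
    obtain ⟨g, hg, hgx⟩ := hφ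
    refine ⟨g, hg, fun z => ?_, by rw [hgx, hPφ, zero_smul, add_zero]⟩
    obtain ⟨e0, e1⟩ := up_mulVec (φ₂ ⬝ᵥ d) z
    rw [hgx, dotProduct_add, dotProduct_smul, dotProduct_smul, hφc, e0, e1, smul_eq_mul, smul_eq_mul]
    module
  have hlow : Grp.SL2.low (ψ ⬝ᵥ c) ∈ pairGroup M c d P := by
    obtain ⟨g, hg, hgx⟩ := hψ
    refine ⟨g, hg, fun z => ?_, by rw [hgx, hPψ, zero_smul, add_zero]⟩
    obtain ⟨e0, e1⟩ := low_mulVec (ψ ⬝ᵥ c) z
    rw [hgx, dotProduct_add, dotProduct_smul, dotProduct_smul, hψd, e0, e1, smul_eq_mul, smul_eq_mul]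
    module
  obtain ⟨g, hg, hgz, hgP⟩ := neg_one_mem_of_frames h2 hφd hψc hup hlow
  have hgc : (g : M₃) *ᵥ c = -c := by
    have := hgz ![1, 0]
    simpa [Matrix.neg_mulVec] using this
  have hgd : (g : M₃) *ᵥ d = -d := by
    have := hgz ![0, 1]
    simpa [Matrix.neg_mulVec] using this
  obtain ⟨θ', hθ'⟩ : ∃ θ', θ' = θ ᵥ* ((g⁻¹ : GL (Fin 3) F) : M₃) := ⟨_, rfl⟩
  have hval : ∀ x, θ' ⬝ᵥ ((g : M₃) *ᵥ x) = θ ⬝ᵥ x := fun x => by rw [hθ', vecMul_inv_dot]
  have h1 := hθE.conj hg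
  rw [hgc, ← hθ', ← neg_one_smul F c] at h1
  have h3 : MaxTv.InT M c ((-1 : F) • θ') := h1.scale_right
  rw [neg_one_smul] at h3
  have hd' : θ' ⬝ᵥ c = 0 := by
    have := hval c
    rw [hgc, dotProduct_neg, h.dot_eq_zero hθE] at this
    exact neg_eq_zero.1 this
  have h4 : MaxTv.InT M c (θ + θ') := by
    have := h3.neg (by rw [neg_dotProduct, hd', neg_zero])
    rw [neg_neg] at this
    exact hθE.add_right this (h.dot_eq_zero hθE)
  have hd0 : (θ + θ') ⬝ᵥ d = 0 := by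
    have := hval d
    rw [hgd, dotProduct_neg] at this
    rw [add_dotProduct, ← this, neg_add_cancel]
  have hne : θ + θ' ≠ 0 := fun e => by
    have h5 := congrArg (· ⬝ᵥ P) e
    have h6 := hval P
    rw [hgP] at h6
    simp only [add_dotProduct, zero_dotProduct, h6, ← two_mul] at h5
    have hθP : θ ⬝ᵥ P = 0 := (mul_eq_zero.1 h5).resolve_left h2
    have hcP : Indep c P := indep_of_not_mem hc.1 fun t e' => hP0 (by
      rw [e', dotProduct_smul, smul_eq_mul] at hPψ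
      rw [e', (mul_eq_zero.1 hPψ).resolve_right hψc, zero_smul])
    obtain ⟨t, ht⟩ := hcP.functional hθi.ne_zero hφc hPφ (h.dot_eq_zero hθE) hθP
    exact hθi.not_smul t ht
  exact hno _ hne h4 hd0

end Cfsg.Agent.Classical.SLThree.Singer
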