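import Cfsg.Agent.Lib.Classical.SLThree.SingerFrame

/-!
The frame over four elements: the six neighbours of a two-axis centre are reached by rational elements.
-/

set_option autoImplicit false
set_option linter.unusedSectionVars false

namespace Cfsg.Agent.Classical.SLThree.Singer

open Matrix Module MaxTv SLThree

variable {F : Type*} [Field F] [Fintype F] [CharP F 2] {K : Subalgebra F (Matrix (Fin 3) (Fin 3) F)}
  {M : Subgroup (GL (Fin 3) F)} {c d r φ φ₂ θ₁ x y : Fin 3 → F}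

local notation "V" => (Fin 3 → F)
local notation "M₃" => Matrix (Fin 3) (Fin 3) F

/-- The elements of the field of four elements. -/
def four (F : Type*) [Field F] [CharP F 2] : Subfield F where
  carrier := {x | x ^ 4 = x}
  mul_mem' {a b} ha hb := by simp only [Set.mem_ofPred_eq] at ha hb ⊢; rw [mul_pow, ha, hb]
  one_mem' := one_pow 4
  add_mem' {a b} ha hb := by
    simp only [Set.mem_ofPred_eq] at ha hb ⊢
    rw [show (a + b) ^ 4 = ((a + b) ^ 2) ^ 2 by ring, CharTwo.add_sq, CharTwo.add_sq, ← pow_mul, ← pow_mul, ha, hb]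
  zero_mem' := zero_pow (by norm_num)
  neg_mem' {a} ha := by rwa [CharTwo.neg_eq]
  inv_mem' := fun a ha => by simp only [Set.mem_ofPred_eq] at ha ⊢; rw [inv_pow, ha]

theorem mem_four {a : F} : a ∈ four F ↔ a ^ 4 = a := Iff.rfl

theorem quad_mem_four {b : F} (hb : b ^ 2 = b + 1) : b ∈ four F := by
  rw [mem_four, show b ^ 4 = (b ^ 2) ^ 2 by ring, hb, CharTwo.add_sq, hb, one_pow, add_assoc,
    CharTwo.add_self_eq_zero, add_zero]

theorem card_four_le : Nat.card (four F) ≤ 4 := by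
  classical
  have hne := FiniteField.X_pow_card_sub_X_ne_zero F (show 1 < 4 by norm_num)
  let f : four F → {x // x ∈ (Polynomial.X ^ 4 - Polynomial.X : Polynomial F).roots.toFinset} := fun a => ⟨a.1, by
    rw [Multiset.mem_toFinset, Polynomial.mem_roots hne, Polynomial.IsRoot.def, Polynomial.eval_sub,
      Polynomial.eval_pow, Polynomial.eval_X, mem_four.1 a.2, sub_self]⟩
  refine (Nat.card_le_card_of_injective f fun a b e => Subtype.ext (congrArg (fun w => w.1) e)).trans ?_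
  rw [Nat.card_eq_fintype_card, Fintype.card_coe]
  exact (Multiset.toFinset_card_le _).trans ((Polynomial.card_roots' _).trans
    (FiniteField.X_pow_card_sub_X_natDegree_eq F (by norm_num)).le)

theorem card_four {b : F} (hb : b ^ 2 = b + 1) : Nat.card (four F) = 4 := by
  classical
  refine le_antisymm card_four_le ?_
  have h0 : b ≠ 0 := fun e => by rw [e] at hb; simp at hb
  have h1 : b ≠ 1 := fun e => by rw [e, one_pow, CharTwo.add_self_eq_zero] at hb; exact one_ne_zero hb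
  have hb1 : b + 1 ≠ 0 := fun e => h1 (CharTwo.add_eq_zero.1 e)
  have h4 : ({0, 1, b, b + 1} : Finset F).card = 4 :=
    Finset.card_eq_four.2 ⟨_, _, _, _, zero_ne_one, Ne.symm h0, Ne.symm hb1, Ne.symm h1,
      fun e => h0 (add_eq_right.1 e.symm), fun e => one_ne_zero (α := F) (add_eq_left.1 e.symm), rfl⟩
  rw [← h4, ← Nat.card_eq_finsetCard]
  refine Nat.card_le_card_of_injective (fun z : ({0, 1, b, b + 1} : Finset F) => (⟨z.1, ?_⟩ : four F))
    fun x y e => Subtype.ext (congrArg (fun w : four F => (w : F)) e)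
  have hz := z.2
  simp only [Finset.mem_insert, Finset.mem_singleton] at hz
  rcases hz with hz | hz | hz | hz <;> rw [hz]
  · exact zero_mem _
  · exact one_mem _
  · exact quad_mem_four hb
  · exact add_mem (quad_mem_four hb) (one_mem _)

/-- Coordinates among four elements. -/
def Rat (φ φ₂ θ₁ v : Fin 3 → F) : Prop := θ₁ ⬝ᵥ v ∈ four F ∧ φ₂ ⬝ᵥ v ∈ four F ∧ φ ⬝ᵥ v ∈ four F

/-- A multiple of a rational vector. -/
def RatLine (φ φ₂ θ₁ v : Fin 3 → F) : Prop := ∃ (s : F) (w : Fin 3 → F), Rat φ φ₂ θ₁ w ∧ v = s • w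

/-- A matrix preserving rational vectors. -/
def RatMap (φ φ₂ θ₁ : Fin 3 → F) (g : Matrix (Fin 3) (Fin 3) F) : Prop :=
  ∀ v, Rat φ φ₂ θ₁ v → Rat φ φ₂ θ₁ (g *ᵥ v)

theorem Rat.add (h : Rat φ φ₂ θ₁ x) (h' : Rat φ φ₂ θ₁ y) : Rat φ φ₂ θ₁ (x + y) :=
  ⟨by rw [dotProduct_add]; exact add_mem h.1 h'.1, by rw [dotProduct_add]; exact add_mem h.2.1 h'.2.1,
    by rw [dotProduct_add]; exact add_mem h.2.2 h'.2.2⟩

theorem Rat.smul (h : Rat φ φ₂ θ₁ x) {s : F} (hs : s ∈ four F) : Rat φ φ₂ θ₁ (s • x) :=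
  ⟨by rw [dotProduct_smul, smul_eq_mul]; exact mul_mem hs h.1,
    by rw [dotProduct_smul, smul_eq_mul]; exact mul_mem hs h.2.1,
    by rw [dotProduct_smul, smul_eq_mul]; exact mul_mem hs h.2.2⟩

theorem RatMap.mul {g g' : M₃} (h : RatMap φ φ₂ θ₁ g) (h' : RatMap φ φ₂ θ₁ g') : RatMap φ φ₂ θ₁ (g * g') :=
  fun v hv => by rw [← Matrix.mulVec_mulVec]; exact h _ (h' _ hv)

theorem Frame.rat (f : Frame M c d r φ φ₂ θ₁) : Rat φ φ₂ θ₁ c ∧ Rat φ φ₂ θ₁ d ∧ Rat φ φ₂ θ₁ r := by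
  simp only [Rat, f.φc, f.φd, f.φr, f.ac, f.ad, f.ar, f.bc, f.bd, f.br]
  simp [zero_mem, one_mem]

/-- A rational transvection. -/
theorem Frame.ratMap (f : Frame M c d r φ φ₂ θ₁) {v η : V} (hv : Rat φ φ₂ θ₁ v) (h1 : η ⬝ᵥ c ∈ four F)
    (h2 : η ⬝ᵥ d ∈ four F) (h3 : η ⬝ᵥ r ∈ four F) {g : GL (Fin 3) F}
    (hg : ∀ z, (g : M₃) *ᵥ z = z + (η ⬝ᵥ z) • v) : RatMap φ φ₂ θ₁ (g : M₃) := fun z hz => by
  rw [hg]
  refine hz.add (hv.smul ?_)
  rw [← f.decomp z, dotProduct_add, dotProduct_add, dotProduct_smul, dotProduct_smul, dotProduct_smul]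
  exact add_mem (add_mem (mul_mem hz.1 h1) (mul_mem hz.2.1 h2)) (mul_mem hz.2.2 h3)

/-- Neighbours: another centre on an axis. -/
def Nb (M : Subgroup (GL (Fin 3) F)) (x y : Fin 3 → F) : Prop :=
  Indep x y ∧ Dbl M y ∧ ∃ θ : Fin 3 → F, θ ≠ 0 ∧ MaxTv.InT M x θ ∧ θ ⬝ᵥ y = 0

theorem Nb.conj (h : Nb M x y) {g : GL (Fin 3) F} (hg : g ∈ M) :
    Nb M ((g : M₃) *ᵥ x) ((g : M₃) *ᵥ y) := by
  obtain ⟨hi, hy, θ, hθ, ht, h0⟩ := h
  refine ⟨indep_of_not_mem (apply_ne_zero hi.ne_zero) fun t e => hi.not_smul t ?_, hy.conj hg,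
    θ ᵥ* ((g⁻¹ : GL (Fin 3) F) : M₃), fun e => hθ ?_, ht.conj hg, by rw [vecMul_inv_dot, h0]⟩
  · rw [← Matrix.mulVec_smul] at e
    exact gl_mulVec_injective g e
  · have := congrArg (fun ψ => ψ ᵥ* (g : M₃)) e
    simpa [Matrix.vecMul_vecMul] using this

theorem Nb.smul (h : Nb M x y) {s : F} (hs : s ≠ 0) : Nb M (s • x) y := by
  obtain ⟨hi, hy, θ, hθ, ht, h0⟩ := h
  exact ⟨indep_of_not_mem (smul_ne_zero hs hi.ne_zero) fun t e => hi.not_smul (t * s) (by rw [e, smul_smul]),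
    hy, s⁻¹ • θ, smul_ne_zero (inv_ne_zero hs) hθ, inT_smul_left hs ht,
    by rw [smul_dotProduct, h0, smul_zero]⟩

/-- The six neighbours. -/
def six (c d r : Fin 3 → F) : List (Fin 3 → F) := [d, c + d, r, c + r, d + r, c + (d + r)]

theorem Frame.six_rat (f : Frame M c d r φ φ₂ θ₁) {e : V} (he : e ∈ six c d r) : Rat φ φ₂ θ₁ e := by
  obtain ⟨hc, hd, hr⟩ := f.rat
  simp only [six, List.mem_cons, List.not_mem_nil, or_false] at he
  rcases he with rfl | rfl | rfl | rfl | rfl | rfl <;> first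
    | assumption
    | exact hc.add hd
    | exact hc.add hr
    | exact hd.add hr
    | exact hc.add (hd.add hr)

theorem Frame.third (f : Frame M c d r φ φ₂ θ₁) :
    MaxTv.InT M (d + r) (φ + φ₂) ∧ Dbl M (d + r) ∧ ∃ g ∈ M, RatMap φ φ₂ θ₁ (g : M₃) ∧
      (g : M₃) *ᵥ r = d + r ∧ (g : M₃) *ᵥ c = c ∧ (g : M₃) *ᵥ d = d := by
  obtain ⟨g, hg, hgx⟩ := id f.td
  have hgr : (g : M₃) *ᵥ r = d + r := by rw [hgx, f.φr, one_smul, add_comm]
  have hfun : φ₂ ᵥ* ((g⁻¹ : GL (Fin 3) F) : M₃) = φ + φ₂ := dotProduct_eq _ _ fun z => by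
    obtain ⟨w, rfl⟩ : ∃ w, z = (g : M₃) *ᵥ w := ⟨_, (mulVec_inv_cancel g z).symm⟩
    rw [vecMul_inv_dot, hgx, add_dotProduct, dotProduct_add, dotProduct_add, dotProduct_smul, dotProduct_smul,
      f.φd, f.ad, smul_eq_mul, smul_eq_mul]
    linear_combination -(φ ⬝ᵥ w) * CharTwo.two_eq_zero (R := F)
  have h1 := f.tr.conj hg
  rw [hgr, hfun] at h1
  exact ⟨h1, hgr ▸ f.dblr.conj hg, g, hg,
    f.ratMap f.rat.2.1 (by simp [f.φc, zero_mem]) (by simp [f.φd, zero_mem]) (by simp [f.φr, one_mem]) hgx,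
    hgr, by rw [hgx, f.φc, zero_smul, add_zero], by rw [hgx, f.φd, zero_smul, add_zero]⟩

/-- The neighbours of the base centre. -/
theorem Frame.nb_cases (f : Frame M c d r φ φ₂ θ₁) (h : Small K M) (hy : Nb M c y) :
    ∃ e ∈ six c d r, ∃ t : F, t ≠ 0 ∧ y = t • e := by
  obtain ⟨hi, hdy, θ, hθ, ht, h0⟩ := hy
  have hφ : φ ≠ 0 := fun e => by simpa [e] using f.φr
  have ha : φ₂ ≠ 0 := fun e => by simpa [e] using f.ad
  obtain ⟨t, ht0, htd, htp, hti⟩ := h.exists_normalised hdy hi ht h0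
  suffices ∀ u : V, θ ≠ 0 → MaxTv.InT M u θ → Dbl M u → Indep c u →
      ∃ e ∈ six c d r, u = e by
    obtain ⟨e, he, hte⟩ := this _ hθ htp htd hti
    exact ⟨e, he, t⁻¹, inv_ne_zero ht0, by rw [← hte, inv_smul_smul₀ ht0]⟩
  intro u _ hu hud hui
  have hne : u ≠ c := fun e => hui.not_smul 1 (by rw [one_smul, e])
  rcases h.axis_cases f.dblc f.dbld f.indep_cd hφ f.tc f.φd f.tc₂ (by rw [f.ad]; exact one_ne_zero) ht with
    rfl | rfl | rfl | rfl
  · exact absurd rfl hθ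
  · rcases h.three_centres f.dblc f.dbld f.indep_cd hφ f.tc f.td hud hu with e | e | e
    · exact absurd e hne
    · exact ⟨d, by simp [six], e⟩
    · exact ⟨c + d, by simp [six], e⟩
  · rcases h.three_centres f.dblc f.dblr f.swap.indep_cd ha f.tc₂ f.tr hud hu with e | e | e
    · exact absurd e hne
    · exact ⟨r, by simp [six], e⟩
    · exact ⟨c + r, by simp [six], e⟩
  · obtain ⟨h3, hd3, -⟩ := f.third
    have hi3 : Indep c (d + r) := indep_of_not_mem f.dblc.1 fun t e => by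
      have := congrArg (φ ⬝ᵥ ·) e
      simp [dotProduct_add, dotProduct_smul, f.φd, f.φr, f.φc] at this
    rw [add_comm φ₂ φ] at hu hθ ht
    rcases h.three_centres f.dblc hd3 hi3 hθ ht h3 hud hu with e | e | e
    · exact absurd e hne
    · exact ⟨d + r, by simp [six], e⟩
    · exact ⟨c + (d + r), by simp [six], e⟩

/-- A rational element moves the base centre to each neighbour. -/
theorem Frame.exists_rational_move (f : Frame M c d r φ φ₂ θ₁) (h : Small K M) {e : V} (he : e ∈ six c d r) :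
    ∃ g ∈ M, RatMap φ φ₂ θ₁ (g : M₃) ∧ (g : M₃) *ᵥ c = e := by
  obtain ⟨hc, hd, hr⟩ := f.rat
  obtain ⟨ψ, b, hψ, hψc, hψd, hψr, hb⟩ := f.quad h
  obtain ⟨χ, b', hχ, hχc, hχr, hχd, hb'⟩ := f.swap.quad h
  obtain ⟨A, hA, hAx⟩ := id f.tc
  obtain ⟨B, hB, hBx⟩ := id f.tc₂
  obtain ⟨P, hP, hPx⟩ := hψ
  obtain ⟨Q, hQ, hQx⟩ := hχ
  obtain ⟨-, -, T, hT, hTm, hTr, hTc, -⟩ := f.third
  have mA := f.ratMap hc (by simp [f.φc, zero_mem]) (by simp [f.φd, zero_mem]) (by simp [f.φr, one_mem]) hAx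
  have mB := f.ratMap hc (by simp [f.ac, zero_mem]) (by simp [f.ad, one_mem]) (by simp [f.ar, zero_mem]) hBx
  have mP := f.ratMap hd (by simp [hψc, one_mem]) (by simp [hψd, zero_mem])
    (by rw [hψr]; exact quad_mem_four hb) hPx
  have mQ := f.ratMap hr (by simp [hχc, one_mem]) (by rw [hχd]; exact quad_mem_four hb')
    (by simp [hχr, zero_mem]) hQx
  have ePc : (P : M₃) *ᵥ c = c + d := by rw [hPx, hψc, one_smul]
  have eQc : (Q : M₃) *ᵥ c = c + r := by rw [hQx, hχc, one_smul]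
  have eB : (B : M₃) *ᵥ (c + d) = d := by
    rw [hBx, dotProduct_add, f.ac, f.ad, zero_add, one_smul, add_comm c d, add_assoc, add_self_v, add_zero]
  have eA : (A : M₃) *ᵥ (c + r) = r := by
    rw [hAx, dotProduct_add, f.φc, f.φr, zero_add, one_smul, add_comm c r, add_assoc, add_self_v, add_zero]
  simp only [six, List.mem_cons, List.not_mem_nil, or_false] at he
  rcases he with rfl | rfl | rfl | rfl | rfl | rfl
  · exact ⟨B * P, mul_mem hB hP, by rw [Units.val_mul]; exact mB.mul mP,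
      by rw [Units.val_mul, ← Matrix.mulVec_mulVec, ePc, eB]⟩
  · exact ⟨P, hP, mP, ePc⟩
  · exact ⟨A * Q, mul_mem hA hQ, by rw [Units.val_mul]; exact mA.mul mQ,
      by rw [Units.val_mul, ← Matrix.mulVec_mulVec, eQc, eA]⟩
  · exact ⟨Q, hQ, mQ, eQc⟩
  · exact ⟨T * (A * Q), mul_mem hT (mul_mem hA hQ),
      by rw [Units.val_mul, Units.val_mul]; exact hTm.mul (mA.mul mQ),
      by rw [Units.val_mul, Units.val_mul, ← Matrix.mulVec_mulVec, ← Matrix.mulVec_mulVec, eQc, eA, hTr]⟩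
  · exact ⟨T * Q, mul_mem hT hQ, by rw [Units.val_mul]; exact hTm.mul mQ,
      by rw [Units.val_mul, ← Matrix.mulVec_mulVec, eQc, Matrix.mulVec_add, hTr, hTc]⟩

end Cfsg.Agent.Classical.SLThree.Singer
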