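import Cfsg.Agent.Lib.Classical.SLThree.SingerTransvection
import Cfsg.Agent.Lib.Classical.SLThree.Rational

/-!
Six root groups in a group above a Singer normaliser give the special linear group: otherwise an orbit of the
cubic field units would be rational over a proper subfield.
-/

set_option autoImplicit false
set_option linter.unusedSectionVars false

namespace Cfsg.Agent.Classical.SLThree.Singer

open Matrix Module MaxTv SLThree

variable {F : Type*} [Field F] [Fintype F] {K : Subalgebra F (Matrix (Fin 3) (Fin 3) F)}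
  {M : Subgroup (GL (Fin 3) F)}

local notation "V" => (Fin 3 → F)
local notation "M₃" => Matrix (Fin 3) (Fin 3) F

theorem Over.eight_le (h : Over K M) (hp : ¬ (Nat.card F).Prime) : 8 ≤ Fintype.card F := by
  obtain ⟨p, hch⟩ := CharP.exists F
  haveI := hch
  obtain ⟨n, hpp, hn⟩ := FiniteField.card F p
  have h4 := h.four
  rw [Nat.card_eq_fintype_card, hn] at hp
  rw [hn] at h4 ⊢
  have hn2 : 2 ≤ (n : ℕ) := by
    by_contra hlt
    have : (n : ℕ) = 1 := le_antisymm (by omega) n.pos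
    rw [this, pow_one] at hp
    exact hp hpp
  rcases eq_or_ne p 2 with rfl | hp2
  · have : 3 ≤ (n : ℕ) := by
      by_contra hlt
      have : (n : ℕ) = 2 := by omega
      rw [this] at h4
      exact h4 rfl
    calc (8 : ℕ) = 2 ^ 3 := rfl
      _ ≤ _ := Nat.pow_le_pow_right two_pos this
  · have : 3 ≤ p := by have := hpp.two_le; omega
    calc (8 : ℕ) ≤ 3 ^ 2 := by norm_num
      _ ≤ p ^ 2 := Nat.pow_le_pow_left this 2
      _ ≤ _ := Nat.pow_le_pow_right hpp.pos hn2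

theorem card_subfield {K₀ : Subfield F} (h : K₀ ≠ ⊤) : Nat.card K₀ ^ 2 ≤ Fintype.card F := by
  classical
  have hq : 2 ≤ Nat.card K₀ := Finite.one_lt_card
  have h2 : Nat.card F = Nat.card K₀ ^ Module.finrank K₀ F := Module.natCard_eq_pow_finrank
  rw [← Nat.card_eq_fintype_card, h2]
  refine Nat.pow_le_pow_right (by omega) ?_
  by_contra hlt
  push Not at hlt
  have h1 : Module.finrank K₀ F = 1 := by
    have : 0 < Module.finrank K₀ F := Module.finrank_pos
    omega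
  refine h (eq_top_iff.2 fun x _ => ?_)
  obtain ⟨a, ha⟩ := (finrank_eq_one_iff_of_nonzero' (1 : F) one_ne_zero).1 h1 x
  rw [← ha, Subfield.smul_def, smul_eq_mul, mul_one]
  exact a.2

/-- Six roots at three independent points. -/
theorem Over.top_of_six (h : Over K M) (h8 : 8 ≤ Fintype.card F) {a b c : V}
    (hind : ∀ x y z : F, x • a + y • b + z • c = 0 → x = 0 ∧ y = 0 ∧ z = 0)
    (hsix : ∀ i j k : Fin 3, i ≠ j → i ≠ k → j ≠ k → ∃ θ : V, θ ≠ 0 ∧ MaxTv.InT M (![a, b, c] i) θ ∧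
      θ ⬝ᵥ ![a, b, c] k = 0) : Geo.specialLinear (Fin 3) F ≤ M := by
  classical
  obtain ⟨D, hD'⟩ := exists_columns hind
  obtain ⟨v, hv⟩ : ∃ v : Fin 3 → V, v = ![a, b, c] := ⟨_, rfl⟩
  rw [← hv] at hsix hD'
  have hD : ∀ i, (D : M₃) *ᵥ e i = v i := hD'
  obtain ⟨N, hN⟩ : ∃ N, N = M.comap (MulAut.conj D).toMonoidHom := ⟨_, rfl⟩
  obtain ⟨D₂, K₀, hex⟩ := exists_diag_exact (M := N) fun i j hij => by
    obtain ⟨k, hki, hkj⟩ := exists_third i j
    obtain ⟨θ, hθ0, hθ, hθk⟩ := hsix i j k hij hki.symm hkj.symm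
    obtain ⟨ψ, hψ⟩ : ∃ ψ, ψ = θ ᵥ* (D : M₃) := ⟨_, rfl⟩
    have hψl : ∀ l, ψ l = θ ⬝ᵥ v l := fun l => by
      rw [← hD, Matrix.dotProduct_mulVec, ← hψ, dotProduct_comm, e_dot]
    have hψeq : ψ = ψ j • e j := funext fun l => by
      rcases eq_or_ne l j with rfl | hlj
      · simp [e]
      rw [Pi.smul_apply, e, Pi.single_eq_of_ne hlj, smul_zero]
      have hli : l = i ∨ l = k := by
        revert hij hki hkj hlj; clear * - ; revert i j k l; decide
      rcases hli with rfl | rfl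
      · rw [hψl, h.dot_eq_zero hθ]
      · rw [hψl, hθk]
    have hback : ψ ᵥ* ((D⁻¹ : GL (Fin 3) F) : M₃) = θ := by
      rw [hψ, Matrix.vecMul_vecMul, ← Units.val_mul, mul_inv_cancel, Units.val_one, Matrix.vecMul_one]
    refine ⟨ψ j, fun e0 => hθ0 (by rw [← hback, hψeq, e0, zero_smul, Matrix.zero_vecMul]), ?_⟩
    rw [hN, inT_comap, ← hψeq, hback, hD]
    exact hθ
  obtain ⟨P, hP⟩ : ∃ P : GL (Fin 3) F, P = D * D₂ := ⟨_, rfl⟩
  have hcomp : N.comap (MulAut.conj D₂).toMonoidHom = M.comap (MulAut.conj P).toMonoidHom := by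
    ext x
    rw [hN, Subgroup.mem_comap, Subgroup.mem_comap, Subgroup.mem_comap]
    simp only [MulEquiv.coe_toMonoidHom, MulAut.conj_apply, hP, _root_.mul_inv_rev, mul_assoc]
  rw [hcomp] at hex
  by_cases hK : K₀ = ⊤
  · subst hK
    intro x hx
    have h1 : P⁻¹ * x * P ∈ M.comap (MulAut.conj P).toMonoidHom := Exact.top hex (by
      rw [mem_specialLinear_iff] at hx ⊢
      rw [Units.val_mul, Units.val_mul, Matrix.det_units_conj', hx])
    rw [Subgroup.mem_comap] at h1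
    simpa [mul_assoc] using h1
  exfalso
  obtain ⟨θ, hθ0, hθ, -⟩ := hsix 0 1 2 (by decide) (by decide) (by decide)
  have hv0 : v 0 ≠ 0 := hD 0 ▸ apply_ne_zero fun e0 => one_ne_zero (α := F) (by simpa [e] using congrFun e0 0)
  have hrat : ∀ g ∈ M, KLine K₀ (((P⁻¹ : GL (Fin 3) F) : M₃) *ᵥ ((g : M₃) *ᵥ v 0)) := by
    intro g hg
    obtain ⟨φ, hφ⟩ : ∃ φ, φ = θ ᵥ* ((g⁻¹ : GL (Fin 3) F) : M₃) := ⟨_, rfl⟩
    have hφ0 : φ ≠ 0 := fun e' => hθ0 (by
      have := congrArg (fun ψ => ψ ᵥ* (g : M₃)) e'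
      simpa [hφ, Matrix.vecMul_vecMul] using this)
    refine (rational hex (φ := φ ᵥ* (P : M₃)) (apply_ne_zero (apply_ne_zero hv0)) (fun e' => hφ0 ?_) ?_ ?_).1
    · have := congrArg (fun ψ => ψ ᵥ* ((P⁻¹ : GL (Fin 3) F) : M₃)) e'
      simpa [Matrix.vecMul_vecMul] using this
    · rw [← Matrix.dotProduct_mulVec, mulVec_inv_cancel, hφ, vecMul_inv_dot, h.dot_eq_zero hθ]
    · rw [inT_comap, mulVec_inv_cancel, Matrix.vecMul_vecMul, ← Units.val_mul, mul_inv_cancel, Units.val_one,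
        Matrix.vecMul_one, hφ]
      exact hθ.conj hg
  have himg : ∀ x : (cls K).ker, ∃ (t : Fˣ) (r : {r : Fin 3 → K₀ // r ≠ 0}),
      (((x : Kx K) : GL (Fin 3) F) : M₃) *ᵥ v 0 = (t : F) • ((P : M₃) *ᵥ fun i => (r.1 i : F)) := by
    intro x
    obtain ⟨s, hs, u, hu, -, he⟩ := h.exists_of_orb (c := v 0) (z := (((x : Kx K) : GL (Fin 3) F) : M₃) *ᵥ v 0)
      (by
        obtain ⟨s, hs, hd⟩ := cls_eq_one.1 x.2
        exact ⟨_, (x : Kx K).2, s, hs, hd, rfl⟩)
    obtain ⟨t, r, hr, htr⟩ := hrat u hu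
    have hne : t • r ≠ 0 := htr ▸ apply_ne_zero (apply_ne_zero hv0)
    obtain ⟨ht, hr0⟩ := smul_ne_zero_iff.1 hne
    refine ⟨Units.mk0 (s * t) (mul_ne_zero hs ht), ⟨fun i => ⟨r i, hr i⟩, fun e' => hr0 (funext fun i =>
      congrArg Subtype.val (congrFun e' i))⟩, ?_⟩
    show _ = (s * t) • ((P : M₃) *ᵥ r)
    rw [he, mul_smul]
    congr 1
    rw [← Matrix.mulVec_smul, ← htr, mulVec_inv_cancel]
  choose t r htr using himg
  have hinj : Function.Injective fun x : (cls K).ker => (t x, r x) := fun x y e => by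
    obtain ⟨e1, e2⟩ := Prod.ext_iff.1 e
    have hxy := htr x
    rw [show t x = t y from e1, show r x = r y from e2, ← htr y] at hxy
    exact Subtype.ext (Subtype.ext (gl_eq_of_apply h.deg (x : Kx K).2 (y : Kx K).2 hv0 hxy))
  have hle := Nat.card_le_card_of_injective _ hinj
  rw [Nat.card_prod, Nat.card_eq_fintype_card (α := Fˣ), Fintype.card_units] at hle
  have hkv : Nat.card {r : Fin 3 → K₀ // r ≠ 0} = Nat.card K₀ ^ 3 - 1 := by
    haveI := Fintype.ofFinite K₀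
    rw [Nat.card_eq_fintype_card, Fintype.card_subtype_compl, Nat.card_eq_fintype_card (α := K₀)]
    simp
  rw [hkv] at hle
  have hker := card_ker_cls (K := K) h.deg
  have hsq := card_subfield hK
  have hg : (Fintype.card F - 1).gcd 3 ≤ 3 := Nat.gcd_le_right _ (by norm_num)
  obtain ⟨m, hm⟩ : ∃ m, Fintype.card F = m + 1 := ⟨_, (Nat.succ_pred_eq_of_pos (by omega)).symm⟩
  obtain ⟨k, hk⟩ : ∃ k, Nat.card K₀ = k := ⟨_, rfl⟩
  have hk2 : 2 ≤ k := hk ▸ Finite.one_lt_card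
  rw [hk] at hle hsq
  rw [hm] at hker hsq h8
  rw [hm, Nat.add_sub_cancel] at hle
  rw [Nat.add_sub_cancel] at hker
  rw [show (m + 1) ^ 3 - 1 = m * (m ^ 2 + 3 * m + 3) from Nat.sub_eq_of_eq_add (by ring)] at hker
  rw [hm, Nat.add_sub_cancel] at hg
  have h2 : m * (m ^ 2 + 3 * m + 3) ≤ m * ((k ^ 3 - 1) * 3) := by
    rw [← hker]
    calc _ ≤ m * (k ^ 3 - 1) * 3 := Nat.mul_le_mul hle hg
      _ = _ := by ring
  have h3 : m ^ 2 + 3 * m + 3 ≤ (k ^ 3 - 1) * 3 := Nat.le_of_mul_le_mul_left h2 (by omega)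
  have h4 : m ^ 2 + 3 * m + 6 ≤ 3 * k ^ 3 := by
    have : 1 ≤ k ^ 3 := Nat.one_le_pow _ _ (by omega)
    omega
  rcases Nat.lt_or_ge k 4 with hk4 | hk4
  · interval_cases k <;> nlinarith
  · nlinarith [mul_le_mul_of_nonneg_left hsq (Nat.zero_le k), mul_le_mul_of_nonneg_right hk4 (Nat.zero_le k)]

end Cfsg.Agent.Classical.SLThree.Singer
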