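import Cfsg.Agent.Lib.Classical.SLThree.SingerRatGens

/-!
Over sixteen elements the neighbours of a two-axis centre come from units whose seventh powers are scalar,
and there are too many of them.
-/

set_option autoImplicit false
set_option linter.unusedSectionVars false

namespace Cfsg.Agent.Classical.SLThree.Singer

open Matrix Module MaxTv SLThree

variable {F : Type*} [Field F] [Fintype F] {K : Subalgebra F (Matrix (Fin 3) (Fin 3) F)}
  {M : Subgroup (GL (Fin 3) F)} {c d r φ φ₂ θ₁ x y : Fin 3 → F}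

local notation "V" => (Fin 3 → F)
local notation "M₃" => Matrix (Fin 3) (Fin 3) F

theorem scalar_of_pow (hK : Geo.IsFieldSubalgebra 3 K) {g : GL (Fin 3) F} (hg : g ∈ Kx K)
    (hpow : g ^ (Fintype.card F - 1) = 1) : ∃ s : F, (g : M₃) = s • 1 := by
  classical
  choose z hz hzt using fun t : Fˣ => exists_scalar hK t.ne_zero
  have hzpow : ∀ t, z t ^ (Fintype.card F - 1) = 1 := fun t => Units.ext (by
    rw [Units.val_pow_eq_pow_val, hzt, smul_pow, one_pow, ← Units.val_pow_eq_pow_val,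
      ← Fintype.card_units, pow_card_eq_one, Units.val_one, one_smul, Units.val_one])
  obtain ⟨f, hf⟩ : ∃ f : Fˣ → {a : Kx K // a ^ (Fintype.card F - 1) = 1},
      ∀ t, (((f t).1 : Kx K) : GL (Fin 3) F) = z t :=
    ⟨fun t => ⟨⟨z t, hz t⟩, Subtype.ext (hzpow t)⟩, fun t => rfl⟩
  have hinj : Function.Injective f := fun a b e => by
    have := congrArg (fun w => (((w.1 : Kx K) : GL (Fin 3) F) : M₃) 0 0) e
    simp only [hf, hzt] at this
    exact Units.ext (by simpa using this)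
  have hq : 0 < Fintype.card F - 1 := by have := Fintype.one_lt_card (α := F); omega
  have hsurj := (hinj.bijective_of_nat_card_le (by
    rw [Nat.card_eq_fintype_card (α := Fˣ), Fintype.card_units]; exact card_pow_eq_one_le hK hq)).2
  obtain ⟨t, ht⟩ := hsurj ⟨⟨g, hg⟩, Subtype.ext hpow⟩
  refine ⟨t, ?_⟩
  have := congrArg (fun w => (((w.1 : Kx K) : GL (Fin 3) F) : M₃)) ht
  simp only [hf, hzt] at this
  exact this.symm

variable [CharP F 2]

theorem Frame.indep_cr (f : Frame M c d r φ φ₂ θ₁) : Indep c r := f.swap.indep_cd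

theorem ratLine_smul {v : V} {s : F} (h : RatLine φ φ₂ θ₁ v) : RatLine φ φ₂ θ₁ (s • v) := by
  obtain ⟨t, w, hw, rfl⟩ := h
  exact ⟨s * t, w, hw, smul_smul _ _ _⟩

/-- Coefficients of a relation among rational vectors are rational up to a scalar. -/
theorem Frame.ratio_mem (f : Frame M c d r φ φ₂ θ₁) {a b m : V} (ha : Rat φ φ₂ θ₁ a) (hb : Rat φ φ₂ θ₁ b)
    (hm : Rat φ φ₂ θ₁ m) (hi : Indep a b) {s₁ s₂ s₃ : F} (hs : s₁ ≠ 0) (h : s₁ • a + s₂ • b = s₃ • m) :
    s₂ / s₁ ∈ four F := by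
  obtain ⟨π, hπ⟩ : ∃ π : V → V, ∀ v, π v = ![θ₁ ⬝ᵥ v, φ₂ ⬝ᵥ v, φ ⬝ᵥ v] := ⟨_, fun v => rfl⟩
  have hlin : ∀ i, s₁ * π a i + s₂ * π b i = s₃ * π m i := fun i => by
    rw [hπ, hπ, hπ]
    fin_cases i <;> simp only [Fin.zero_eta, Fin.mk_one, Fin.reduceFinMk, Matrix.cons_val] <;>
      rw [← smul_eq_mul, ← smul_eq_mul, ← smul_eq_mul, ← dotProduct_smul, ← dotProduct_smul, ← dotProduct_smul,
        ← dotProduct_add, h]
  have hmem : ∀ v, Rat φ φ₂ θ₁ v → ∀ i, π v i ∈ four F := fun v hv i => by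
    rw [hπ]
    fin_cases i
    · exact hv.1
    · exact hv.2.1
    · exact hv.2.2
  have hne : crossProduct (π a) (π b) ≠ 0 := by
    have ha0 : π a ≠ 0 := fun e => hi.ne_zero (by
      rw [hπ] at e
      rw [← f.decomp a, show θ₁ ⬝ᵥ a = 0 from congrFun e 0, show φ₂ ⬝ᵥ a = 0 from congrFun e 1,
        show φ ⬝ᵥ a = 0 from congrFun e 2]
      simp)
    refine indep_of_not_mem ha0 fun t e => hi.not_smul t ?_
    rw [hπ, hπ] at e
    rw [← f.decomp b, ← f.decomp a]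
    have e0 : θ₁ ⬝ᵥ b = t * (θ₁ ⬝ᵥ a) := congrFun e 0
    have e1 : φ₂ ⬝ᵥ b = t * (φ₂ ⬝ᵥ a) := congrFun e 1
    have e2 : φ ⬝ᵥ b = t * (φ ⬝ᵥ a) := congrFun e 2
    rw [e0, e1, e2, smul_add, smul_add, smul_smul, smul_smul, smul_smul]
  obtain ⟨i, j, hij⟩ : ∃ i j, π a i * π b j - π a j * π b i ≠ 0 := by
    by_contra hc
    push Not at hc
    refine hne ?_
    rw [cross_apply, hc 1 2, hc 2 0, hc 0 1]
    funext l; fin_cases l <;> rfl
  have h1 : s₁ * (π a i * π b j - π a j * π b i) = s₃ * (π m i * π b j - π m j * π b i) := by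
    linear_combination π b j * hlin i - π b i * hlin j
  have h2 : s₂ * (π a i * π b j - π a j * π b i) = s₃ * (π a i * π m j - π a j * π m i) := by
    linear_combination π a i * hlin j - π a j * hlin i
  have hN : π m i * π b j - π m j * π b i ≠ 0 := fun e => by
    rw [e, mul_zero] at h1
    exact mul_ne_zero hs hij h1
  have h3 : s₂ / s₁ = (π a i * π m j - π a j * π m i) / (π m i * π b j - π m j * π b i) := by
    rw [div_eq_div_iff hs hN]
    have : s₂ * (π a i * π b j - π a j * π b i) * (π m i * π b j - π m j * π b i) =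
        (π a i * π m j - π a j * π m i) * (s₁ * (π a i * π b j - π a j * π b i)) := by
      rw [h2, h1]; ring
    exact mul_left_cancel₀ hij (by linear_combination this)
  rw [h3]
  exact div_mem (sub_mem (mul_mem (hmem a ha i) (hmem m hm j)) (mul_mem (hmem a ha j) (hmem m hm i)))
    (sub_mem (mul_mem (hmem m hm i) (hmem b hb j)) (mul_mem (hmem m hm j) (hmem b hb i)))

theorem Frame.sixteen (f : Frame M c d r φ φ₂ θ₁) (h : Small K M) : Fintype.card F = 16 :=
  (h.sixteen f.dblc f.dbld f.indep_cd (fun e => by simpa [e] using f.φr) f.tc f.td).1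

theorem Frame.six_orb (f : Frame M c d r φ φ₂ θ₁) (h : Small K M) {e : V} (he : e ∈ six c d r) : Orb K c e := by
  obtain ⟨g, hg, -, hge⟩ := f.exists_rational_move h he
  have hde : Dbl M e := hge ▸ f.dblc.conj hg
  have hφ : φ ≠ 0 := fun e' => by simpa [e'] using f.φr
  have ha : φ₂ ≠ 0 := fun e' => by simpa [e'] using f.ad
  obtain ⟨-, h1⟩ := h.sixteen f.dblc f.dbld f.indep_cd hφ f.tc f.td
  obtain ⟨-, h2⟩ := h.sixteen f.dblc f.dblr f.indep_cr ha f.tc₂ f.tr
  obtain ⟨ht, hd3, -⟩ := f.third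
  have hi3 : Indep c (d + r) := indep_of_not_mem f.dblc.1 fun t e' => by
    have := congrArg (φ ⬝ᵥ ·) e'
    simp [dotProduct_add, dotProduct_smul, f.φd, f.φr, f.φc] at this
  have hsum : φ + φ₂ ≠ 0 := fun e' => by
    have := congrArg (· ⬝ᵥ d) e'
    simp [add_dotProduct, f.φd, f.ad] at this
  obtain ⟨-, h3⟩ := h.sixteen f.dblc hd3 hi3 hsum (f.tc.add_right f.tc₂ f.φc) ht
  simp only [six, List.mem_cons, List.not_mem_nil, or_false] at he
  rcases he with rfl | rfl | rfl | rfl | rfl | rfl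
  · exact h1 _ hde f.φd
  · exact h1 _ hde (by simp [dotProduct_add, f.φc, f.φd])
  · exact h2 _ hde f.ar
  · exact h2 _ hde (by simp [dotProduct_add, f.ac, f.ar])
  · exact h3 _ hde (by simp [dotProduct_add, add_dotProduct, f.φd, f.φr, f.ad, f.ar, CharTwo.add_self_eq_zero])
  · exact h3 _ hde (by
      simp [dotProduct_add, add_dotProduct, f.φc, f.ac, f.φd, f.φr, f.ad, f.ar, CharTwo.add_self_eq_zero])

/-- A unit moving the base centre to a neighbour has scalar seventh power. -/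
theorem Frame.pow_seven (f : Frame M c d r φ φ₂ θ₁) (h : Small K M) {u : GL (Fin 3) F} (hu : u ∈ M)
    (huK : u ∈ Kx K) {e : V} (he : e ∈ six c d r) {s₁ : F} (hs₁ : s₁ ≠ 0) (hue : (u : M₃) *ᵥ c = s₁ • e) :
    ∃ s : F, ((u ^ 7 : GL (Fin 3) F) : M₃) = s • 1 := by
  classical
  have hK := h.over'.deg
  obtain ⟨hc, hd, hr⟩ := f.rat
  obtain ⟨g, hg, hgm, hge⟩ := f.exists_rational_move h he
  have hnb : ∀ y, Nb M c y → ∃ t : F, ∃ w, Rat φ φ₂ θ₁ w ∧ (u : M₃) *ᵥ y = t • w := by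
    intro y hy
    have h1 := hy.conj hu
    rw [hue] at h1
    have h2 := h1.smul (inv_ne_zero hs₁)
    rw [inv_smul_smul₀ hs₁, ← hge] at h2
    have h3 := h2.conj (inv_mem hg)
    rw [inv_mulVec_cancel] at h3
    obtain ⟨e', he', t, -, ht⟩ := f.nb_cases h h3
    refine ⟨t, (g : M₃) *ᵥ e', hgm _ (f.six_rat he'), ?_⟩
    rw [← Matrix.mulVec_smul, ← ht, mulVec_inv_cancel]
  have hφ : φ ≠ 0 := fun e' => by simpa [e'] using f.φr
  have ha : φ₂ ≠ 0 := fun e' => by simpa [e'] using f.ad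
  have hpair : ∀ z η, Indep c z → Dbl M z → Dbl M (c + z) → η ≠ 0 → MaxTv.InT M c η → η ⬝ᵥ z = 0 →
      ∃ t : F, t ∈ four F ∧ ∃ w, Rat φ φ₂ θ₁ w ∧ (u : M₃) *ᵥ z = (s₁ * t) • w := by
    intro z η hi hz hcz hη ht hz0
    obtain ⟨s₂, b, hb, hub⟩ := hnb z ⟨hi, hz, η, hη, ht, hz0⟩
    obtain ⟨s₃, m, hm, hum⟩ := hnb (c + z) ⟨indep_of_not_mem hi.ne_zero fun t e' => hi.not_smul (t - 1) (by
      rw [sub_smul, one_smul, ← e', add_sub_cancel_left]), hcz, η, hη, ht,
      by rw [dotProduct_add, h.over'.dot_eq_zero ht, hz0, add_zero]⟩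
    have hs₂ : s₂ ≠ 0 := fun e' => apply_ne_zero hz.1 (by rw [hub, e', zero_smul])
    rw [Matrix.mulVec_add, hue, hub] at hum
    have hie : Indep e b := indep_of_not_mem (hge ▸ apply_ne_zero f.dblc.1) fun t e' => hi.not_smul (s₂ * t / s₁) (by
      refine gl_mulVec_injective u ?_
      show (u : M₃) *ᵥ z = (u : M₃) *ᵥ _
      rw [Matrix.mulVec_smul, hue, hub, e', smul_smul, smul_smul, div_mul_cancel₀ _ hs₁])
    refine ⟨s₂ / s₁, f.ratio_mem (f.six_rat he) hb hm hie hs₁ hum, b, hb, ?_⟩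
    rw [hub, mul_div_cancel₀ _ hs₁]
  obtain ⟨ψ, b, hψ, hψc, -, -, -⟩ := f.quad h
  obtain ⟨χ, b', hχ, hχc, -, -, -⟩ := f.swap.quad h
  have hcd : Dbl M (c + d) := (h.step f.dblc f.dbld f.indep_cd hφ f.tc f.td hψ (by rw [hψc]; exact one_ne_zero)).2.2
  have hcr : Dbl M (c + r) := (h.step f.dblc f.dblr f.indep_cr ha f.tc₂ f.tr hχ (by rw [hχc]; exact one_ne_zero)).2.2
  obtain ⟨td, htd, wd, hwd, hud⟩ := hpair d φ f.indep_cd f.dbld hcd hφ f.tc f.φd
  obtain ⟨tr, htr, wr, hwr, hur⟩ := hpair r φ₂ f.indep_cr f.dblr hcr ha f.tc₂ f.ar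
  obtain ⟨R, hRdef⟩ : ∃ R : M₃, R = s₁⁻¹ • (u : M₃) := ⟨_, rfl⟩
  have hRmap : RatMap φ φ₂ θ₁ R := fun v hv => by
    rw [← f.decomp v, Matrix.mulVec_add, Matrix.mulVec_add, Matrix.mulVec_smul, Matrix.mulVec_smul,
      Matrix.mulVec_smul, hRdef, Matrix.smul_mulVec, Matrix.smul_mulVec, Matrix.smul_mulVec, hue, hud, hur,
      smul_smul s₁⁻¹ s₁, inv_mul_cancel₀ hs₁, one_smul, smul_smul s₁⁻¹ (s₁ * td), inv_mul_cancel_left₀ hs₁,
      smul_smul s₁⁻¹ (s₁ * tr), inv_mul_cancel_left₀ hs₁]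
    exact (((f.six_rat he).smul hv.1).add ((hwd.smul htd).smul hv.2.1)).add ((hwr.smul htr).smul hv.2.2)
  have hRpow : ∀ n : ℕ, RatMap φ φ₂ θ₁ (R ^ n) := fun n => by
    induction n with
    | zero => intro v hv; rwa [pow_zero, Matrix.one_mulVec]
    | succ n ih => rw [pow_succ]; exact ih.mul hRmap
  have hRval : ∀ n : ℕ, R ^ n = s₁⁻¹ ^ n • ((u ^ n : GL (Fin 3) F) : M₃) := fun n => by
    rw [hRdef, smul_pow, Units.val_pow_eq_pow_val]
  have h16 := f.sixteen h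
  have hu273 : u ^ 273 = 1 := by
    have hk : (⟨u, huK⟩ : Kx K) ∈ (detK K).ker := Units.ext (h.over'.det hu)
    have h1 := pow_card_eq_one' (x := (⟨_, hk⟩ : (detK K).ker))
    rw [card_detK_ker hK, h16] at h1
    exact congrArg (fun z => (((z : (detK K).ker) : Kx K) : GL (Fin 3) F)) h1
  obtain ⟨μ, hμ⟩ := scalar_of_pow hK (pow_mem huK 91) (by
    rw [h16, ← pow_mul, show 91 * (16 - 1) = 273 * 5 from rfl, pow_mul, hu273, one_pow])
  have hμ3 : μ ^ 3 = 1 := by
    have h1 := congrArg Matrix.det hμ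
    rw [Units.val_pow_eq_pow_val, Matrix.det_pow, h.over'.det hu, one_pow, Matrix.det_smul, Fintype.card_fin,
      Matrix.det_one, mul_one] at h1
    exact h1.symm
  have hμ0 : μ ≠ 0 := fun e' => by rw [e'] at hμ3; simp at hμ3
  have hl : s₁⁻¹ ^ 91 * μ ∈ four F := by
    have := (hRpow 91 c hc).1
    rwa [hRval, hμ, smul_smul, Matrix.smul_mulVec, Matrix.one_mulVec, dotProduct_smul, f.bc, smul_eq_mul, mul_one]
      at this
  have hl273 : s₁⁻¹ ^ 273 = 1 := by
    have h4 : (s₁⁻¹ ^ 91 * μ) ^ 4 = s₁⁻¹ ^ 91 * μ := mem_four.1 hl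
    have h3 : (s₁⁻¹ ^ 91 * μ) ^ 3 = 1 :=
      mul_left_cancel₀ (mul_ne_zero (pow_ne_zero _ (inv_ne_zero hs₁)) hμ0) (by rw [← pow_succ', h4, mul_one])
    rwa [mul_pow, hμ3, mul_one, ← pow_mul] at h3
  obtain ⟨b₀, -, -, -, -, hb₀⟩ : ∃ b₀ : F, True ∧ True ∧ True ∧ True ∧ b₀ ^ 2 = b₀ + 1 := by
    obtain ⟨-, b₀, -, -, -, -, hb₀⟩ := f.quad h
    exact ⟨b₀, trivial, trivial, trivial, trivial, hb₀⟩
  haveI := Fintype.ofFinite (four F)
  obtain ⟨w, hw0, hwfix⟩ : ∃ v : V, v ≠ 0 ∧ (R ^ 21) *ᵥ v = v := by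
    let S := {w : Fin 3 → four F // w ≠ 0}
    let emb : (Fin 3 → four F) → V := fun w => (w 0 : F) • c + (w 1 : F) • d + (w 2 : F) • r
    have hemb : ∀ w, Rat φ φ₂ θ₁ (emb w) := fun w =>
      ((hc.smul (w 0).2).add (hd.smul (w 1).2)).add (hr.smul (w 2).2)
    have hemb0 : ∀ w, emb w = 0 → w = 0 := fun w e' => by
      obtain ⟨h0, h1, h2⟩ := f.indep e'
      funext i
      fin_cases i <;>
        first | exact ZeroMemClass.coe_eq_zero.1 h0 | exact ZeroMemClass.coe_eq_zero.1 h1 | exact ZeroMemClass.coe_eq_zero.1 h2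
    let back : ∀ v : V, Rat φ φ₂ θ₁ v → (Fin 3 → four F) :=
      fun v hv => ![⟨_, hv.1⟩, ⟨_, hv.2.1⟩, ⟨_, hv.2.2⟩]
    have hback : ∀ v hv, emb (back v hv) = v := fun v hv => by
      simpa [emb, back] using f.decomp v
    have hR21 : ∀ v : V, (R ^ 21) *ᵥ v = 0 → v = 0 := fun v e' => by
      by_contra hv
      rw [hRval, Matrix.smul_mulVec] at e'
      exact smul_ne_zero (pow_ne_zero _ (inv_ne_zero hs₁)) (apply_ne_zero hv) e'
    let σ : S → S := fun w => ⟨back _ (hRpow 21 _ (hemb w.1)), fun e' => w.2 (hemb0 _ (hR21 _ (by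
      rw [← hback _ (hRpow 21 _ (hemb w.1)), e']; simp [emb])))⟩
    have hembinj : Function.Injective emb := fun a b e' => by
      have : emb (a - b) = 0 := by
        simp only [emb, Pi.sub_apply] at e' ⊢
        push_cast
        linear_combination (norm := module) e'
      exact sub_eq_zero.1 (hemb0 _ this)
    have hσ : ∀ w, emb (σ w).1 = (R ^ 21) *ᵥ emb w.1 := fun w => hback _ (hRpow 21 _ (hemb w.1))
    have hσn : ∀ (n : ℕ) w, emb (σ^[n] w).1 = ((R ^ 21) ^ n) *ᵥ emb w.1 := fun n => by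
      induction n with
      | zero => intro w; simp
      | succ n ih => intro w; rw [Function.iterate_succ_apply', hσ, ih, Matrix.mulVec_mulVec, ← pow_succ']
    have h13 : ∀ w, σ^[13] w = w := fun w => Subtype.ext (hembinj (by
      rw [hσn, ← pow_mul, show 21 * 13 = 273 from rfl, hRval, hu273, hl273, Units.val_one, one_smul,
        Matrix.one_mulVec]))
    let P : Equiv.Perm S :=
      { toFun := σ
        invFun := σ^[12]
        left_inv := fun w => (Function.iterate_succ_apply σ 12 w).symm.trans (h13 w)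
        right_inv := fun w => (Function.iterate_succ_apply' σ 12 w).symm.trans (h13 w) }
    haveI : Fact (Nat.Prime 13) := ⟨by norm_num⟩
    have hcard : Fintype.card S = 63 := by
      rw [Fintype.card_subtype_compl, Fintype.card_fun, Fintype.card_fin, ← Nat.card_eq_fintype_card,
        card_four hb₀, Fintype.card_subtype_eq]
      norm_num
    obtain ⟨w, hw⟩ := Equiv.Perm.exists_fixed_point_of_prime (p := 13) (n := 1) (σ := P)
      (by rw [hcard]; norm_num) (Equiv.ext fun w => by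
        rw [pow_one, Equiv.Perm.coe_pow]; exact h13 w)
    refine ⟨emb w.1, fun e' => w.2 (hemb0 _ e'), ?_⟩
    rw [← hσ]
    exact congrArg (fun z : S => emb z.1) hw
  rw [hRval, Matrix.smul_mulVec] at hwfix
  have h21 : ((u ^ 21 : GL (Fin 3) F) : M₃) = (s₁ ^ 21) • (1 : M₃) :=
    eq_of_apply hK ((mem_Kx hK).1 (pow_mem huK 21)) (Subalgebra.smul_mem _ (one_mem _) _) hw0 (by
      rw [Matrix.smul_mulVec, Matrix.one_mulVec]
      conv_rhs => rw [← hwfix]
      rw [smul_smul, inv_pow, mul_inv_cancel₀ (pow_ne_zero _ hs₁), one_smul])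
  have h7 : ((u ^ 7 : GL (Fin 3) F) : M₃) * (((s₁ ^ 21) ^ 4) • 1) = μ • 1 := by
    rw [← hμ, show u ^ 91 = u ^ 7 * (u ^ 21) ^ 4 by rw [← pow_mul, ← pow_add], Units.val_mul,
      Units.val_pow_eq_pow_val (u ^ 21), h21, smul_pow, one_pow]
  refine ⟨((s₁ ^ 21) ^ 4)⁻¹ * μ, ?_⟩
  rw [mul_smul, ← h7, mul_smul_comm, mul_one, smul_smul,
    inv_mul_cancel₀ (pow_ne_zero _ (pow_ne_zero _ hs₁)), one_smul]

/-- The small case does not occur. -/
theorem Small.false_of_dbl (h : Small K M) (hc : Dbl M c) : False := by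
  classical
  have hK := h.over'.deg
  obtain ⟨d, r, φ, φ₂, θ₁, f⟩ := h.exists_frame' hc
  have h16 := f.sixteen h
  obtain ⟨ψ, b, hψ, hψc, hψd, hψr, hb⟩ := f.quad h
  have hψ0 : ψ ≠ 0 := fun e => by simp [e] at hψc
  have hb0 : b ≠ 0 := fun e => by rw [e] at hb; simp at hb
  have hb1 : b + 1 ≠ 0 := fun e => by
    rw [CharTwo.add_eq_zero.1 e, one_pow, CharTwo.add_self_eq_zero] at hb
    exact one_ne_zero hb
  obtain ⟨y, hy, hdy, hψy, hiy⟩ := h.exists_other f.dbld hψ0 hψ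
  have hdm : d ∈ six c d r := by simp [six]
  have hexp : ∀ e ∈ six c d r, ∃ s : F, s ≠ 0 ∧ ∃ u ∈ M, u ∈ Kx K ∧ (u : M₃) *ᵥ c = s • e ∧
      ∃ t : F, ((u ^ 7 : GL (Fin 3) F) : M₃) = t • 1 := by
    intro e he
    obtain ⟨s, hs, u, hu, huK, hes⟩ := h.over'.exists_of_orb (f.six_orb h he)
    have hue : (u : M₃) *ᵥ c = s⁻¹ • e := by rw [hes, inv_smul_smul₀ hs]
    exact ⟨s⁻¹, inv_ne_zero hs, u, hu, huK, hue, f.pow_seven h hu huK he (inv_ne_zero hs) hue⟩
  -- the point on the new axis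
  obtain ⟨sd, hsd, ud, hud, hudK, hudc, td, htd⟩ := hexp d hdm
  have hnby : Nb M c (((ud⁻¹ : GL (Fin 3) F) : M₃) *ᵥ y) := by
    have h1 : Nb M ((ud : M₃) *ᵥ c) y := by
      rw [hudc]
      exact Nb.smul ⟨hiy, hy, ψ, hψ0, hψ, hψy⟩ hsd
    have h2 := h1.conj (inv_mem hud)
    rwa [inv_mulVec_cancel] at h2
  obtain ⟨e₁, he₁, t₁, ht₁, hye⟩ := f.nb_cases h hnby
  obtain ⟨se, hse, ue, -, hueK, huec, te, hte⟩ := hexp e₁ he₁
  have hyu : (((ud * ue : GL (Fin 3) F)) : M₃) *ᵥ c = (se / t₁) • y := by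
    rw [Units.val_mul, ← Matrix.mulVec_mulVec, huec, Matrix.mulVec_smul,
      show e₁ = t₁⁻¹ • (((ud⁻¹ : GL (Fin 3) F) : M₃) *ᵥ y) by rw [hye, inv_smul_smul₀ ht₁],
      Matrix.mulVec_smul, mulVec_inv_cancel, smul_smul, div_eq_mul_inv]
  -- eight elements with scalar seventh powers
  obtain ⟨v, hv⟩ : ∃ v : Fin 8 → V, v = ![c, d, c + d, r, c + r, d + r, c + (d + r), y] := ⟨_, rfl⟩
  have hvec : ∀ i, ∃ (a : Kx K) (s : F), s ≠ 0 ∧ (((a : GL (Fin 3) F)) : M₃) *ᵥ c = s • v i ∧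
      ∃ t : F, (((a : GL (Fin 3) F) ^ 7 : GL (Fin 3) F) : M₃) = t • 1 := by
    have hmem : ∀ e ∈ six c d r, ∃ (a : Kx K) (s : F), s ≠ 0 ∧ (((a : GL (Fin 3) F)) : M₃) *ᵥ c = s • e ∧
        ∃ t : F, (((a : GL (Fin 3) F) ^ 7 : GL (Fin 3) F) : M₃) = t • 1 := fun e he => by
      obtain ⟨s, hs, u, -, huK, hue, t, ht⟩ := hexp e he
      exact ⟨⟨u, huK⟩, s, hs, hue, t, ht⟩
    intro i
    rw [hv]
    fin_cases i
    · exact ⟨1, 1, one_ne_zero, by simp, 1, by simp⟩
    · exact hmem _ (by simp [six])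
    · exact hmem _ (by simp [six])
    · exact hmem _ (by simp [six])
    · exact hmem _ (by simp [six])
    · exact hmem _ (by simp [six])
    · exact hmem _ (by simp [six])
    · refine ⟨⟨ud * ue, mul_mem hudK hueK⟩, se / t₁, div_ne_zero hse ht₁, hyu, td * te, ?_⟩
      show (((ud * ue) ^ 7 : GL (Fin 3) F) : M₃) = _
      rw [(show Commute ud ue from Kx_comm hK hudK hueK).mul_pow, Units.val_mul, htd, hte, smul_mul_smul_comm,
        one_mul]
  choose a s hs ha t ht using hvec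
  have hprop : ∀ i j (w : F), v i = w • v j → i = j := by
    intro i j w e
    have hv0 : v i ≠ 0 := fun e' => apply_ne_zero (g := (a i : GL (Fin 3) F)) hc.1 (by
      rw [ha i, e', smul_zero])
    have hw : w ≠ 0 := fun e' => hv0 (by rw [e, e', zero_smul])
    obtain ⟨N, hNdef⟩ : ∃ N : Fin 7 → Fin 3 → ℕ,
        N = ![![1, 0, 0], ![0, 1, 0], ![1, 1, 0], ![0, 0, 1], ![1, 0, 1], ![0, 1, 1], ![1, 1, 1]] := ⟨_, rfl⟩
    have hN : ∀ i k, N i k = 0 ∨ N i k = 1 := by subst hNdef; decide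
    have hN1 : ∀ i, ∃ k, N i k = 1 := by subst hNdef; decide
    have hNinj : ∀ i j, (∀ k, N i k = N j k) → i = j := by subst hNdef; decide
    have hco : ∀ (i : Fin 7) k, ![θ₁ ⬝ᵥ v i.castSucc, φ₂ ⬝ᵥ v i.castSucc, φ ⬝ᵥ v i.castSucc] k = (N i k : F) := by
      intro i k
      subst hv hNdef
      fin_cases i <;> fin_cases k <;>
        simp [dotProduct_add, f.φc, f.φd, f.φr, f.ac, f.ad, f.ar, f.bc, f.bd, f.br]
    have hψn : ∀ i : Fin 7, i ≠ 1 → ψ ⬝ᵥ v i.castSucc ≠ 0 := by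
      intro i hi
      subst hv
      fin_cases i
      · simp [hψc]
      · exact absurd rfl hi
      · simp [dotProduct_add, hψc, hψd]
      · simp [hψr, hb0]
      · simp [dotProduct_add, hψc, hψr, add_comm (1 : F) b, hb1]
      · simp [dotProduct_add, hψd, hψr, hb0]
      · simp [dotProduct_add, hψc, hψd, hψr, add_comm (1 : F) b, hb1]
    have hv7 : v (Fin.last 7) = y := by subst hv; rfl
    have hv1 : v (Fin.castSucc (1 : Fin 7)) = d := by subst hv; rfl
    have hlast : ∀ (i : Fin 7) (w : F), w ≠ 0 → v i.castSucc ≠ w • y := fun i w hw e => by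
      by_cases hi : i = 1
      · subst hi
        rw [hv1] at e
        exact hiy.not_smul w⁻¹ (by rw [e, inv_smul_smul₀ hw])
      · exact hψn i hi (by rw [e, dotProduct_smul, hψy, smul_zero])
    rcases Fin.eq_castSucc_or_eq_last i with ⟨i, rfl⟩ | rfl <;> rcases Fin.eq_castSucc_or_eq_last j with ⟨j, rfl⟩ | rfl
    · refine congrArg Fin.castSucc (hNinj i j fun k => ?_)
      have hk : ∀ k, (N i k : F) = w * (N j k : F) := fun k => by
        rw [← hco, ← hco]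
        fin_cases k <;> simp [e, dotProduct_smul]
      obtain ⟨k₀, hk₀⟩ := hN1 j
      have h1 := hk k₀
      rw [hk₀, Nat.cast_one, mul_one] at h1
      have hw1 : w = 1 := by
        rcases hN i k₀ with h0 | h0 <;> rw [h0] at h1
        · exact absurd h1.symm (by simpa using hw)
        · simpa using h1.symm
      have h2 := hk k
      rw [hw1, one_mul] at h2
      rcases hN i k with p | p <;> rcases hN j k with q | q <;> rw [p, q] at h2 ⊢ <;> simp at h2
    · rw [hv7] at e; exact absurd e (hlast i w hw)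
    · rw [hv7] at e; exact absurd (by rw [e, inv_smul_smul₀ hw]) (hlast j w⁻¹ (inv_ne_zero hw))
    · rfl
  choose z hz hzt using fun t : Fˣ => exists_scalar hK t.ne_zero
  have hpow : ∀ (x : Fin 8 × Fˣ), ((z x.2 : GL (Fin 3) F) * (a x.1 : GL (Fin 3) F)) ^ 105 = 1 := by
    intro ⟨i, u⟩
    have ht0 : t i ≠ 0 := fun e => ((a i : GL (Fin 3) F) ^ 7).ne_zero (by rw [ht i, e, zero_smul])
    have hq : ∀ w : F, w ≠ 0 → w ^ 15 = 1 := fun w hw => by
      have h1 := FiniteField.pow_card_sub_one_eq_one w hw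
      rwa [h16] at h1
    show (z u * (a i : GL (Fin 3) F)) ^ 105 = 1
    rw [(show Commute (z u) (a i : GL (Fin 3) F) from Kx_comm hK (hz u) (a i).2).mul_pow]
    refine Units.ext ?_
    rw [Units.val_mul, show (a i : GL (Fin 3) F) ^ 105 = ((a i : GL (Fin 3) F) ^ 7) ^ 15 by rw [← pow_mul],
      Units.val_pow_eq_pow_val (z u), Units.val_pow_eq_pow_val ((a i : GL (Fin 3) F) ^ 7), hzt, ht, smul_pow,
      smul_pow, one_pow, one_pow, show (u : F) ^ 105 = ((u : F) ^ 15) ^ 7 by rw [← pow_mul], hq _ u.ne_zero,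
      one_pow, hq _ ht0, one_smul, one_mul, Units.val_one]
  have hle := (Nat.card_le_card_of_injective (fun x : Fin 8 × Fˣ =>
    (⟨⟨z x.2 * (a x.1 : GL (Fin 3) F), mul_mem (hz x.2) (a x.1).2⟩, Subtype.ext (hpow x)⟩ :
      {g : Kx K // g ^ 105 = 1})) (fun x x' e => ?_)).trans (card_pow_eq_one_le hK (by norm_num))
  · rw [Nat.card_prod, Nat.card_eq_fintype_card (α := Fin 8), Fintype.card_fin,
      Nat.card_eq_fintype_card (α := Fˣ), Fintype.card_units, h16] at hle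
    norm_num at hle
  · have e1 : z x.2 * (a x.1 : GL (Fin 3) F) = z x'.2 * (a x'.1 : GL (Fin 3) F) :=
      congrArg (fun g : {g : Kx K // g ^ 105 = 1} => ((g.1 : Kx K) : GL (Fin 3) F)) e
    have e2 := congrArg (fun g : GL (Fin 3) F => (g : M₃) *ᵥ c) e1
    simp only [Units.val_mul, hzt, smul_mul_assoc, one_mul, Matrix.smul_mulVec, ha, smul_smul] at e2
    have hne : (x.2 : F) * s x.1 ≠ 0 := mul_ne_zero x.2.ne_zero (hs _)
    have hij : x.1 = x'.1 := hprop _ _ (((x.2 : F) * s x.1)⁻¹ * ((x'.2 : F) * s x'.1)) (by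
      rw [mul_smul, ← e2, inv_smul_smul₀ hne])
    refine Prod.ext hij (Units.ext ?_)
    rw [hij] at e2
    have hv0 : v x'.1 ≠ 0 := fun e' => apply_ne_zero (g := (a x'.1 : GL (Fin 3) F)) hc.1 (by
      rw [ha, e', smul_zero])
    exact mul_right_cancel₀ (hs x'.1) (smul_left_injective F hv0 e2)

end Cfsg.Agent.Classical.SLThree.Singer
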