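import Cfsg.Agent.Lib.Classical.SLThree.SingerLine

/-!
Few unipotent elements on every axis: each axis has exactly three normalised centres and the field has sixteen
elements.
-/

set_option autoImplicit false
set_option linter.unusedSectionVars false

namespace Cfsg.Agent.Classical.SLThree.Singer

open Matrix Module MaxTv SLThree Cfsg.Agent.PSL2Spec

variable {F : Type*} [Field F] [Fintype F] [CharP F 2] {K : Subalgebra F (Matrix (Fin 3) (Fin 3) F)}
  {M : Subgroup (GL (Fin 3) F)} {c d x y φ θ : Fin 3 → F}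

local notation "V" => (Fin 3 → F)
local notation "M₃" => Matrix (Fin 3) (Fin 3) F

/-- A group above the normaliser that is not everything, over a field of at least eight elements. -/
structure Small (K : Subalgebra F (Matrix (Fin 3) (Fin 3) F)) (M : Subgroup (GL (Fin 3) F)) : Prop where
  over' : Over K M
  eight : 8 ≤ Fintype.card F
  proper : ¬ Geo.specialLinear (Fin 3) F ≤ M

theorem Small.values_eq (h : Small K M) (hc : Dbl M c) (hd : Dbl M d) (hi : Indep c d) (hφ : φ ≠ 0)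
    (ht : MaxTv.InT M c φ) (hφd : φ ⬝ᵥ d = 0) {θ' : V} (h1 : MaxTv.InT M c θ) (h2 : MaxTv.InT M c θ')
    (n1 : θ ⬝ᵥ d ≠ 0) (n2 : θ' ⬝ᵥ d ≠ 0) : θ ⬝ᵥ d = θ' ⬝ᵥ d := by
  classical
  by_contra hne
  refine h.proper (top_of_many h.over' h.eight hc hd hi hφ ht hφd ?_)
  obtain ⟨G, hG⟩ : ∃ G, G = (pairGroup M c d 0).map proj := ⟨_, rfl⟩
  rw [← hG]
  have hm : ∀ η, MaxTv.InT M c η → η ⬝ᵥ d ∈ upSet G := fun η hη =>
    hG ▸ Subgroup.mem_map_of_mem _ (up_mem hη (h.over'.dot_eq_zero hη))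
  have h3 : ({0, θ ⬝ᵥ d, θ' ⬝ᵥ d} : Finset F).card = 3 :=
    Finset.card_eq_three.2 ⟨_, _, _, Ne.symm n1, Ne.symm n2, hne, rfl⟩
  rw [← h3, ← Nat.card_eq_finsetCard]
  refine Nat.card_le_card_of_injective
    (fun z : ({0, θ ⬝ᵥ d, θ' ⬝ᵥ d} : Finset F) => (⟨z.1, ?_⟩ : upSet G))
    fun a b e => Subtype.ext (congrArg (fun w : upSet G => (w : F)) e)
  have hz := z.2
  simp only [Finset.mem_insert, Finset.mem_singleton] at hz
  rcases hz with hz | hz | hz <;> rw [hz]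
  · exact zero_mem _
  · exact hm _ h1
  · exact hm _ h2

theorem Small.exists_other (h : Small K M) (hc : Dbl M c) (hφ : φ ≠ 0) (ht : MaxTv.InT M c φ) :
    ∃ d, Dbl M d ∧ Orb K c d ∧ φ ⬝ᵥ d = 0 ∧ Indep c d := by
  obtain ⟨d, h1, h2, h3⟩ := h.over'.exists_second h.eight hc.1 hφ (h.over'.dot_eq_zero ht)
  exact ⟨d, hc.orb h.over' h1, h1, h2, h3⟩

/-- One functional on each axis. -/
theorem Small.ray_unique (h : Small K M) (hc : Dbl M c) (hφ : φ ≠ 0) (ht : MaxTv.InT M c φ) {s : F}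
    (hs : s ≠ 0) (ht' : MaxTv.InT M c (s • φ)) : s = 1 := by
  obtain ⟨d₁, hd₁, -, hd₁0, hi₁⟩ := h.exists_other hc hφ ht
  obtain ⟨φ₂, h2, h2d⟩ := hc.exists_axis h.over' hi₁
  have hφ₂ : φ₂ ≠ 0 := fun e => h2d (by rw [e, zero_dotProduct])
  obtain ⟨d, hd, -, hd0, hi⟩ := h.exists_other hc hφ₂ h2
  have hne : φ ⬝ᵥ d ≠ 0 := fun e => by
    obtain ⟨t, rfl⟩ := hi.functional hφ₂ (h.over'.dot_eq_zero h2) hd0 (h.over'.dot_eq_zero ht) e
    rw [smul_dotProduct, smul_eq_mul, mul_eq_zero, or_iff_left h2d] at hd₁0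
    exact hφ (by rw [hd₁0, zero_smul])
  have := h.values_eq hc hd hi hφ₂ h2 hd0 ht ht' hne (by
    rw [smul_dotProduct, smul_eq_mul]; exact mul_ne_zero hs hne)
  rw [smul_dotProduct, smul_eq_mul] at this
  exact (mul_eq_right₀ hne).1 this.symm

theorem Small.axis_cases (h : Small K M) (hc : Dbl M c) (hd : Dbl M d) (hi : Indep c d) (hφ : φ ≠ 0)
    (ht : MaxTv.InT M c φ) (hφd : φ ⬝ᵥ d = 0) {φ₂ : V} (h2 : MaxTv.InT M c φ₂) (h2d : φ₂ ⬝ᵥ d ≠ 0)
    (hθ : MaxTv.InT M c θ) : θ = 0 ∨ θ = φ ∨ θ = φ₂ ∨ θ = φ₂ + φ := by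
  have hz : ∀ η, MaxTv.InT M c η → η ⬝ᵥ d = 0 → η = 0 ∨ η = φ := fun η hη h0 => by
    obtain ⟨t, rfl⟩ := hi.functional hφ (h.over'.dot_eq_zero ht) hφd (h.over'.dot_eq_zero hη) h0
    rcases eq_or_ne t 0 with rfl | ht0
    · exact Or.inl (zero_smul _ _)
    · exact Or.inr (by rw [h.ray_unique hc hφ ht ht0 hη, one_smul])
  by_cases h0 : θ ⬝ᵥ d = 0
  · rcases hz θ hθ h0 with e | e
    · exact Or.inl e
    · exact Or.inr (Or.inl e)
  have heq := h.values_eq hc hd hi hφ ht hφd hθ h2 h0 h2d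
  rcases hz (φ₂ + θ) (h2.add_right hθ (h.over'.dot_eq_zero h2))
    (by rw [add_dotProduct, heq, CharTwo.add_self_eq_zero]) with e | e
  · exact Or.inr (Or.inr (Or.inl (by
      rw [← zero_add θ, ← add_self_v φ₂, add_assoc, e, add_zero])))
  · exact Or.inr (Or.inr (Or.inr (by rw [← e, ← add_assoc, add_self_v, zero_add])))

/-- Two normalised centres on an axis have their sum there. -/
theorem Small.step (h : Small K M) (hx : Dbl M x) (hy : Dbl M y) (hi : Indep x y) (hφ : φ ≠ 0)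
    (h1 : MaxTv.InT M x φ) (h2 : MaxTv.InT M y φ) (hθ : MaxTv.InT M y θ) (hne : θ ⬝ᵥ x ≠ 0) :
    θ ⬝ᵥ x = 1 ∧ MaxTv.InT M (x + y) φ ∧ Dbl M (x + y) := by
  have hφy := h.over'.dot_eq_zero h2
  obtain ⟨g, hg, hgx⟩ := id hθ
  have hgφ : φ ᵥ* ((g⁻¹ : GL (Fin 3) F) : M₃) = φ := dotProduct_eq _ _ fun z => by
    obtain ⟨w, rfl⟩ : ∃ w, z = (g : M₃) *ᵥ w := ⟨_, (mulVec_inv_cancel g z).symm⟩
    rw [vecMul_inv_dot, hgx, dotProduct_add, dotProduct_smul, hφy, smul_zero, add_zero]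
  have h3 := h1.conj hg
  rw [hgφ, hgx] at h3
  have h4 := h3.add_left h1 (h.over'.dot_eq_zero h1)
  rw [add_comm x, add_assoc, add_self_v, add_zero] at h4
  have h5 := h.ray_unique hy hφ h2 hne h4.scale_right
  refine ⟨h5, h1.add_left h2 hφy, ?_⟩
  have := hx.conj hg
  rwa [hgx, h5, one_smul] at this

/-- Normalise a centre. -/
theorem Small.exists_normalised (h : Small K M) (hd : Dbl M d) (hi : Indep c d) (ht : MaxTv.InT M c φ)
    (hφd : φ ⬝ᵥ d = 0) : ∃ t : F, t ≠ 0 ∧ Dbl M (t • d) ∧ MaxTv.InT M (t • d) φ ∧ Indep c (t • d) := by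
  obtain ⟨t, ht0, htd⟩ := hd.common_axis h.over' hi ht hφd
  exact ⟨t, ht0, hd.smul ht0, htd.scale_left, indep_of_not_mem hi.ne_zero fun r e =>
    hi.not_smul (r / t) (by rw [← inv_smul_smul₀ ht0 d, e, smul_smul]; congr 1; ring)⟩

/-- Three normalised centres on an axis. -/
theorem Small.three_centres (h : Small K M) (hc : Dbl M c) (hd : Dbl M d) (hi : Indep c d) (hφ : φ ≠ 0)
    (h1 : MaxTv.InT M c φ) (h2 : MaxTv.InT M d φ) {e : V} (he : Dbl M e) (h3 : MaxTv.InT M e φ) :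
    e = c ∨ e = d ∨ e = c + d := by
  by_cases hec : Indep c e
  swap
  · obtain ⟨t, rfl⟩ : ∃ t : F, e = t • c := by
      by_contra hno
      push Not at hno
      exact hec (indep_of_not_mem hc.1 hno)
    have ht0 : t ≠ 0 := (smul_ne_zero_iff.1 he.1).1
    exact Or.inl (by rw [h.ray_unique hc hφ h1 ht0 h3.scale_right, one_smul])
  by_cases hed : Indep d e
  swap
  · obtain ⟨t, rfl⟩ : ∃ t : F, e = t • d := by
      by_contra hno
      push Not at hno
      exact hed (indep_of_not_mem hd.1 hno)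
    have ht0 : t ≠ 0 := (smul_ne_zero_iff.1 he.1).1
    exact Or.inr (Or.inl (by rw [h.ray_unique hd hφ h2 ht0 h3.scale_right, one_smul]))
  obtain ⟨θ, hθ, hθc⟩ := he.exists_axis h.over' hec.symm
  obtain ⟨-, hs, hsd⟩ := h.step hc he hec hφ h1 h3 hθ hθc
  by_cases hcd : Indep d (c + e)
  swap
  · obtain ⟨t, ht⟩ : ∃ t : F, c + e = t • d := by
      by_contra hno
      push Not at hno
      exact hcd (indep_of_not_mem hd.1 hno)
    have ht0 : t ≠ 0 := (smul_ne_zero_iff.1 (ht ▸ hsd.1)).1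
    rw [ht] at hs
    rw [h.ray_unique hd hφ h2 ht0 hs.scale_right, one_smul] at ht
    exact Or.inr (Or.inr (by rw [← ht, ← add_assoc, add_self_v, zero_add]))
  exfalso
  obtain ⟨ψ, hψ, hψc⟩ := hd.exists_axis h.over' hi.symm
  have e1 := (h.step hc hd hi hφ h1 h2 hψ hψc).1
  have e2 : ψ ⬝ᵥ e = 1 ∨ ψ ⬝ᵥ e = 0 := by
    by_cases h0 : ψ ⬝ᵥ e = 0
    · exact Or.inr h0
    · exact Or.inl (h.step he hd hed.symm hφ h3 h2 hψ h0).1
  have e3 : ψ ⬝ᵥ (c + e) = 1 ∨ ψ ⬝ᵥ (c + e) = 0 := by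
    by_cases h0 : ψ ⬝ᵥ (c + e) = 0
    · exact Or.inr h0
    · exact Or.inl (h.step hsd hd hcd.symm hφ hs h2 hψ h0).1
  -- a second functional at `d`
  obtain ⟨η, hη, hηe⟩ := hd.exists_axis h.over' hed
  have f1 : η ⬝ᵥ c = 1 := by
    have hne : η ⬝ᵥ c ≠ 0 := fun e0 => by
      obtain ⟨t, rfl⟩ := hi.functional hφ (h.over'.dot_eq_zero h1) (h.over'.dot_eq_zero h2) e0
        (h.over'.dot_eq_zero hη)
      exact hηe (by rw [smul_dotProduct, h.over'.dot_eq_zero h3, smul_zero])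
    exact (h.step hc hd hi hφ h1 h2 hη hne).1
  have f2 := (h.step he hd hed.symm hφ h3 h2 hη hηe).1
  have f3 : η ⬝ᵥ (c + e) = 0 := by rw [dotProduct_add, f1, f2, CharTwo.add_self_eq_zero]
  -- it kills two independent points of the axis
  obtain ⟨t, rfl⟩ := hcd.functional hφ (h.over'.dot_eq_zero h2) (h.over'.dot_eq_zero hs)
    (h.over'.dot_eq_zero hη) f3
  exact hηe (by rw [smul_dotProduct, h.over'.dot_eq_zero h3, smul_zero])

/-- Sixteen elements, and one orbit on each axis. -/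
theorem Small.sixteen (h : Small K M) (hc : Dbl M c) (hd : Dbl M d) (hi : Indep c d) (hφ : φ ≠ 0)
    (h1 : MaxTv.InT M c φ) (h2 : MaxTv.InT M d φ) :
    Fintype.card F = 16 ∧ ∀ e, Dbl M e → φ ⬝ᵥ e = 0 → Orb K c e := by
  classical
  have hle : ∀ e, Dbl M e → (lines K e φ).ncard ≤ 2 + 1 := by
    intro e he
    have hsum : c + d ≠ 0 := fun e' => hi.not_smul 1 (by
      rw [one_smul, ← add_zero d, ← add_self_v c, add_comm c c, ← add_assoc, add_comm d c, e', zero_add])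
    refine le_trans (Set.ncard_le_ncard (t := {Projectivization.mk F c hc.1, Projectivization.mk F d hd.1,
      Projectivization.mk F (c + d) hsum}) fun p hp => ?_) ?_
    · have hpd : Dbl M p.rep := he.orb h.over' hp.2
      rw [← p.mk_rep]
      by_cases hcp : Indep c p.rep
      · obtain ⟨t, ht0, htd, htp, -⟩ := h.exists_normalised hpd hcp h1 hp.1
        rcases h.three_centres hc hd hi hφ h1 h2 htd htp with e' | e' | e'
        · exact Or.inl ((mk_eq_mk _ _).2 ⟨t⁻¹, by rw [← e', inv_smul_smul₀ ht0]⟩)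
        · exact Or.inr (Or.inl ((mk_eq_mk _ _).2 ⟨t⁻¹, by rw [← e', inv_smul_smul₀ ht0]⟩))
        · exact Or.inr (Or.inr ((mk_eq_mk _ _).2 ⟨t⁻¹, by rw [← e', inv_smul_smul₀ ht0]⟩))
      · obtain ⟨t, ht⟩ : ∃ t : F, p.rep = t • c := by
          by_contra hno
          push Not at hno
          exact hcp (indep_of_not_mem hc.1 hno)
        exact Or.inl ((mk_eq_mk _ _).2 ⟨t, ht.symm⟩)
    · refine (Set.ncard_insert_le _ _).trans ?_
      refine Nat.succ_le_succ ((Set.ncard_insert_le _ _).trans ?_)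
      rw [Set.ncard_singleton]
  obtain ⟨m, -, hm⟩ := FiniteField.card F 2
  have h4 : 2 * 2 ≤ Fintype.card F := by have := h.eight; omega
  obtain ⟨h16, -, hoth⟩ := few_points h.over'.deg hc.1 hφ (hle c hc) h4 hm h.eight
  refine ⟨h16, fun e he _ => ?_⟩
  rcases hoth e he.1 with h' | h'
  · exact h'
  · have := hle e he
    omega

end Cfsg.Agent.Classical.SLThree.Singer
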