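import Cfsg.Agent.Lib.Classical.SLThree.SingerBase
import Cfsg.Agent.Lib.Classical.SLThree.HessianLinear

/-!
A group properly above the normaliser of a Singer cycle contains a transvection.
-/

set_option autoImplicit false
set_option linter.unusedSectionVars false

namespace Cfsg.Agent.Classical.SLThree.Singer

open Matrix Module MaxTv SLThree

variable {F : Type*} [Field F]

local notation "V" => (Fin 3 → F)
local notation "M₃" => Matrix (Fin 3) (Fin 3) F

theorem linearIndependent_three {a b c : V}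
    (h : ∀ x y z : F, x • a + y • b + z • c = 0 → x = 0 ∧ y = 0 ∧ z = 0) : LinearIndependent F ![a, b, c] :=
  Fintype.linearIndependent_iff.2 fun f hf i => by
    obtain ⟨h0, h1, h2⟩ := h (f 0) (f 1) (f 2) (by simpa [Fin.sum_univ_three] using hf)
    fin_cases i <;> assumption

/-- The matrix with three given independent columns. -/
theorem exists_columns {a b c : V} (h : ∀ x y z : F, x • a + y • b + z • c = 0 → x = 0 ∧ y = 0 ∧ z = 0) :
    ∃ D : GL (Fin 3) F, ∀ i, (D : M₃) *ᵥ Pi.single i 1 = ![a, b, c] i := by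
  have hli := linearIndependent_three h
  obtain ⟨A, hA⟩ : ∃ A : M₃, A = Matrix.of fun i j => ![a, b, c] j i := ⟨_, rfl⟩
  have hu : IsUnit A := Matrix.linearIndependent_cols_iff_isUnit.1 (by subst hA; exact hli)
  obtain ⟨D, hD⟩ := hu
  refine ⟨D, fun i => funext fun j => ?_⟩
  rw [hD, Matrix.mulVec_single_one, hA]
  rfl

/-- `M` has the homology with centre `c` and axis the zeros of `φ`. -/
def Hom (M : Subgroup (GL (Fin 3) F)) (c φ : Fin 3 → F) : Prop :=
  ∃ g ∈ M, ∀ x, (g : Matrix (Fin 3) (Fin 3) F) *ᵥ x = -x + (2 * (φ ⬝ᵥ x)) • c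

variable {M : Subgroup (GL (Fin 3) F)} {c d φ ψ : Fin 3 → F}

theorem Hom.conj (h : Hom M c φ) {g : GL (Fin 3) F} (hg : g ∈ M) :
    Hom M ((g : M₃) *ᵥ c) (φ ᵥ* ((g⁻¹ : GL (Fin 3) F) : M₃)) := by
  obtain ⟨t, ht, htx⟩ := h
  refine ⟨g * t * g⁻¹, mul_mem (mul_mem hg ht) (inv_mem hg), fun x => ?_⟩
  rw [Units.val_mul, Units.val_mul, ← Matrix.mulVec_mulVec, ← Matrix.mulVec_mulVec, htx, Matrix.mulVec_add,
    Matrix.mulVec_neg, mulVec_inv_cancel, Matrix.mulVec_smul, Matrix.dotProduct_mulVec]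

/-- An asymmetric incidence gives a transvection. -/
theorem Hom.asym (h₁ : Hom M c φ) (h₂ : Hom M d ψ) (hc : φ ⬝ᵥ c = 1) (hd : ψ ⬝ᵥ d = 1) (h0 : φ ⬝ᵥ d = 0) :
    MaxTv.InT M d ((-4 * (ψ ⬝ᵥ c)) • φ) := by
  obtain ⟨s, hs, hsx⟩ := h₁
  obtain ⟨t, ht, htx⟩ := h₂
  have hss : ∀ x, (s : M₃) *ᵥ ((s : M₃) *ᵥ x) = x := fun x => by
    rw [hsx, hsx]
    simp only [dotProduct_add, dotProduct_neg, dotProduct_smul, hc, smul_eq_mul, mul_one]
    module
  refine ⟨t * (s * t * s), mul_mem ht (mul_mem (mul_mem hs ht) hs), fun x => ?_⟩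
  rw [Units.val_mul, Units.val_mul, Units.val_mul]
  simp only [← Matrix.mulVec_mulVec]
  rw [htx ((s : M₃) *ᵥ x), Matrix.mulVec_add, Matrix.mulVec_neg, hss, Matrix.mulVec_smul, hsx d, hsx x, h0, htx]
  simp only [dotProduct_add, dotProduct_neg, dotProduct_smul, smul_dotProduct, smul_eq_mul, hd, mul_one, mul_zero,
    zero_smul, add_zero]
  module

/-- The shape of an involution. -/
theorem exists_hom (h2 : (2 : F) ≠ 0) {t : GL (Fin 3) F} (hd : (t : M₃).det = 1) (ht : t * t = 1) (ht1 : t ≠ 1) :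
    ∃ c φ : V, φ ⬝ᵥ c = 1 ∧ ∀ x, (t : M₃) *ᵥ x = -x + (2 * (φ ⬝ᵥ x)) • c := by
  have htt : ∀ x, (t : M₃) *ᵥ ((t : M₃) *ᵥ x) = x := fun x => by
    rw [Matrix.mulVec_mulVec, ← Units.val_mul, ht, Units.val_one, Matrix.one_mulVec]
  have hfix : ∀ x, (t : M₃) *ᵥ (x + (t : M₃) *ᵥ x) = x + (t : M₃) *ᵥ x := fun x => by
    rw [Matrix.mulVec_add, htt, add_comm]
  obtain ⟨z, hz⟩ : ∃ z, z + (t : M₃) *ᵥ z ≠ 0 := by
    by_contra hc
    push Not at hc
    have he : (t : M₃) = -1 := Matrix.ext_iff_mulVec.2 fun x => by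
      rw [Matrix.neg_mulVec, Matrix.one_mulVec, eq_neg_iff_add_eq_zero, add_comm, hc]
    rw [he, Matrix.det_neg, Fintype.card_fin, Matrix.det_one] at hd
    exact h2 (by linear_combination -hd)
  obtain ⟨c, hc⟩ : ∃ c, c = z + (t : M₃) *ᵥ z := ⟨_, rfl⟩
  rw [← hc] at hz
  have htc : (t : M₃) *ᵥ c = c := hc ▸ hfix z
  have hline : ∀ x, ∃ s : F, x + (t : M₃) *ᵥ x = s • c := by
    intro x
    by_contra hne
    push Not at hne
    obtain ⟨w, hw⟩ : ∃ w, w - (t : M₃) *ᵥ w ≠ 0 := by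
      by_contra hall
      push Not at hall
      exact ht1 (Units.ext (Matrix.ext_iff_mulVec.2 fun w => by
        rw [Units.val_one, Matrix.one_mulVec]; exact (sub_eq_zero.1 (hall w)).symm))
    obtain ⟨b, hb⟩ : ∃ b, b = x + (t : M₃) *ᵥ x := ⟨_, rfl⟩
    obtain ⟨a, ha⟩ : ∃ a, a = w - (t : M₃) *ᵥ w := ⟨_, rfl⟩
    rw [← hb] at hne; rw [← ha] at hw
    have hta : (t : M₃) *ᵥ a = -a := by rw [ha, Matrix.mulVec_sub, htt, neg_sub]
    have htb : (t : M₃) *ᵥ b = b := hb ▸ hfix x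
    obtain ⟨D, hD⟩ := exists_columns (a := c) (b := b) (c := a) fun p q r e => by
      have e' := congrArg ((t : M₃) *ᵥ ·) e
      simp only [Matrix.mulVec_add, Matrix.mulVec_smul, htc, htb, hta, Matrix.mulVec_zero] at e'
      have hra : ((2 : F) * r) • a = 0 := by linear_combination (norm := module) e - e'
      have hr : r = 0 := (mul_eq_zero.1 ((smul_eq_zero.1 hra).resolve_right hw)).resolve_left h2
      subst hr
      rw [zero_smul, add_zero] at e
      have hq : q = 0 := by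
        by_contra hq
        refine hne (-(q⁻¹ * p)) ?_
        have h1 : q⁻¹ • (p • c + q • b) = 0 := by rw [e, smul_zero]
        rw [smul_add, smul_smul, smul_smul, inv_mul_cancel₀ hq, one_smul] at h1
        rw [neg_smul]; exact eq_neg_of_add_eq_zero_right h1
      subst hq
      rw [zero_smul, add_zero] at e
      exact ⟨(smul_eq_zero.1 e).resolve_right hz, rfl, rfl⟩
    have hdiag : (t : M₃) * (D : M₃) = (D : M₃) * Matrix.diagonal ![1, 1, -1] := by
      refine Matrix.ext_of_mulVec_single fun i => ?_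
      have hs : Matrix.diagonal ![(1 : F), 1, -1] *ᵥ Pi.single i 1 = ![(1 : F), 1, -1] i • Pi.single i 1 := by
        funext l
        rw [Matrix.mulVec_diagonal]
        by_cases hl : l = i
        · subst hl; simp
        · simp [hl]
      rw [← Matrix.mulVec_mulVec, ← Matrix.mulVec_mulVec, hs, Matrix.mulVec_smul, hD]
      fin_cases i <;> simp [htc, htb, hta]
    have h3 := congrArg Matrix.det hdiag
    rw [Matrix.det_mul, Matrix.det_mul, hd, one_mul, Matrix.det_diagonal, Fin.prod_univ_three] at h3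
    simp at h3
    exact h2 (mul_left_cancel₀ D.det_ne_zero (by linear_combination h3))
  obtain ⟨i, hi⟩ : ∃ i, c i ≠ 0 := by
    by_contra hall
    push Not at hall
    exact hz (funext hall)
  obtain ⟨ψ, hψ⟩ : ∃ ψ, ψ = (c i)⁻¹ • ((1 : M₃) + (t : M₃)) i := ⟨_, rfl⟩
  have hform : ∀ x, x + (t : M₃) *ᵥ x = (ψ ⬝ᵥ x) • c := fun x => by
    obtain ⟨s, hs⟩ := hline x
    have h1 : s * c i = ((1 : M₃) + (t : M₃)) i ⬝ᵥ x := by
      have := congrFun hs i
      rw [Pi.smul_apply, smul_eq_mul] at this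
      rw [← this]
      show (x + (t : M₃) *ᵥ x) i = (((1 : M₃) + (t : M₃)) *ᵥ x) i
      rw [Matrix.add_mulVec, Matrix.one_mulVec]
    rw [hs, hψ, smul_dotProduct, ← h1, smul_eq_mul]
    congr 1
    field_simp
  have hψc : ψ ⬝ᵥ c = 2 := by
    have h1 := hform c
    rw [htc, ← two_smul F c] at h1
    exact (smul_left_injective F hz h1).symm
  refine ⟨c, (2⁻¹ : F) • ψ, by rw [smul_dotProduct, hψc, smul_eq_mul, inv_mul_cancel₀ h2], fun x => ?_⟩
  rw [smul_dotProduct, smul_eq_mul, ← mul_assoc, mul_inv_cancel₀ h2, one_mul, ← hform x]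
  abel

variable [Fintype F] {K : Subalgebra F (Matrix (Fin 3) (Fin 3) F)}

theorem Over.exists_transvection (h : Over K M) {g : GL (Fin 3) F} (hg : g ∈ M)
    (hgn : g ∉ Geo.subalgebraNormalizer K ⊓ Geo.specialLinear (Fin 3) F) :
    ∃ v φ : V, v ≠ 0 ∧ φ ≠ 0 ∧ MaxTv.InT M v φ := by
  obtain ⟨t, ht, htt, ht1⟩ := h.exists_involution hg hgn
  by_cases h2 : (2 : F) = 0
  · obtain ⟨v, φ, -, hN⟩ := Hessian.exists_rankOne_of_sq (N := (t : M₃) - 1) (by
      have : (t : M₃) * t = 1 := by rw [← Units.val_mul, htt, Units.val_one]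
      rw [sub_mul, mul_sub, mul_sub, this, one_mul, mul_one, one_mul, show (1 : M₃) - t - (t - 1) = (2 : F) • (1 - (t : M₃))
        by module, h2, zero_smul])
    have hx : ∀ x, (t : M₃) *ᵥ x = x + (φ ⬝ᵥ x) • v := fun x => by
      rw [← hN, Matrix.sub_mulVec, Matrix.one_mulVec]; abel
    refine ⟨v, φ, fun e => ?_, fun e => ?_, t, ht, hx⟩ <;>
      exact ht1 (Units.ext (Matrix.ext_iff_mulVec.2 fun x => by simp [hx, e]))
  obtain ⟨c, φ, hc, hform⟩ := exists_hom h2 (h.det ht) htt ht1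
  have hc0 : c ≠ 0 := fun e => by rw [e, dotProduct_zero] at hc; exact zero_ne_one hc
  have hφ0 : φ ≠ 0 := fun e => by rw [e, zero_dotProduct] at hc; exact zero_ne_one hc
  have hH : Hom M c φ := ⟨t, ht, hform⟩
  by_cases hsym : ∀ a ∈ Kx K, Orb K c ((a : M₃) *ᵥ c) → φ ⬝ᵥ ((a : M₃) *ᵥ c) = 0 →
      φ ⬝ᵥ (((a⁻¹ : GL (Fin 3) F) : M₃) *ᵥ c) = 0
  · exfalso
    have hle := ncard_le_two h.deg hc0 hφ0 hsym
    refine false_of_none_or_two h.deg hc0 hφ0 h.four ?_
    suffices (lines K c φ).ncard ≠ 1 by omega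
    intro h1
    obtain ⟨p, hp⟩ := Set.ncard_eq_one.1 h1
    have hpm : p ∈ lines K c φ := by rw [hp]; rfl
    obtain ⟨a, ha, s, hs, hd, hap⟩ := hpm.2
    have h0 : φ ⬝ᵥ ((a : M₃) *ᵥ c) = 0 := hap ▸ hpm.1
    have horb : Orb K c ((a : M₃) *ᵥ c) := hap ▸ hpm.2
    have horb' : Orb K c (((a⁻¹ : GL (Fin 3) F) : M₃) *ᵥ c) :=
      ⟨a⁻¹, inv_mem ha, s⁻¹, inv_ne_zero hs, by
        have h1 := congrArg Matrix.det a.inv_mul
        rw [Matrix.det_mul, hd, Matrix.det_one] at h1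
        rw [inv_pow]
        exact eq_inv_of_mul_eq_one_left h1, rfl⟩
    have hz' := hsym a ha horb h0
    have e1 := (mk_mem_lines h.deg (φ := φ) (c := c) (apply_ne_zero (g := a⁻¹) hc0)).2 ⟨hz', horb'⟩
    have e2 := (mk_mem_lines h.deg (φ := φ) (c := c) (apply_ne_zero (g := a) hc0)).2 ⟨h0, horb⟩
    rw [hp, Set.mem_singleton_iff] at e1 e2
    obtain ⟨w, hw⟩ := (mk_eq_mk (apply_ne_zero (g := a⁻¹) hc0) (apply_ne_zero (g := a) hc0)).1 (e1.trans e2.symm)
    have hm : ((a⁻¹ : GL (Fin 3) F) : M₃) = w • (a : M₃) := eq_of_apply h.deg ((mem_Kx h.deg).1 (inv_mem ha))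
      (Subalgebra.smul_mem _ ((mem_Kx h.deg).1 ha) w) hc0 (by rw [← hw, Matrix.smul_mulVec])
    have hans : ∀ r : F, (a : M₃) ≠ r • 1 := fun r e => by
      rw [e, Matrix.smul_mulVec, Matrix.one_mulVec, dotProduct_smul, hc, smul_eq_mul, mul_one] at h0
      exact a.ne_zero (by rw [e, h0, zero_smul])
    have := indep_pow h.deg ((mem_Kx h.deg).1 ha) hans (a := (-1 : F)) (b := 0) (c := w) (by
      rw [← mul_smul_comm, ← hm, Units.mul_inv]; simp)
    exact one_ne_zero (α := F) (neg_eq_zero.1 this.1)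
  push Not at hsym
  obtain ⟨a, ha, horb, h0, hne⟩ := hsym
  obtain ⟨s, hs, u, hu, huK, he⟩ := h.exists_of_orb horb
  have hau : (a : M₃) = s • (u : M₃) := eq_of_apply h.deg ((mem_Kx h.deg).1 ha)
    (Subalgebra.smul_mem _ ((mem_Kx h.deg).1 huK) s) hc0 (by rw [he, Matrix.smul_mulVec])
  have hd0 : φ ⬝ᵥ ((u : M₃) *ᵥ c) = 0 := by
    rw [he, dotProduct_smul, smul_eq_mul, mul_eq_zero] at h0
    exact h0.resolve_left hs
  have hinv : ((a⁻¹ : GL (Fin 3) F) : M₃) = s⁻¹ • ((u⁻¹ : GL (Fin 3) F) : M₃) := by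
    have h1 : (a : M₃) * (s⁻¹ • ((u⁻¹ : GL (Fin 3) F) : M₃)) = 1 := by
      rw [hau, smul_mul_assoc, mul_smul_comm, smul_smul, mul_inv_cancel₀ hs, one_smul, Units.mul_inv]
    rw [← mul_one ((a⁻¹ : GL (Fin 3) F) : M₃), ← h1, ← mul_assoc, Units.inv_mul, one_mul]
  refine ⟨_, _, apply_ne_zero (g := u) hc0, ?_, hH.asym (hH.conj hu) hc (by rw [vecMul_inv_dot, hc]) hd0⟩
  refine smul_ne_zero (mul_ne_zero (neg_ne_zero.2 fun e => h2 ?_) fun e => hne ?_) hφ0
  · have h4 : (2 : F) * 2 = 0 := by linear_combination e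
    exact (mul_self_eq_zero).1 h4
  · rw [hinv, Matrix.smul_mulVec, dotProduct_smul, Matrix.dotProduct_mulVec, e, smul_zero]

end Cfsg.Agent.Classical.SLThree.Singer
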