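import Cfsg.Agent.Lib.Classical.SLThree.Rational
import Cfsg.Agent.Lib.Classical.MaxSympSubfieldEven

/-!
Subfield subgroups are maximal in `SL(3, F)`.
-/

set_option autoImplicit false
set_option linter.unusedSectionVars false

namespace Cfsg.Agent.Classical.SLThree

open Matrix Module MaxTv

variable {F : Type*} [Field F]

local notation "V" => (Fin 3 → F)
local notation "M₃" => Matrix (Fin 3) (Fin 3) F

theorem subfield_maximal [Fintype F] (F₀ : Subfield F) (r : ℕ) (P : GL (Fin 3) F) (hr : r.Prime)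
    (hcard : Fintype.card F = Nat.card F₀ ^ r) :
    Geo.IsMaximalIn (Geo.specialLinear (Fin 3) F) (Geo.subfieldSubgroup F₀ P ⊓ Geo.specialLinear (Fin 3) F) := by
  classical
  have hrat_ne : ∀ i, (P : M₃) *ᵥ Pi.single i (1 : F) ≠ 0 := fun i h => by
    have := congrFun (gl_mulVec_injective P (show (P : M₃) *ᵥ (Pi.single i (1 : F) : V) = (P : M₃) *ᵥ 0 by
      rw [Matrix.mulVec_zero]; exact h)) i
    simp at this
  obtain ⟨c₀, hc₀⟩ : ∃ c₀ : F, c₀ ∉ F₀ := by
    by_contra hc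
    push Not at hc
    have h1 : Nat.card F₀ = Fintype.card F := by
      rw [← Nat.card_eq_fintype_card]
      exact Nat.card_congr ⟨Subtype.val, fun x => ⟨x, hc x⟩, fun _ => rfl, fun _ => rfl⟩
    rw [h1] at hcard
    exact hr.one_lt.ne (Nat.pow_right_injective Fintype.one_lt_card (by simpa using hcard))
  refine isMaximalIn_intro inf_le_right (fun hle => ?_) fun M hHM hMK g hgM hgH => ?_
  · -- a transvection outside
    have hd : (c₀ • ((e 0 : V) ᵥ* ((P⁻¹ : GL (Fin 3) F) : M₃))) ⬝ᵥ ((P : M₃) *ᵥ e 1) = 0 := by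
      rw [smul_dotProduct, vecMul_inv_dot, e_orth (by decide), smul_zero]
    obtain ⟨T, hT⟩ := exists_tv hd
    obtain ⟨a, ha, h⟩ := exists_of_mem_subfieldSubgroup (hle (det_tv hT hd)).1
    have h1 := h _ (rat_single (0 : Fin 3))
    have e0 := h1 0
    have e1 := h1 1
    simp only [hT, smul_dotProduct, vecMul_inv_dot, e, inv_mulVec_cancel, Matrix.mulVec_smul, Matrix.mulVec_add,
      Pi.smul_apply, Pi.add_apply, smul_eq_mul, single_dotProduct, Pi.single_eq_same, one_mul, mul_one,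
      Pi.single_eq_of_ne (show (1 : Fin 3) ≠ 0 by decide), Pi.single_eq_of_ne (show (0 : Fin 3) ≠ 1 by decide),
      mul_zero, zero_add, add_zero] at e0 e1
    exact hc₀ (by simpa [ha] using mul_mem (inv_mem e0) e1)
  have hgns : g ∉ Geo.subfieldSubgroup F₀ P := fun h => hgH ⟨h, hMK hgM⟩
  -- the frame
  obtain ⟨N, hN⟩ : ∃ N, N = M.comap (MulAut.conj P).toMonoidHom := ⟨_, rfl⟩
  have hroot : ∀ i j : Fin 3, i ≠ j → ∀ c ∈ F₀, InT N (e i) (c • e j) := fun i j hij c hc => by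
    rw [hN, inT_comap, Matrix.smul_vecMul]
    have hd : (c • ((e j : V) ᵥ* ((P⁻¹ : GL (Fin 3) F) : M₃))) ⬝ᵥ ((P : M₃) *ᵥ e i) = 0 := by
      rw [smul_dotProduct, vecMul_inv_dot, e_orth hij.symm, smul_zero]
    refine InT.of_mem _ hd fun T hT => hHM ⟨mem_subfieldSubgroup_of one_ne_zero fun x hx => ?_, det_tv hT hd⟩
    rw [one_smul, hT]
    refine hx.add ((rat_single i).smul ?_)
    obtain ⟨y, rfl⟩ := hx.exists_coe
    rw [smul_dotProduct, vecMul_inv_dot, e_dot]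
    exact mul_mem hc (y j).2
  obtain ⟨K, hK⟩ := exists_exact (M := N) fun i j hij => by
    have := hroot i j hij 1 (one_mem _)
    rwa [one_smul] at this
  have hle : F₀ ≤ K := fun c hc => (hK 0 1 (by decide) c).1 (hroot 0 1 (by decide) c hc)
  by_cases hKF : K ≤ F₀
  swap
  · obtain ⟨a, ha, han⟩ := SetLike.not_le_iff_exists.1 hKF
    have htop := subfield_top_of_mem hr hcard hle ha han
    subst htop
    intro x hx
    have h1 : P⁻¹ * x * P ∈ N := Exact.top hK (by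
      rw [mem_specialLinear_iff] at hx ⊢
      rw [Units.val_mul, Units.val_mul, Matrix.det_units_conj', hx])
    rw [hN, Subgroup.mem_comap] at h1
    simpa [mul_assoc] using h1
  exfalso
  have hKe : K = F₀ := le_antisymm hKF hle
  subst hKe
  refine hgns ?_
  obtain ⟨a, ha, h⟩ := exists_scalar_of_lines (F₀ := K) (P := P) (g := g) fun x hx => by
    rcases eq_or_ne x 0 with rfl | hx0
    · exact ⟨0, 0, Rat.zero, by simp⟩
    obtain ⟨y, hy⟩ : ∃ y, y = ((P⁻¹ : GL (Fin 3) F) : M₃) *ᵥ x := ⟨_, rfl⟩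
    have hyK : KV K y := fun i => hy ▸ hx i
    have hy0 : y ≠ 0 := fun h' => hx0 (by rw [← mulVec_inv_cancel P x, ← hy, h', Matrix.mulVec_zero])
    obtain ⟨χ, hχ, hχ0, hχy⟩ : ∃ χ : V, KV K χ ∧ χ ≠ 0 ∧ χ ⬝ᵥ y = 0 := by
      by_cases h0 : y 0 = 0
      · refine ⟨e 0, fun l => ?_, fun h' => one_ne_zero (α := F) (by simpa [e] using congrFun h' 0),
          by rw [e_dot, h0]⟩
        simp only [e, Pi.single_apply]; split_ifs <;> simp [one_mem, zero_mem]
      · refine ⟨![-(y 1), y 0, 0], fun l => ?_, fun h' => h0 (by simpa using congrFun h' 1), ?_⟩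
        · fin_cases l <;> simp [zero_mem, hyK 0, hyK 1]
        · simp [dotProduct, Fin.sum_univ_three]; ring
    have hyx : (P : M₃) *ᵥ y = x := by rw [hy, mulVec_inv_cancel]
    have h1 := hN ▸ hK.root hyK hχ hχy
    rw [inT_comap, hyx] at h1
    have h2 := h1.conj hgM
    obtain ⟨v, hv⟩ : ∃ v, v = ((P⁻¹ : GL (Fin 3) F) : M₃) *ᵥ ((g : M₃) *ᵥ x) := ⟨_, rfl⟩
    obtain ⟨φ, hφ⟩ : ∃ φ, φ = (χ ᵥ* ((P⁻¹ : GL (Fin 3) F) : M₃)) ᵥ* ((g⁻¹ : GL (Fin 3) F) : M₃) ᵥ* (P : M₃) :=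
      ⟨_, rfl⟩
    have hvφ : InT N v φ := by
      rw [hN, inT_comap, hv, mulVec_inv_cancel, hφ, Matrix.vecMul_vecMul _ (P : M₃), ← Units.val_mul,
        mul_inv_cancel, Units.val_one, Matrix.vecMul_one]
      exact h2
    have hd : φ ⬝ᵥ v = 0 := by
      rw [hφ, hv, ← Matrix.dotProduct_mulVec, mulVec_inv_cancel, vecMul_inv_dot, ← hyx, vecMul_inv_dot, hχy]
    have hv0 : v ≠ 0 := fun h' => hx0 (gl_mulVec_injective g (a₁ := x) (a₂ := 0) (by
      show (g : M₃) *ᵥ x = (g : M₃) *ᵥ 0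
      rw [Matrix.mulVec_zero, ← mulVec_inv_cancel P ((g : M₃) *ᵥ x), ← hv, h', Matrix.mulVec_zero]))
    have hφ0 : φ ≠ 0 := fun h' => hχ0 (dotProduct_eq _ _ fun z => by
      have := congrArg (fun ψ => ψ ⬝ᵥ (((P⁻¹ : GL (Fin 3) F) : M₃) *ᵥ ((g : M₃) *ᵥ ((P : M₃) *ᵥ z)))) h'
      simp only [hφ, zero_dotProduct] at this
      rw [← Matrix.dotProduct_mulVec, mulVec_inv_cancel, vecMul_inv_dot, vecMul_inv_dot] at this
      rw [this, zero_dotProduct])
    obtain ⟨c, s, hs, hcs⟩ := (rational hK hv0 hφ0 hd hvφ).1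
    refine ⟨c, (P : M₃) *ᵥ s, fun i => by rw [inv_mulVec_cancel]; exact hs i, ?_⟩
    rw [← Matrix.mulVec_smul, ← hcs, hv, mulVec_inv_cancel]
  exact mem_subfieldSubgroup_of ha h

end Cfsg.Agent.Classical.SLThree
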