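import Cfsg.Agent.Lib.Classical.SLThree.Forms

/-!
Unitary similitudes are maximal in `SL` in dimension three.
-/

set_option autoImplicit false
set_option linter.unusedSectionVars false

namespace Cfsg.Agent.Classical.SLThree

open Matrix Module MaxTv

variable {F : Type*} [Field F] {σ : F ≃+* F} {f : (Fin 3 → F) → (Fin 3 → F) → F}

local notation "V" => (Fin 3 → F)
local notation "M₃" => Matrix (Fin 3) (Fin 3) F

/-- A pseudo-reflection preserving a Hermitian form. -/
theorem exists_pseudo [Finite F] (hu : Herm σ f) {v : V} (hv : f v v ≠ 0) {a : F} (ha : a * σ a = 1) :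
    ∃ g : GL (Fin 3) F, (∀ x y, f ((g : M₃) *ᵥ x) ((g : M₃) *ᵥ y) = f x y) ∧ (g : M₃).det = a ∧
      ∀ x, (g : M₃) *ᵥ x = x + ((a - 1) / f v v * f x v) • v := by
  have hs := hu.toSesq
  have ha0 : a ≠ 0 := fun e => by rw [e, zero_mul] at ha; exact zero_ne_one ha
  have hd : 1 + ((a - 1) / f v v) • fn f v ⬝ᵥ v = a := by
    rw [smul_dotProduct, fn_dot hs, smul_eq_mul, div_mul_cancel₀ _ hv, add_sub_cancel]
  obtain ⟨g, hg, hdet⟩ := exists_rankOne v (((a - 1) / f v v) • fn f v) (by rw [hd]; exact ha0)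
  have hgx : ∀ x, (g : M₃) *ᵥ x = x + ((a - 1) / f v v * f x v) • v := fun x => by
    rw [hg, smul_dotProduct, fn_dot hs, smul_eq_mul]
  refine ⟨g, fun x y => ?_, by rw [hdet, hd], hgx⟩
  rw [hgx, hgx]
  simp only [hs.add_left, hs.add_right, hs.smul_left, hs.smul_right, map_mul, map_div₀, map_sub, map_one,
    hu.self_fixed, ← hu.herm v y]
  field_simp
  linear_combination (f x v * f v y) * ha

/-- Unitary similitudes are maximal in `SL`. -/
theorem unitary_maximal [Finite F] (hf : Geo.IsUnitaryForm σ f) :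
    Geo.IsMaximalIn (Geo.specialLinear (Fin 3) F) (Geo.similarityGroup f ⊓ Geo.specialLinear (Fin 3) F) := by
  have hu := herm_of_isUnitaryForm hf
  have hs := hu.toSesq
  obtain ⟨τ, hτ0, hτ⟩ := hu.exists_skew
  obtain ⟨z, hz⟩ := hu.exists_trace
  have htop : Fintype.card (Fin 3) + 1 < 2 * finrank F (⊤ : Submodule F V) := by
    rw [finrank_top, Module.finrank_pi, Fintype.card_fin]; norm_num
  have h3 : 2 ≤ finrank F (⊤ : Submodule F V) := by rw [finrank_top, Module.finrank_pi, Fintype.card_fin]; norm_num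
  refine isMaximalIn_intro inf_le_right (fun hle => ?_) fun M hHM hMK g hgM hgH => ?_
  · obtain ⟨v, -, hv0, hvv⟩ := hu.exists_iso (S := ⊤) h3
    obtain ⟨w, hw, hw'⟩ := exists_ker_notMem (S := F ∙ v) (hs.lin v)
      (by rw [finrank_span_singleton hv0, Fintype.card_fin]; norm_num)
    have hvw : f v w = 0 := hs.refl _ _ hw
    obtain ⟨g, hg⟩ := exists_tv (φ := fn f w) (v := v) (by rw [fn_dot hs, hvw])
    exact not_mem_similarity hs hvv hvw hv0
      (fun c e => hw' (Submodule.mem_span_singleton.2 ⟨c, e.symm⟩))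
      (fun x => by rw [hg, fn_dot hs]) (hle (det_tv hg (by rw [fn_dot hs, hvw]))).1
  have hgns : g ∉ Geo.similarityGroup f := fun h => hgH ⟨h, hMK hgM⟩
  have hT : ∀ (v : V) (c : F), f v v = 0 → c + σ c = 0 → InT M v (fn f (c • v)) := fun v c hv hc => by
    obtain ⟨t, ht, -, htx⟩ := exists_isometry_tv hs hv
      (hu.tv_cond (c := σ c) (by rw [hu.invol, add_comm]; exact hc) v)
    exact ⟨t, hHM ht, fun x => by rw [htx, fn_dot hs, hs.smul_right]⟩
  have hiso : ∀ k : GL (Fin 3) F, k ∈ Geo.specialLinear (Fin 3) F →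
      (∀ x y, f ((k : M₃) *ᵥ x) ((k : M₃) *ᵥ y) = f x y) → k ∈ M := fun k hk hki =>
    hHM ⟨⟨1, fun x y => by rw [hki, Units.val_one, one_mul]⟩, hk⟩
  -- irreducibility
  have hirr : Irr M := by
    intro W hW
    have hmove : ∀ u : V, f u u = 0 → ∀ x ∈ W, f x u ≠ 0 → u ∈ W := fun u huu x hx hxu => by
      obtain ⟨t, ht, htx⟩ := hT u τ huu hτ
      have h1 : (t : M₃) *ᵥ x ∈ W := by
        have := hW _ ⟨t, ht, rfl⟩ ⟨x, hx, rfl⟩
        rwa [Matrix.toLin'_apply] at this
      rw [htx, fn_dot hs, hs.smul_right] at h1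
      have h2 := sub_mem h1 hx
      rw [add_sub_cancel_left] at h2
      exact (W.smul_mem_iff (mul_ne_zero (σ.map_ne_zero_iff.2 hτ0) hxu)).1 h2
    by_cases hW0 : ∃ u ∈ W, u ≠ 0 ∧ f u u = 0
    · obtain ⟨u, huW, hu0, huu⟩ := hW0
      right
      refine eq_top_iff.2 ((hu.le_span_iso htop).trans (Submodule.span_le.2 fun b hb => ?_))
      by_cases hub : f u b = 0
      · by_cases hbu : ∀ t : F, b ≠ t • u
        · exfalso
          have hT2 := hu.finrank_le_of_iso (T := Submodule.span F {u, b}) fun x hx => by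
            obtain ⟨s, t, rfl⟩ := Submodule.mem_span_pair.1 hx
            simp [hs.add_left, hs.add_right, hs.smul_left, hs.smul_right, huu, hub, hs.refl _ _ hub, hb.2]
          have hli : LinearIndependent F ![u, b] :=
            (LinearIndependent.pair_iff' hu0).2 fun t e => hbu t e.symm
          have := finrank_span_eq_card hli
          rw [show Set.range ![u, b] = {u, b} by simp [Set.pair_comm]] at this
          rw [this, Fintype.card_fin, Fintype.card_fin] at hT2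
          omega
        · push Not at hbu
          obtain ⟨t, rfl⟩ := hbu
          exact W.smul_mem t huW
      · exact hmove b hb.2 u huW hub
    · push Not at hW0
      left
      refine (Submodule.eq_bot_iff _).2 fun x hx => ?_
      by_contra hx0
      obtain ⟨y, hy⟩ := hs.exists_left hx0
      obtain ⟨a, -, haa, hax⟩ := hu.exists_iso_left htop (u := x) ⟨y, trivial, hy⟩
      have ha0 : a ≠ 0 := fun e => hax (by rw [e, hs.zero_left])
      exact hW0 a (hmove a haa x hx fun e => hax (hs.refl _ _ e)) ha0 haa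
  -- a transvection outside the unitary group
  obtain ⟨v₀, w₀, hv₀, hvw₀, hne₀, h₀⟩ :
      ∃ v₀ w₀ : V, v₀ ≠ 0 ∧ f v₀ w₀ = 0 ∧ w₀ ∉ (F ∙ v₀) ∧ InT M v₀ (fn f w₀) := by
    by_contra hc
    push Not at hc
    have hmu : ∀ u : V, u ≠ 0 → f u u = 0 →
        ∃ μ : F, ∀ x, f ((g : M₃) *ᵥ x) ((g : M₃) *ᵥ u) = μ * f x u := fun u hu0 huu => by
      obtain ⟨w, hw⟩ := fn_surjective hs (fn f (τ • u) ᵥ* ((g⁻¹ : GL (Fin 3) F) : M₃))
      have hwx : ∀ x, f ((g : M₃) *ᵥ x) w = σ τ * f x u := fun x => by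
        rw [← fn_dot hs, hw, vecMul_inv_dot, fn_dot hs, hs.smul_right]
      have h1 : InT M ((g : M₃) *ᵥ u) (fn f w) := by
        rw [hw]; exact (hT u τ huu hτ).conj hgM
      have h2 : f ((g : M₃) *ᵥ u) w = 0 := by rw [hwx, huu, mul_zero]
      have hgu : (g : M₃) *ᵥ u ≠ 0 := fun h => hu0 (by
        simpa [Matrix.mulVec_mulVec, ← Units.val_mul] using congrArg (fun z => ((g⁻¹ : GL (Fin 3) F) : M₃) *ᵥ z) h)
      obtain ⟨d, hd⟩ := Submodule.mem_span_singleton.1 (not_imp_not.1 (hc _ _ hgu h2) h1)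
      obtain ⟨x, hx⟩ := hs.exists_left hu0
      have hd0 : σ d ≠ 0 := fun e => mul_ne_zero (σ.map_ne_zero_iff.2 hτ0) hx (by
        rw [← hwx, ← hd, hs.smul_right, e, zero_mul])
      refine ⟨(σ d)⁻¹ * σ τ, fun y => ?_⟩
      rw [mul_assoc, ← hwx y, ← hd, hs.smul_right, inv_mul_cancel_left₀ hd0]
    choose μ hμ using hmu
    have hflip : ∀ a b (ha : a ≠ 0) (ha' : f a a = 0) (hb : b ≠ 0) (hb' : f b b = 0), f a b ≠ 0 →
        μ a ha ha' = σ (μ b hb hb') := fun a b ha ha' hb hb' hab => by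
      have e1 := congrArg σ (hμ b hb hb' a)
      rw [map_mul, ← hu.herm, ← hu.herm, hμ a ha ha' b] at e1
      exact mul_right_cancel₀ (fun e => hab (hs.refl _ _ e)) e1
    have heq : ∀ a b (ha : a ≠ 0) (ha' : f a a = 0) (hb : b ≠ 0) (hb' : f b b = 0),
        μ a ha ha' = μ b hb hb' := fun a b ha ha' hb hb' => by
      obtain ⟨x₁, hx₁⟩ := hs.exists_left ha
      obtain ⟨x₂, hx₂⟩ := hs.exists_left hb
      obtain ⟨x, -, hxx, hxa, hxb⟩ := hu.exists_iso_both htop ⟨x₁, trivial, hx₁⟩ ⟨x₂, trivial, hx₂⟩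
      have hx : x ≠ 0 := fun e => hxa (by rw [e, hs.zero_left])
      exact σ.injective (by rw [← hflip x a hx hxx ha ha' hxa, hflip x b hx hxx hb hb' hxb])
    obtain ⟨u₀, -, hu₀, hu₀'⟩ := hu.exists_iso (S := ⊤) h3
    have hfix : σ (μ u₀ hu₀ hu₀') = μ u₀ hu₀ hu₀' := by
      obtain ⟨x₁, hx₁⟩ := hs.exists_left hu₀
      obtain ⟨x, -, hxx, hxa⟩ := hu.exists_iso_left htop ⟨x₁, trivial, hx₁⟩
      have hx : x ≠ 0 := fun e => hxa (by rw [e, hs.zero_left])
      rw [← hflip x u₀ hx hxx hu₀ hu₀' hxa, heq]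
    set c := μ u₀ hu₀ hu₀' with hcdef
    have hall : ∀ x u, f ((g : M₃) *ᵥ u) ((g : M₃) *ᵥ x) = c * f u x := fun x => by
      let L : V →ₗ[F] F := (hs.lin ((g : M₃) *ᵥ x)).comp (Matrix.mulVecLin (g : M₃)) - c • hs.lin x
      have hL : (⊤ : Submodule F V) ≤ LinearMap.ker L := by
        refine (hu.le_span_iso htop).trans (Submodule.span_le.2 fun a ha => ?_)
        rcases eq_or_ne a 0 with rfl | ha0
        · exact zero_mem _
        have := congrArg σ (hμ a ha0 ha.2 x)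
        rw [map_mul, ← hu.herm, ← hu.herm, heq a u₀ ha0 ha.2 hu₀ hu₀', ← hcdef, hfix] at this
        simp [L, this]
      intro u
      have := LinearMap.mem_ker.1 (hL (Submodule.mem_top (x := u)))
      simpa [L, sub_eq_zero] using this
    have hne : c ≠ 0 := fun e => by
      obtain ⟨y, hy⟩ := hs.exists_left hu₀
      refine hy ?_
      have := hall (((g⁻¹ : GL (Fin 3) F) : M₃) *ᵥ u₀) (((g⁻¹ : GL (Fin 3) F) : M₃) *ᵥ y)
      rwa [Matrix.mulVec_mulVec, Matrix.mulVec_mulVec, ← Units.val_mul, mul_inv_cancel, Units.val_one,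
        Matrix.one_mulVec, Matrix.one_mulVec, e, zero_mul] at this
    exact hgns ⟨Units.mk0 c hne, fun x u => by rw [hall, Units.val_mk0]⟩
  have hw₀ : w₀ ≠ 0 := fun e => hne₀ (by rw [e]; exact zero_mem _)
  have hfn0 : ∀ u : V, u ≠ 0 → fn f u ≠ 0 := fun u h e => h (fn_injective hs (e.trans (fn_zero hs).symm))
  have hwv₀ : f w₀ v₀ = 0 := hs.refl _ _ hvw₀
  have hne₀' : ∀ t : F, w₀ ≠ t • v₀ := fun t e => hne₀ (Submodule.mem_span_singleton.2 ⟨t, e.symm⟩)
  have htr : ∀ n s : F, σ n = n → ∃ e, e + σ e = -(s * σ s * n) := fun n s hn => by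
    refine ⟨z / (z + σ z) * -(s * σ s * n), ?_⟩
    rw [map_mul, map_div₀, map_add, hu.invol, map_neg, map_mul, map_mul, hn, hu.invol, add_comm (σ z) z]
    field_simp
    ring
  by_cases hv₀v : f v₀ v₀ = 0
  · have hw₀w : f w₀ w₀ ≠ 0 := fun e => by
      have hT2 := hu.finrank_le_of_iso (T := Submodule.span F {v₀, w₀}) fun x hx => by
        obtain ⟨s, t, rfl⟩ := Submodule.mem_span_pair.1 hx
        simp [hs.add_left, hs.add_right, hs.smul_left, hs.smul_right, hv₀v, hvw₀, hwv₀, e]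
      have hli : LinearIndependent F ![v₀, w₀] :=
        (LinearIndependent.pair_iff' hv₀).2 fun t e => hne₀' t e.symm
      have := finrank_span_eq_card hli
      rw [show Set.range ![v₀, w₀] = {v₀, w₀} by simp [Set.pair_comm]] at this
      rw [this, Fintype.card_fin, Fintype.card_fin] at hT2
      omega
    refine specialLinear_le_of_root hirr hv₀ (hfn0 v₀ hv₀) (by rw [fn_dot hs, hv₀v]) fun c => ?_
    obtain ⟨e, he⟩ := htr (f w₀ w₀) (σ c / f w₀ w₀) (hu.self_fixed _)
    obtain ⟨k, hk, hki, hkv, hkw⟩ := exists_heisenberg hs hu.herm hv₀v hvw₀ hw₀w (σ c) e he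
    have h1 := h₀.fn_conj hs (hiso k hk hki) hki
    rw [hkv, hkw] at h1
    have h2 := h1.fn_sub hs h₀ (by rw [hs.add_right, hs.smul_right, hvw₀, hv₀v, mul_zero, add_zero]) hvw₀
    rwa [add_sub_cancel_left, MaxTv.fn_smul hs, hu.invol] at h2
  · by_cases hw₀w : f w₀ w₀ = 0
    · refine specialLinear_le_of_root hirr hw₀ (hfn0 w₀ hw₀) (by rw [fn_dot hs, hw₀w]) fun c => ?_
      obtain ⟨e, he⟩ := htr (f v₀ v₀) (c / f v₀ v₀) (hu.self_fixed _)
      obtain ⟨k, hk, hki, hkw, hkv⟩ := exists_heisenberg hs hu.herm hw₀w hwv₀ hv₀v c e he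
      have h1 := h₀.fn_conj hs (hiso k hk hki) hki
      rw [hkv, hkw] at h1
      have h2 := h1.add_left (h₀.neg_left (by rw [fn_dot hs, hvw₀]))
        (by rw [dotProduct_neg, fn_dot hs, hvw₀, neg_zero])
      rw [add_neg_cancel_comm] at h2
      exact h2.scale_right
    · -- both ends anisotropic
      have hφ : fn f w₀ ⬝ᵥ v₀ = 0 := by rw [fn_dot hs, hvw₀]
      refine specialLinear_le_of_root hirr hv₀ (hfn0 w₀ hw₀) hφ (inR_of_coef hφ ?_)
      obtain ⟨u, hu'⟩ : ∃ u, u = crossProduct (fn f v₀) (fn f w₀) := ⟨_, rfl⟩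
      have hind : Indep (fn f v₀) (fn f w₀) := indep_of_not_mem (hfn0 v₀ hv₀) fun t e =>
        hne₀' (σ.symm t) (fn_injective hs (by rw [e, MaxTv.fn_smul hs, RingEquiv.apply_symm_apply]))
      have huv : f u v₀ = 0 := by rw [hu', ← fn_dot hs, dot_self_cross]
      have huw : f u w₀ = 0 := by rw [hu', ← fn_dot hs, dot_cross_self]
      have hu0 : u ≠ 0 := hu' ▸ hind
      have huu : f u u ≠ 0 := fun e => by
        obtain ⟨x, hx⟩ := hs.exists_left hu0
        obtain ⟨y, hy⟩ : ∃ y, y = x - (f x v₀ / f v₀ v₀) • v₀ - (f x w₀ / f w₀ w₀) • w₀ := ⟨_, rfl⟩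
        have y1 : fn f v₀ ⬝ᵥ y = 0 := by
          rw [fn_dot hs, hy, hs.sub_left, hs.sub_left, hs.smul_left, hs.smul_left, hwv₀, mul_zero, sub_zero,
            div_mul_cancel₀ _ hv₀v, sub_self]
        have y2 : fn f w₀ ⬝ᵥ y = 0 := by
          rw [fn_dot hs, hy, hs.sub_left, hs.sub_left, hs.smul_left, hs.smul_left, hvw₀, mul_zero, sub_zero,
            div_mul_cancel₀ _ hw₀w, sub_self]
        obtain ⟨t, ht⟩ := hind.functional hu0 (by rw [dotProduct_comm, fn_dot hs, huv])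
          (by rw [dotProduct_comm, fn_dot hs, huw]) (by rwa [dotProduct_comm]) (by rwa [dotProduct_comm])
        have h5 : f y u = 0 := by rw [ht, hs.smul_left, e, mul_zero]
        rw [hy, hs.sub_left, hs.sub_left, hs.smul_left, hs.smul_left, hs.refl _ _ huv, hs.refl _ _ huw] at h5
        exact hx (by simpa using h5)
      refine eq_top_of_multipliers (g := 1) ?_ one_ne_zero
        (multipliers_eq_top_of_norm hu.ne_refl hu.invol fun a ha => mem_multipliers.2 fun c hc => ?_)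
      · rwa [mem_coef, one_smul]
      obtain ⟨g₁, i₁, d₁, x₁⟩ := exists_pseudo hu hv₀v ha
      obtain ⟨g₂, i₂, d₂, x₂⟩ := exists_pseudo hu huu (a := σ a) (by rw [hu.invol, mul_comm, ha])
      have hm : g₁ * g₂ ∈ M := hiso _ (mem_specialLinear_iff.2 (by rw [Units.val_mul, Matrix.det_mul, d₁, d₂, ha]))
        fun x y => by rw [Units.val_mul, ← Matrix.mulVec_mulVec, ← Matrix.mulVec_mulVec, i₁, i₂]
      have hkv : ((g₁ * g₂ : GL (Fin 3) F) : M₃) *ᵥ v₀ = a • v₀ := by
        rw [Units.val_mul, ← Matrix.mulVec_mulVec, x₂, hs.refl _ _ huv, mul_zero, zero_smul, add_zero, x₁,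
          div_mul_cancel₀ _ hv₀v]
        module
      have hkw : ((g₁ * g₂ : GL (Fin 3) F) : M₃) *ᵥ w₀ = w₀ := by
        rw [Units.val_mul, ← Matrix.mulVec_mulVec, x₂, hs.refl _ _ huw, mul_zero, zero_smul, add_zero, x₁,
          hwv₀, mul_zero, zero_smul, add_zero]
      have hc' : InT M v₀ (fn f (σ c • w₀)) := by rw [MaxTv.fn_smul hs, hu.invol]; exact hc
      have h1 := hc'.fn_conj hs hm fun x y => by
        rw [Units.val_mul, ← Matrix.mulVec_mulVec, ← Matrix.mulVec_mulVec, i₁, i₂]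
      rw [hkv, Matrix.mulVec_smul, hkw, MaxTv.fn_smul hs, hu.invol] at h1
      have h2 := h1.scale_right
      rw [smul_smul] at h2
      exact h2

end Cfsg.Agent.Classical.SLThree
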